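import Cfsg.Agent.Lib.J3.Code

/-!
# Codes of the generators of the triple cover of J₃
-/

set_option autoImplicit false

namespace Cfsg.Agent.Lib.J3

open Cfsg.Spor Cfsg.Agent.Lib.CosetEnum

/-- The identity code. -/
def oneC : ℕ := 0x100401004010040100401

/-- Codes of the matrices `j3A`. -/
def codeA (Z : F9) : ℕ :=
  [0x100401004010040100401,
    0x20080000802000020080100001004000040100001,
    0x20080000802000020080000401000010040000401,
    0x20080200802008000000100401000000000100401,
    0x20000200002008020080000401004010000100001,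
    0x80200800008020080100001004010000000401,
    0x20080200802008000000000000004010040100401,
    0x80200800008020080100400000010040100001,
    0x20000200002008020080100400004000040000401].getD (ix Z) 0

/-- Codes of the matrices `j3E`. -/
def codeE (Z : F9) : ℕ :=
  [0x20080200802008020080100400004010000000001,
    0x20080200802008020000300001004000040000400,
    0x20080200802008000080200401000010040100000,
    0x20080200802000020080300400000000040100400,
    0x20080200800008020080300001000010000100001,
    0x20080200002008020080200401004000000000401,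
    0x20080000802008020080200001004010000100400,
    0x20000200802008020080200400004000040100001,
    0x80200802008020080300000000010040000401].getD (ix Z) 0

/-- Codes of the matrices `j3D`. -/
def codeD (Z : F9) : ℕ :=
  [0x100401004010040100401,
    0x100000004000000000040002001020080040802,
    0x10000000400000000000080204000008100080204,
    0x4010000000000004010060000200802008,
    0x10000000040000001020088100400004010,
    0x20000000000200002008010040800401020,
    0x401000000000000000000008020080200c010040,
    0x2200000008100400204001020080,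
    0x4001000010040800401022000100].getD (ix Z) 0

/-- Codes of the matrices `j3B`. -/
def codeB (Z : F9) : ℕ :=
  [0,
    0x20800102080010208001,
    0x800800a0020021001001,
    0x100401004010040100401,
    0x2044008004080810001,
    0x8022000440104002001,
    0x10100210100200080801,
    0x40010800808400420001,
    0x4200401002802004001].getD (ix Z) 0

/-- Codes of the matrices `j3C`. -/
def codeC (Z : F9) : ℕ :=
  [0,
    0x1a09812b20b0260388c01,
    0xb0c813261a0251181c01,
    0x190d00396130231309401,
    0xe252c09846d04c32001,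
    0x4c074c08c4ac86816001,
    0x1305811b4190071289801,
    0x4a236401c4c982c34001,
    0x4626680940e586426001].getD (ix Z) 0

/-- The two bits of an entry. -/
def bitsAt (M : ℕ) (w z : F9) : Bool × Bool :=
  (Nat.testBit M (9 * ix z + ix w), Nat.testBit M (81 + (9 * ix z + ix w)))

/-- Bits of a power of `ω`. -/
def powB (n : ZMod 3) : Bool × Bool :=
  if n = 0 then (true, false) else if n = 1 then (false, true) else (true, true)

/-- Bits of the coefficient of a translation. -/
def lamB (Z z : F9) : Bool × Bool :=
  if z = 0 then (true, false)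
  else if F9.div Z z = F9.I - F9.one then (false, true)
  else if F9.div Z z = -F9.I - F9.one then (true, true)
  else (true, false)

theorem oneC_bits : ∀ w z, bitsAt oneC w z = if w = z then (true, false) else (false, false) := by
  decide +kernel

theorem codeA_bits : ∀ Z w z, bitsAt (codeA Z) w z =
    if w = z then powB (Z.1 * z.1 + Z.2 * z.2) else (false, false) := by decide +kernel

theorem codeE_bits : ∀ Z w z, bitsAt (codeE Z) w z =
    if w = z then powB ((Z.1 - z.1) ^ 2 + (Z.2 - z.2) ^ 2) else (false, false) := by decide +kernel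

theorem codeD_bits : ∀ Z w z, bitsAt (codeD Z) w z =
    if w = z + Z then lamB Z z else (false, false) := by decide +kernel

theorem codeB_bits : ∀ Z, Z ≠ 0 → ∀ w z, bitsAt (codeB Z) w z =
    if w = F9.mul Z z then (true, false) else (false, false) := by decide +kernel

theorem codeC_bits : ∀ Z, Z ≠ 0 → ∀ w z, bitsAt (codeC Z) w z =
    if z = 0 then (if w = 0 then (true, false) else (false, false))
    else if w = -F9.div Z z ∨ w = F9.mul F9.I (F9.div Z z) ∨ w = -F9.mul F9.I (F9.div Z z)
      then (true, false) else (false, false) := by decide +kernel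

section field
variable {F : Type*} [Field F] {ω : F}

theorem two_eq_zero [Fintype F] (hF : Fintype.card F = 4) : (2 : F) = 0 := by
  have h : ((Fintype.card F : ℕ) : F) = 0 := Nat.cast_card_eq_zero F
  rw [hF] at h
  have h4 : (2 : F) * 2 = 0 := by rw [← h]; norm_num
  exact mul_self_eq_zero.mp h4

theorem dm_eq_of {M : ℕ} {g : F9 → F9 → Bool × Bool} (h : ∀ w z, bitsAt M w z = g w z) :
    dm ω M = Matrix.of fun w z => el ω (g w z).1 (g w z).2 := by
  ext w z
  rw [Matrix.of_apply, ← h, dm_apply]
  rfl

theorem el_powB (hω : ω ^ 2 + ω + 1 = 0) (h2 : (2 : F) = 0) (n : ZMod 3) :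
    el ω (powB n).1 (powB n).2 = omegaPow F ω n := by
  have e : ω ^ 2 = 1 + ω := by linear_combination hω - (1 + ω) * h2
  have h : n = 0 ∨ n = 1 ∨ n = 2 := by revert n; decide
  rcases h with rfl | rfl | rfl
  · simp [powB, el, omegaPow]
  · simp [powB, el, omegaPow, ZMod.val_one]
  · have : (2 : ZMod 3).val = 2 := rfl
    simp [powB, el, omegaPow, this, e, show (2 : ZMod 3) ≠ 0 by decide,
      show (2 : ZMod 3) ≠ 1 by decide]

theorem dm_one : dm ω oneC = 1 := by
  rw [dm_eq_of oneC_bits]
  ext w z
  rw [Matrix.of_apply, Matrix.one_apply]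
  split <;> simp [el]

theorem dm_codeA (hω : ω ^ 2 + ω + 1 = 0) (h2 : (2 : F) = 0) (Z : F9) :
    dm ω (codeA Z) = j3A F ω Z := by
  rw [dm_eq_of (codeA_bits Z)]
  ext w z
  rw [Matrix.of_apply, j3A, Matrix.diagonal_apply]
  split
  · subst w; exact el_powB hω h2 _
  · simp [el]

theorem dm_codeE (hω : ω ^ 2 + ω + 1 = 0) (h2 : (2 : F) = 0) (Z : F9) :
    dm ω (codeE Z) = j3E F ω Z := by
  rw [dm_eq_of (codeE_bits Z)]
  ext w z
  rw [Matrix.of_apply, j3E, Matrix.diagonal_apply]
  split
  · subst w; exact el_powB hω h2 _
  · simp [el]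

theorem el_lamB (hω : ω ^ 2 + ω + 1 = 0) (h2 : (2 : F) = 0) (Z z : F9) :
    el ω (lamB Z z).1 (lamB Z z).2 = j3Lam F ω Z z := by
  have e : ω ^ 2 = 1 + ω := by linear_combination hω - (1 + ω) * h2
  unfold lamB j3Lam
  split_ifs <;> simp [el, e]

theorem dm_codeD (hω : ω ^ 2 + ω + 1 = 0) (h2 : (2 : F) = 0) (Z : F9) :
    dm ω (codeD Z) = j3D F ω Z := by
  rw [dm_eq_of (codeD_bits Z)]
  ext w z
  rw [Matrix.of_apply, j3D, Matrix.of_apply]
  split
  · exact el_lamB hω h2 _ _
  · simp [el]

theorem dm_codeB {Z : F9} (hZ : Z ≠ 0) : dm ω (codeB Z) = j3B F Z := by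
  rw [dm_eq_of (codeB_bits Z hZ)]
  ext w z
  rw [Matrix.of_apply, j3B, Matrix.of_apply]
  split <;> simp [el]

theorem dm_codeC {Z : F9} (hZ : Z ≠ 0) : dm ω (codeC Z) = j3C F Z := by
  rw [dm_eq_of (codeC_bits Z hZ)]
  ext w z
  rw [Matrix.of_apply, j3C, Matrix.of_apply]
  split_ifs <;> simp [el]

theorem el_eq_zero (hω : ω ^ 2 + ω + 1 = 0) {a b : Bool} (h : el ω a b = 0) :
    a = false ∧ b = false := by
  have h0 : ω ≠ 0 := fun e => one_ne_zero (α := F) (by simp [e] at hω)
  cases a <;> cases b
  · exact ⟨rfl, rfl⟩
  · simp [el, h0] at h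
  · simp [el] at h
  · simp [el] at h
    exact absurd (by linear_combination hω - ω * h : (1 : F) = 0) one_ne_zero

theorem el_inj (hω : ω ^ 2 + ω + 1 = 0) (h2 : (2 : F) = 0) {a b c d : Bool}
    (h : el ω a b = el ω c d) : a = c ∧ b = d := by
  have hz : el ω (a ^^ c) (b ^^ d) = 0 := by
    rw [el_add ω h2, h]; linear_combination el ω c d * h2
  obtain ⟨h1, h3⟩ := el_eq_zero hω hz
  exact ⟨by simpa using h1, by simpa using h3⟩

/-- Two codes have the same matrix exactly when they agree on 162 bits. -/
theorem dm_eq_iff (hω : ω ^ 2 + ω + 1 = 0) (h2 : (2 : F) = 0) (M N : ℕ) :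
    dm ω M = dm ω N ↔ Nat.land M m162 = Nat.land N m162 := by
  change _ ↔ M &&& m162 = N &&& m162
  have key : M &&& m162 = N &&& m162 ↔ ∀ i < 162, M.testBit i = N.testBit i := by
    constructor
    · intro h i hi
      have := congrArg (fun x => x.testBit i) h
      simp only [m162, Nat.testBit_and, Nat.testBit_two_pow_sub_one, hi, decide_true, Bool.and_true] at this
      exact this
    · intro h
      apply Nat.eq_of_testBit_eq
      intro i
      rw [Nat.testBit_and, Nat.testBit_and, m162, Nat.testBit_two_pow_sub_one]
      by_cases hi : i < 162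
      · simp [h i hi]
      · simp [hi]
  rw [key]
  constructor
  · intro h i hi
    obtain ⟨z, hz⟩ := ix_surj (i % 81 / 9) (by omega)
    obtain ⟨w, hw⟩ := ix_surj (i % 9) (by omega)
    have he := congrFun (congrFun h w) z
    rw [dm_apply, dm_apply, hz, hw] at he
    obtain ⟨h1, h3⟩ := el_inj hω h2 he
    by_cases hi' : i < 81
    · rwa [show 9 * (i % 81 / 9) + i % 9 = i by omega] at h1
    · rwa [show 81 + (9 * (i % 81 / 9) + i % 9) = i by omega] at h3
  · intro h
    ext w z
    have h1 := ix_lt w
    have h3 := ix_lt z
    rw [dm_apply, dm_apply, h _ (by omega), h _ (by omega)]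

theorem dm_zero : dm ω 0 = 0 := by
  ext w z
  simp [dm_apply, el]

end field

end Cfsg.Agent.Lib.J3
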