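import Cfsg.Agent.Lib.J3.Tables

/-!
# Kernel checks of the coset tables
-/

set_option autoImplicit false
set_option maxRecDepth 100000

namespace Cfsg.Agent.Lib.J3

open Cfsg.Agent.Lib.CosetEnum

theorem tblThree_ok : allUpTo tblThree.ok 0 288 = true := by decide +kernel

theorem tblTwo_ok : allUpTo tblTwo.ok 0 85 = true := by decide +kernel

theorem tblOne_ok_a : allUpTo tblOne.ok 0 1500 = true := by decide +kernel

theorem tblOne_ok_b : allUpTo tblOne.ok 1500 1500 = true := by decide +kernel

theorem tblOne_ok_c : allUpTo tblOne.ok 3000 1500 = true := by decide +kernel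

theorem tblOne_ok_d : allUpTo tblOne.ok 4500 1656 = true := by decide +kernel

theorem tblThree_spec : ∀ i < 288, tblThree.ok i = true := fun i hi =>
  of_allUpTo tblThree_ok i (Nat.zero_le i) (by omega)

theorem tblTwo_spec : ∀ i < 85, tblTwo.ok i = true := fun i hi =>
  of_allUpTo tblTwo_ok i (Nat.zero_le i) (by omega)

theorem tblOne_spec : ∀ i < 6156, tblOne.ok i = true :=
  allUpTo_append
    (allUpTo_append
      (allUpTo_append (fun i hi => of_allUpTo tblOne_ok_a i (Nat.zero_le i) (by omega))
        tblOne_ok_b)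
      tblOne_ok_c)
    tblOne_ok_d

end Cfsg.Agent.Lib.J3
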