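import Cfsg.Agent.Lib.J3.Tables

/-!
# Further kernel checks: separation, words, suborbits
-/

set_option autoImplicit false
set_option maxRecDepth 100000

namespace Cfsg.Agent.Lib.J3

open Cfsg.Spor Cfsg.Agent.Lib.CosetEnum

/-- Product of a word. -/
noncomputable def wordC (g : ℕ → ℕ) (w : List ℕ) : ℕ :=
  List.rec oneC (fun a _ ih => mulC (g a) ih) w

/-- A code is nonzero on its 162 bits. -/
noncomputable def nzC (M : ℕ) : Bool :=
  Bool.rec true false (Nat.beq (Nat.land M m162) 0)

/-- Coordinates of the distinguished line in the basis of the subspace. -/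
def coordC : ℕ := 19342813113834066795298818

/-- Coordinates of the distinguished line in the basis of the moved subspace. -/
def coordMovedC : ℕ := 12089258196146291747061772

theorem xPow_inv : mulC xC (wordC (fun _ => xC) (List.replicate 18 0)) = oneC := by decide +kernel

theorem yPow_inv : mulC yC (wordC (fun _ => yC) (List.replicate 18 0)) = oneC := by decide +kernel

theorem xPow_all : wordC (fun _ => xC) (List.replicate 19 0) = oneC := by decide +kernel

theorem yPow_all : wordC (fun _ => yC) (List.replicate 19 0) = oneC := by decide +kernel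

theorem k0_word : wordC tblOne.gen wordK0 = k0C := by decide +kernel

theorem k1_word : wordC tblOne.gen wordK1 = k1C := by decide +kernel

theorem h0_word : wordC tblTwo.gen wordH0 = h0C := by decide +kernel

theorem h1_word : wordC tblTwo.gen wordH1 = h1C := by decide +kernel

theorem repOne_zero : tblOne.rep 0 = oneC := by decide +kernel

theorem repTwo_zero : tblTwo.rep 0 = oneC := by decide +kernel

theorem repThree_zero : tblThree.rep 0 = oneC := by decide +kernel

theorem ann_base : mulC annC baseC = 0 := by decide +kernel

theorem annLine_line : mulC annLineC lineC = 0 := by decide +kernel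

theorem stabK_eq0 : mulC k0C baseC = mulC baseC stabK0 := by decide +kernel

theorem stabK_eq1 : mulC k1C baseC = mulC baseC stabK1 := by decide +kernel

theorem stabH_eq0 : mulC h0C lineC = mulC lineC stabH0 := by decide +kernel

theorem stabH_eq1 : mulC h1C lineC = mulC lineC stabH1 := by decide +kernel

theorem line_in_base : mulC baseC coordC = lineC := by decide +kernel

theorem pZero_lt : pZero < 6156 := by decide

theorem invRep_mul : mulC invRepC (tblOne.rep pZero) = oneC := by decide +kernel

theorem line_in_moved : mulC invRepC lineC = mulC baseC coordMovedC := by decide +kernel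

theorem comb_eq : Nat.xor (Nat.xor (mulC combOneC annC) (mulC combTwoC (mulC annC invRepC)))
    (mulC lineC coLineC) = oneC := by decide +kernel

/-- Separation at level one. -/
noncomputable def sepOneOK (i : ℕ) : Bool :=
  Nat.beq i 0 || nzC (mulC (mulC annC (tblOne.rep i)) baseC)

theorem sepOne_ok : allUpTo sepOneOK 0 6156 = true := by decide +kernel

/-- Separation at level two. -/
noncomputable def sepTwoOK (a : ℕ) : Bool :=
  Nat.beq a 0 || nzC (mulC (mulC annLineC (tblTwo.rep a)) lineC)

theorem sepTwo_ok : allUpTo sepTwoOK 0 85 = true := by decide +kernel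

/-- Separation at level three. -/
noncomputable def sepThreeOK (c : ℕ) : Bool :=
  Nat.beq c 0 || Bool.rec true false (Nat.beq (Nat.land (tblThree.rep c) m162) oneC)

theorem sepThree_ok : allUpTo sepThreeOK 0 288 = true := by decide +kernel

/-- An element of level three is scalar or moves one of the test points. -/
noncomputable def kerOK (c : ℕ) : Bool :=
  (Nat.beq (tblThree.rep c) oneC || (Nat.beq (tblThree.rep c) omC ||
    Nat.beq (tblThree.rep c) om2C)) ||
  (Nat.blt (nth sepPts (sepSel.get 4 c)) 6156 &&
    (Nat.beq (mulC (nth sepInvs (sepSel.get 4 c)) (tblOne.rep (nth sepPts (sepSel.get 4 c)))) oneC &&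
      nzC (mulC (mulC (mulC annC (nth sepInvs (sepSel.get 4 c))) (tblThree.rep c))
        (mulC (tblOne.rep (nth sepPts (sepSel.get 4 c))) baseC))))

theorem ker_ok : allUpTo kerOK 0 288 = true := by decide +kernel

theorem omC_bits : ∀ w z, bitsAt omC w z = if w = z then (false, true) else (false, false) := by
  decide +kernel

theorem om2C_eq : mulC omC omC = om2C := by decide +kernel

/-- Code of a certificate `j, a, c` of level one. -/
noncomputable def certC (e : ℕ) : ℕ :=
  mulC (tblOne.rep (Nat.mod (field e 0 13) 6156)) (stabC (field e 13 7) (field e 20 9))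

theorem omC_cert : certC omCert = omC := by decide +kernel

theorem codeA_cert : ∀ Z : F9, certC (nth genCerts (ix Z)) = codeA Z := by decide +kernel

theorem codeE_cert : ∀ Z : F9, certC (nth genCerts (9 + ix Z)) = codeE Z := by decide +kernel

theorem codeD_cert : ∀ Z : F9, certC (nth genCerts (18 + ix Z)) = codeD Z := by decide +kernel

theorem codeB_cert : ∀ Z : F9, Z ≠ 0 → certC (nth genCerts (26 + ix Z)) = codeB Z := by
  decide +kernel

theorem codeC_cert : ∀ Z : F9, Z ≠ 0 → certC (nth genCerts (34 + ix Z)) = codeC Z := by
  decide +kernel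

/-- Codes of all generators in the order of the certificates. -/
noncomputable def genCode (t : ℕ) : ℕ :=
  nth ((List.range 9).map (fun t => codeA ((t / 3 : ℕ), (t : ℕ))) ++
    (List.range 9).map (fun t => codeE ((t / 3 : ℕ), (t : ℕ))) ++
    (List.range 9).map (fun t => codeD ((t / 3 : ℕ), (t : ℕ))) ++
    (List.range 8).map (fun t => codeB (((t + 1) / 3 : ℕ), (t + 1 : ℕ))) ++
    (List.range 8).map (fun t => codeC (((t + 1) / 3 : ℕ), (t + 1 : ℕ)))) t

theorem x_word : wordC genCode [35, 6, 40, 20, 22, 6, 25] = xC := by decide +kernel

theorem y_word : wordC genCode [39, 40, 5, 42, 23, 9, 19] = yC := by decide +kernel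

theorem img_noncomm : tblOne.img 0 (tblOne.img 1 0) ≠ tblOne.img 1 (tblOne.img 0 0) := by
  decide +kernel

/-- The ordering of the points by suborbits and the spanning forest. -/
noncomputable def subOK (t : ℕ) : Bool :=
  (Nat.blt (subPos.get 13 t) 6156 && (Nat.blt (subInv.get 13 t) 6156 &&
    (Nat.beq (subInv.get 13 (subPos.get 13 t)) t && Nat.beq (subPos.get 13 (subInv.get 13 t)) t))) &&
  (allList (fun o => Bool.rec true false (Nat.beq o t)) offs == false ||
    (Nat.blt (field (subTree.get 32 t) 1 13) t &&
      (allList (fun o => Nat.ble o (field (subTree.get 32 t) 1 13) || Nat.blt t o) offs &&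
        Nat.beq
          (mulC (tblTwo.gen (field (subTree.get 32 t) 0 1))
            (tblOne.rep (subPos.get 13 (field (subTree.get 32 t) 1 13))))
          (mulC (tblOne.rep (subPos.get 13 t))
            (stabC (field (subTree.get 32 t) 14 7) (field (subTree.get 32 t) 21 9))))))

theorem sub_ok : allUpTo subOK 0 6156 = true := by decide +kernel

theorem subPos_zero : subPos.get 13 0 = 0 := by decide +kernel

/-- No union of suborbits containing the first one has a proper divisor of the degree as size. -/
theorem suborbit_sums : ∀ T : Finset (Fin 8), 0 ∈ T →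
    (∑ j ∈ T, (nth offs (j + 1) - nth offs j)) ∣ 6156 →
    T = {0} ∨ T = Finset.univ := by decide +kernel

end Cfsg.Agent.Lib.J3
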