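import Mathlib
import Cfsg.Prelude.Def_Spor_J3
import Cfsg.Agent.Lib.CosetEnum.Arr

/-!
# Bit-coded 9 × 9 matrices over the field with four elements

A code holds two planes of 81 bits (coefficients of `1` and of `ω`), column major.
-/

set_option autoImplicit false

namespace Cfsg.Agent.Lib.J3

open Cfsg.Spor

/-- Mask of 81 bits. -/
def m81 : ℕ := 2417851639229258349412351
/-- The bits 0, 9, …, 72. -/
def every9 : ℕ := 4731607904558235517441
/-- Mask of 162 bits. -/
def m162 : ℕ := 2 ^ 162 - 1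

/-- Low-plane contribution of the inner index `t`. -/
def termLo (M N t : ℕ) : ℕ :=
  Nat.xor
    (Nat.mul (Nat.land (Nat.shiftRight N t) every9) (Nat.land (Nat.shiftRight M (9 * t)) 511))
    (Nat.mul (Nat.land (Nat.shiftRight N (81 + t)) every9)
      (Nat.land (Nat.shiftRight M (81 + 9 * t)) 511))

/-- High-plane contribution of the inner index `t`. -/
def termHi (M N t : ℕ) : ℕ :=
  Nat.xor
    (Nat.mul (Nat.land (Nat.shiftRight N t) every9) (Nat.land (Nat.shiftRight M (81 + 9 * t)) 511))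
    (Nat.mul (Nat.land (Nat.shiftRight N (81 + t)) every9)
      (Nat.xor (Nat.land (Nat.shiftRight M (9 * t)) 511)
        (Nat.land (Nat.shiftRight M (81 + 9 * t)) 511)))

/-- Exclusive or of nine values. -/
def xor9 (f : ℕ → ℕ) : ℕ :=
  Nat.xor (f 0) (Nat.xor (f 1) (Nat.xor (f 2) (Nat.xor (f 3) (Nat.xor (f 4)
    (Nat.xor (f 5) (Nat.xor (f 6) (Nat.xor (f 7) (f 8))))))))

/-- Product of coded matrices. -/
def mulC (M N : ℕ) : ℕ :=
  Nat.lor (Nat.land (xor9 (termLo M N)) m81) (Nat.shiftLeft (xor9 (termHi M N)) 81)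

/-- Position of an index of `F9`. -/
def ix (z : F9) : ℕ := 3 * z.1.val + z.2.val

theorem ix_lt : ∀ z : F9, ix z < 9 := by decide

theorem ix_inj : ∀ z w : F9, ix z = ix w → z = w := by decide

theorem ix_surj : ∀ t < 9, ∃ z : F9, ix z = t := by decide

/-- `E` has sparse bits and stays so after masking. -/
def Sparse (S : ℕ) : Prop := ∀ i, i % 9 ≠ 0 → Nat.testBit S i = false

theorem every9_lt (i : ℕ) (hi : 81 ≤ i) : Nat.testBit every9 i = false :=
  Nat.testBit_lt_two_pow (lt_of_lt_of_le (show every9 < 2 ^ 81 by decide)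
    (Nat.pow_le_pow_right (by norm_num) hi))

theorem every9_bits : ∀ i < 81, Nat.testBit every9 i = decide (i % 9 = 0) := by decide

theorem sparse_mask (N : ℕ) : Sparse (Nat.land N every9) := by
  intro i hi
  change Nat.testBit (N &&& every9) i = false
  rw [Nat.testBit_and]
  by_cases h : i < 81
  · simp [every9_bits i h, hi]
  · simp [every9_lt i (not_lt.mp h)]

theorem mask_bit (N j : ℕ) (hj : j < 9) :
    Nat.testBit (Nat.land N every9) (9 * j) = Nat.testBit N (9 * j) := by
  change Nat.testBit (N &&& every9) (9 * j) = _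
  rw [Nat.testBit_and, every9_bits _ (by omega)]
  simp

theorem sparse_mod {S : ℕ} (hS : Sparse S) :
    S % 512 = if Nat.testBit S 0 then 1 else 0 := by
  apply Nat.eq_of_testBit_eq
  intro i
  rw [show (512 : ℕ) = 2 ^ 9 by norm_num, Nat.testBit_mod_two_pow]
  rcases i with _ | i
  · cases Nat.testBit S 0 <;> simp
  · by_cases h9 : i + 1 < 9
    · rw [hS _ (by omega)]
      cases Nat.testBit S 0 <;> simp [h9, Nat.testBit_succ]
    · cases Nat.testBit S 0 <;> simp [h9, Nat.testBit_succ]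

theorem testBit_sparse_mul {m : ℕ} (hm : m < 512) {r : ℕ} (hr : r < 9) :
    ∀ (j S : ℕ), Sparse S →
      Nat.testBit (S * m) (9 * j + r) = (Nat.testBit S (9 * j) && Nat.testBit m r) := by
  intro j
  induction j with
  | zero =>
    intro S hS
    have hb := sparse_mod hS
    have hlt : (S % 512) * m < 2 ^ 9 := by
      rw [hb]; split <;> omega
    have e : S * m = 2 ^ 9 * (S / 512 * m) + (S % 512) * m := by
      conv_lhs => rw [← Nat.div_add_mod S 512]
      ring
    rw [e, Nat.testBit_two_pow_mul_add _ hlt, if_pos (by omega), hb]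
    simp only [Nat.mul_zero, Nat.zero_add]
    cases Nat.testBit S 0 <;> simp
  | succ j ih =>
    intro S hS
    have hs : Sparse (S / 512) := by
      intro i hi
      rw [show (512 : ℕ) = 2 ^ 9 by norm_num, Nat.testBit_div_two_pow]
      exact hS _ (by omega)
    have hb := sparse_mod hS
    have hlt : (S % 512) * m < 2 ^ 9 := by
      rw [hb]; split <;> omega
    have e : S * m = 2 ^ 9 * (S / 512 * m) + (S % 512) * m := by
      conv_lhs => rw [← Nat.div_add_mod S 512]
      ring
    rw [e, Nat.testBit_two_pow_mul_add _ hlt, if_neg (by omega),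
      show 9 * (j + 1) + r - 9 = 9 * j + r by omega, ih _ hs,
      show (512 : ℕ) = 2 ^ 9 by norm_num, Nat.testBit_div_two_pow]
    congr 2

theorem prod_bit (N M s o : ℕ) {j r : ℕ} (hj : j < 9) (hr : r < 9) :
    Nat.testBit (Nat.mul (Nat.land (Nat.shiftRight N s) every9)
        (Nat.land (Nat.shiftRight M o) 511)) (9 * j + r) =
      (Nat.testBit N (s + 9 * j) && Nat.testBit M (o + r)) := by
  have hm : Nat.land (Nat.shiftRight M o) 511 < 512 := by
    change (M >>> o) &&& 511 < 512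
    have := Nat.and_le_right (n := M >>> o) (m := 511)
    omega
  rw [Nat.mul_eq, testBit_sparse_mul hm hr _ _ (sparse_mask _), mask_bit _ _ hj]
  change (Nat.testBit (N >>> s) (9 * j) && Nat.testBit ((M >>> o) &&& 511) r) = _
  rw [Nat.testBit_shiftRight, Nat.testBit_and, Nat.testBit_shiftRight,
    show (511 : ℕ) = 2 ^ 9 - 1 by norm_num, Nat.testBit_two_pow_sub_one]
  simp [hr]

theorem termLo_bit (M N t : ℕ) {j r : ℕ} (hj : j < 9) (hr : r < 9) :
    Nat.testBit (termLo M N t) (9 * j + r) =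
      ((Nat.testBit N (t + 9 * j) && Nat.testBit M (9 * t + r)) ^^
        (Nat.testBit N (81 + t + 9 * j) && Nat.testBit M (81 + 9 * t + r))) := by
  unfold termLo
  change Nat.testBit (_ ^^^ _) _ = _
  rw [Nat.testBit_xor, prod_bit _ _ _ _ hj hr, prod_bit _ _ _ _ hj hr]

theorem termHi_bit (M N t : ℕ) {j r : ℕ} (hj : j < 9) (hr : r < 9) :
    Nat.testBit (termHi M N t) (9 * j + r) =
      ((Nat.testBit N (t + 9 * j) && Nat.testBit M (81 + 9 * t + r)) ^^
        (Nat.testBit N (81 + t + 9 * j) &&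
          (Nat.testBit M (9 * t + r) ^^ Nat.testBit M (81 + 9 * t + r)))) := by
  unfold termHi
  change Nat.testBit (_ ^^^ _) _ = _
  rw [Nat.testBit_xor, prod_bit _ _ _ _ hj hr]
  congr 1
  have hm : Nat.xor (Nat.land (Nat.shiftRight M (9 * t)) 511)
      (Nat.land (Nat.shiftRight M (81 + 9 * t)) 511) < 512 := by
    change ((M >>> (9 * t)) &&& 511) ^^^ ((M >>> (81 + 9 * t)) &&& 511) < 2 ^ 9
    refine Nat.xor_lt_two_pow ?_ ?_ <;>
    · refine lt_of_le_of_lt Nat.and_le_right ?_
      norm_num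
  rw [Nat.mul_eq, testBit_sparse_mul hm hr _ _ (sparse_mask _), mask_bit _ _ hj]
  change (Nat.testBit (N >>> (81 + t)) (9 * j) && Nat.testBit
    (((M >>> (9 * t)) &&& 511) ^^^ ((M >>> (81 + 9 * t)) &&& 511)) r) = _
  rw [Nat.testBit_shiftRight, Nat.testBit_xor, Nat.testBit_and, Nat.testBit_and,
    Nat.testBit_shiftRight, Nat.testBit_shiftRight,
    show (511 : ℕ) = 2 ^ 9 - 1 by norm_num, Nat.testBit_two_pow_sub_one]
  simp [hr]

section field
variable {F : Type*} [Field F] (ω : F)

/-- The element `a + bω`. -/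
def el (a b : Bool) : F := (if a then 1 else 0) + (if b then ω else 0)

/-- The matrix of a code. -/
def dm (M : ℕ) : Matrix F9 F9 F := Matrix.of fun w z =>
  el ω (Nat.testBit M (9 * ix z + ix w)) (Nat.testBit M (81 + (9 * ix z + ix w)))

/-- Bit `i` of the low plane and of the high plane of an entry. -/
theorem dm_apply (M : ℕ) (w z : F9) :
    dm ω M w z =
      el ω (Nat.testBit M (9 * ix z + ix w)) (Nat.testBit M (81 + (9 * ix z + ix w))) := rfl

variable (h2 : (2 : F) = 0) (hω : ω ^ 2 + ω + 1 = 0)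

theorem sum_F9 (f : F9 → F) : ∑ z, f z =
    f (0, 0) + (f (0, 1) + (f (0, 2) + (f (1, 0) + (f (1, 1) + (f (1, 2) + (f (2, 0) +
      (f (2, 1) + f (2, 2)))))))) := by
  rw [Fintype.sum_prod_type]
  rw [show (Finset.univ : Finset (ZMod 3)) = {0, 1, 2} by decide]
  simp only [Finset.sum_insert (by decide : (0 : ZMod 3) ∉ ({1, 2} : Finset (ZMod 3))),
    Finset.sum_insert (by decide : (1 : ZMod 3) ∉ ({2} : Finset (ZMod 3))), Finset.sum_singleton]
  ring

include h2 in
theorem el_add (a b c d : Bool) : el ω (a ^^ c) (b ^^ d) = el ω a b + el ω c d := by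
  cases a <;> cases b <;> cases c <;> cases d <;>
    simp [el] <;> grind

include h2 hω in
theorem el_mul (a b c d : Bool) :
    el ω a b * el ω c d = el ω ((c && a) ^^ (d && b)) ((c && b) ^^ (d && (a ^^ b))) := by
  have e : ω * ω = 1 + ω := by linear_combination hω - (1 + ω) * h2
  cases a <;> cases b <;> cases c <;> cases d <;>
    simp [el] <;> grind

theorem xor9_bit (f : ℕ → ℕ) (i : ℕ) : Nat.testBit (xor9 f) i =
    (Nat.testBit (f 0) i ^^ (Nat.testBit (f 1) i ^^ (Nat.testBit (f 2) i ^^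
      (Nat.testBit (f 3) i ^^ (Nat.testBit (f 4) i ^^ (Nat.testBit (f 5) i ^^
        (Nat.testBit (f 6) i ^^ (Nat.testBit (f 7) i ^^ Nat.testBit (f 8) i)))))))) := by
  unfold xor9
  change Nat.testBit (_ ^^^ (_ ^^^ (_ ^^^ (_ ^^^ (_ ^^^ (_ ^^^ (_ ^^^ (_ ^^^ _)))))))) i = _
  simp only [Nat.testBit_xor]

theorem m81_eq : m81 = 2 ^ 81 - 1 := by decide

theorem mulC_lo (M N i : ℕ) (hi : i < 81) :
    Nat.testBit (mulC M N) i = Nat.testBit (xor9 (termLo M N)) i := by
  unfold mulC
  change Nat.testBit ((xor9 (termLo M N) &&& m81) ||| (xor9 (termHi M N) <<< 81)) i = _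
  rw [m81_eq, Nat.testBit_or, Nat.testBit_and, Nat.testBit_two_pow_sub_one,
    Nat.testBit_shiftLeft]
  simp [hi]

theorem mulC_hi (M N i : ℕ) :
    Nat.testBit (mulC M N) (81 + i) = Nat.testBit (xor9 (termHi M N)) i := by
  unfold mulC
  change Nat.testBit ((xor9 (termLo M N) &&& m81) ||| (xor9 (termHi M N) <<< 81)) (81 + i) = _
  rw [m81_eq, Nat.testBit_or, Nat.testBit_and, Nat.testBit_two_pow_sub_one,
    Nat.testBit_shiftLeft]
  simp

include h2 hω in
theorem dm_mulC (M N : ℕ) : dm ω (mulC M N) = dm ω M * dm ω N := by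
  ext w z
  rw [Matrix.mul_apply, sum_F9]
  simp only [dm_apply]
  have hr := ix_lt w
  have hj := ix_lt z
  rw [mulC_lo _ _ _ (by omega), mulC_hi, xor9_bit, xor9_bit]
  simp only [termLo_bit _ _ _ hj hr, termHi_bit _ _ _ hj hr]
  simp only [el_add ω h2, el_mul ω h2 hω]
  simp only [show ix ((0, 0) : F9) = 0 from rfl,
    show ix ((0, 1) : F9) = 1 from rfl,
    show ix ((0, 2) : F9) = 2 from rfl,
    show ix ((1, 0) : F9) = 3 from rfl,
    show ix ((1, 1) : F9) = 4 from rfl,
    show ix ((1, 2) : F9) = 5 from rfl,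
    show ix ((2, 0) : F9) = 6 from rfl,
    show ix ((2, 1) : F9) = 7 from rfl,
    show ix ((2, 2) : F9) = 8 from rfl]
  ring_nf

/-- The exclusive or of codes is the sum. -/
theorem dm_xor (h2 : (2 : F) = 0) (M N : ℕ) : dm ω (Nat.xor M N) = dm ω M + dm ω N := by
  ext w z
  simp only [Matrix.add_apply, dm_apply]
  rw [← el_add ω h2]
  change el ω (Nat.testBit (M ^^^ N) _) (Nat.testBit (M ^^^ N) _) = _
  simp only [Nat.testBit_xor]

end field

end Cfsg.Agent.Lib.J3
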