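import Mathlib

/-!
# Collection in a group with central indeterminates

Words are lists of generator numbers; each use of a rewriting rule contributes one central
unknown, recorded by the number of the rule.
-/

set_option autoImplicit false

namespace Cfsg.Agent.Lib.J3.Collect

/-- Rewriting rules: a lookup of the rule starting at a position, and both sides. -/
structure Rules where
  pick : List ℕ → Option ℕ
  lhs : ℕ → List ℕ
  rhs : ℕ → List ℕ
  num : ℕ

/-- Equality of lists of numbers. -/
def eqList : List ℕ → List ℕ → Bool
  | [], [] => true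
  | a :: as, b :: bs => Nat.beq a b && eqList as bs
  | _, _ => false

theorem eqList_sound : ∀ {a b : List ℕ}, eqList a b = true → a = b
  | [], [], _ => rfl
  | [], _ :: _, h => by simp [eqList] at h
  | _ :: _, [], h => by simp [eqList] at h
  | a :: as, b :: bs, h => by
    simp only [eqList, Bool.and_eq_true] at h
    rw [Nat.eq_of_beq_eq_true h.1, eqList_sound h.2]

/-- Apply rule `k` at the front. -/
def fire (R : Rules) (k : ℕ) (w : List ℕ) : Option (List ℕ × ℕ) :=
  if Nat.blt k R.num && eqList (R.lhs k) (w.take (R.lhs k).length) then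
    some (R.rhs k ++ w.drop (R.lhs k).length, k)
  else none

/-- One step at the leftmost possible position. -/
def step (R : Rules) : List ℕ → Option (List ℕ × ℕ)
  | [] => none
  | a :: w =>
    match R.pick (a :: w) with
    | some k => fire R k (a :: w)
    | none =>
      match step R w with
      | some (w', k) => some (a :: w', k)
      | none => none

/-- Repeated steps. -/
def collect (R : Rules) : ℕ → List ℕ → List ℕ × List ℕ
  | 0, w => (w, [])
  | f + 1, w =>
    match step R w with
    | none => (w, [])
    | some (w', k) => ((collect R f w').1, k :: (collect R f w').2)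

/-- Replace the left side of rule `k` at position `q`. -/
def fireAt (R : Rules) (k q : ℕ) (w : List ℕ) : Option (List ℕ) :=
  match fire R k (w.drop q) with
  | some (t, _) => some (w.take q ++ t)
  | none => none

variable {Γ : Type*} [Group Γ]

/-- The product of a word. -/
def val (U : ℕ → Γ) (w : List ℕ) : Γ := (w.map U).prod

theorem val_append (U : ℕ → Γ) (a b : List ℕ) : val U (a ++ b) = val U a * val U b := by
  simp [val]

theorem val_cons (U : ℕ → Γ) (a : ℕ) (w : List ℕ) : val U (a :: w) = U a * val U w := by
  simp [val]

/-- The total exponent of a list of unknowns. -/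
def tot (x : ℕ → ℕ) (ks : List ℕ) : ℕ := (ks.map x).sum

theorem tot_append (x : ℕ → ℕ) (a b : List ℕ) : tot x (a ++ b) = tot x a + tot x b := by
  simp [tot]

theorem tot_cons (x : ℕ → ℕ) (a : ℕ) (w : List ℕ) : tot x (a :: w) = x a + tot x w := by
  simp [tot]

/-- The rules hold up to central unknowns. -/
def Holds (R : Rules) (U : ℕ → Γ) (z : Γ) (x : ℕ → ℕ) : Prop :=
  z ∈ Subgroup.center Γ ∧ ∀ k < R.num, val U (R.lhs k) = val U (R.rhs k) * z ^ x k

variable {R : Rules} {U : ℕ → Γ} {z : Γ} {x : ℕ → ℕ}

theorem central_pow (hz : z ∈ Subgroup.center Γ) (n : ℕ) (g : Γ) : z ^ n * g = g * z ^ n :=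
  (Subgroup.mem_center_iff.mp (pow_mem hz n) g).symm

theorem fire_sound (h : Holds R U z x) {k : ℕ} {w w' : List ℕ} {k' : ℕ}
    (e : fire R k w = some (w', k')) : val U w = val U w' * z ^ x k' := by
  unfold fire at e
  split at e
  · rename_i hc
    simp only [Bool.and_eq_true, Nat.blt_eq] at hc
    obtain ⟨hk, heq⟩ := hc
    obtain ⟨rfl, rfl⟩ := Prod.mk.inj (Option.some.inj e)
    conv_lhs => rw [← List.take_append_drop (R.lhs k).length w, ← eqList_sound heq]
    rw [val_append, val_append, h.2 k hk, mul_assoc, central_pow h.1, ← mul_assoc]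
  · exact absurd e (by simp)

theorem step_sound (h : Holds R U z x) : ∀ {w w' : List ℕ} {k : ℕ},
    step R w = some (w', k) → val U w = val U w' * z ^ x k
  | [], _, _, e => by simp [step] at e
  | a :: w, w', k, e => by
    simp only [step] at e
    split at e
    · exact fire_sound h e
    · split at e
      · rename_i w'' k'' e'
        obtain ⟨rfl, rfl⟩ := Prod.mk.inj (Option.some.inj e)
        rw [val_cons, val_cons, step_sound h e', mul_assoc]
      · exact absurd e (by simp)

theorem collect_sound (h : Holds R U z x) : ∀ (f : ℕ) (w : List ℕ),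
    val U w = val U (collect R f w).1 * z ^ tot x (collect R f w).2
  | 0, w => by simp [collect, tot]
  | f + 1, w => by
    cases e : step R w with
    | none => simp [collect, e, tot]
    | some p =>
      obtain ⟨w', k⟩ := p
      simp only [collect, e]
      rw [step_sound h e, collect_sound h f w', tot_cons, mul_assoc, ← pow_add, add_comm]

theorem fireAt_sound (h : Holds R U z x) {k q : ℕ} {w w' : List ℕ}
    (e : fireAt R k q w = some w') : val U w = val U w' * z ^ x k := by
  unfold fireAt at e
  split at e
  · rename_i t k' e'
    obtain rfl := Option.some.inj e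
    have hk : k' = k := by
      unfold fire at e'
      split at e'
      · exact (Prod.mk.inj (Option.some.inj e')).2.symm
      · exact absurd e' (by simp)
    subst hk
    conv_lhs => rw [← List.take_append_drop q w]
    rw [val_append, val_append, fire_sound h e', mul_assoc]
  · exact absurd e (by simp)

/-! ### Equations between totals -/

/-- A conjugation: words of generators of a subgroup and of their images. -/
structure Fus where
  src : List (List ℕ)
  img : List (List ℕ)
  base : ℕ

/-- A source of an equation. -/
inductive Src
  | ovl (w : List ℕ) (q₁ k₁ q₂ k₂ : ℕ)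
  | rel (g : ℕ) (l r : List ℕ)

/-- Expand a word in the generators of a subgroup. -/
def expand (ws : List (List ℕ)) (l : List ℕ) : List ℕ := l.flatMap fun i => ws.getD i []

/-- The equation of a source: whether it is well formed, and its two sides. -/
def equation (R : Rules) (fs : List Fus) : Src → Bool × List ℕ × List ℕ
  | .ovl w q₁ k₁ q₂ k₂ =>
    match fireAt R k₁ q₁ w, fireAt R k₂ q₂ w with
    | some a, some b =>
      (eqList (collect R 1000 a).1 (collect R 1000 b).1,
        k₁ :: (collect R 1000 a).2, k₂ :: (collect R 1000 b).2)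
    | _, _ => (false, [], [])
  | .rel g l r =>
    let F := fs.getD g ⟨[], [], 0⟩
    (Nat.blt g fs.length && eqList (collect R 1000 (expand F.src l)).1 (collect R 1000 (expand F.src r)).1
        && eqList (collect R 1000 (expand F.img l)).1 (collect R 1000 (expand F.img r)).1
        && (l ++ r).all (fun i => Nat.blt i F.src.length) && Nat.beq F.src.length F.img.length,
      (collect R 1000 (expand F.img l)).2 ++ l.map (F.base + ·) ++ (collect R 1000 (expand F.src r)).2,
      (collect R 1000 (expand F.img r)).2 ++ r.map (F.base + ·) ++ (collect R 1000 (expand F.src l)).2)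

/-- Every conjugation is realised by some element. -/
def FusHolds (U : ℕ → Γ) (z : Γ) (x : ℕ → ℕ) (fs : List Fus) : Prop :=
  ∀ g < fs.length, ∃ c : Γ, ∀ i < (fs.getD g ⟨[], [], 0⟩).src.length,
    c * val U ((fs.getD g ⟨[], [], 0⟩).src.getD i []) * c⁻¹ =
      val U ((fs.getD g ⟨[], [], 0⟩).img.getD i []) * z ^ x ((fs.getD g ⟨[], [], 0⟩).base + i)

theorem conj_expand (h : Holds R U z x) {F : Fus} {c : Γ}
    (hc : ∀ i < F.src.length, c * val U (F.src.getD i []) * c⁻¹ =
      val U (F.img.getD i []) * z ^ x (F.base + i)) :
    ∀ l : List ℕ, (∀ i ∈ l, i < F.src.length) →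
      c * val U (expand F.src l) * c⁻¹ =
        val U (expand F.img l) * z ^ tot x (l.map (F.base + ·))
  | [], _ => by simp [expand, val, tot]
  | a :: l, hl => by
    have ih := conj_expand h hc l fun i hi => hl i (List.mem_cons_of_mem a hi)
    have ha := hc a (hl a List.mem_cons_self)
    simp only [expand, List.flatMap_cons, val_append, List.map_cons, tot_cons] at ih ⊢
    calc c * (val U (F.src.getD a []) * val U (List.flatMap (fun i => F.src.getD i []) l)) * c⁻¹
        = (c * val U (F.src.getD a []) * c⁻¹) *
            (c * val U (List.flatMap (fun i => F.src.getD i []) l) * c⁻¹) := by group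
      _ = _ := by
        rw [ha, ih, mul_assoc, ← mul_assoc (z ^ x (F.base + a)), central_pow h.1, pow_add]
        simp only [mul_assoc]

theorem equation_sound (h : Holds R U z x) {fs : List Fus} (hf : FusHolds U z x fs) (s : Src)
    (e : (equation R fs s).1 = true) :
    z ^ tot x (equation R fs s).2.1 = z ^ tot x (equation R fs s).2.2 := by
  cases s with
  | ovl w q₁ k₁ q₂ k₂ =>
    simp only [equation] at e ⊢
    cases ha : fireAt R k₁ q₁ w with
    | none => simp [ha] at e
    | some a =>
      cases hb : fireAt R k₂ q₂ w with
      | none => simp [ha, hb] at e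
      | some b =>
        simp only [ha, hb] at e ⊢
        have h1 := fireAt_sound h ha
        rw [collect_sound h 1000 a, fireAt_sound h hb, collect_sound h 1000 b, eqList_sound e,
          mul_assoc, mul_assoc, ← pow_add, ← pow_add] at h1
        rw [tot_cons, tot_cons, add_comm (x k₁), add_comm (x k₂)]
        exact (mul_left_cancel h1).symm
  | rel g l r =>
    simp only [equation, Bool.and_eq_true, List.all_eq_true, Nat.blt_eq] at e ⊢
    obtain ⟨⟨⟨⟨hg, hs⟩, hi⟩, hlr⟩, -⟩ := e
    obtain ⟨c, hc⟩ := hf g hg
    set F := fs.getD g ⟨[], [], 0⟩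
    have cl := conj_expand h hc l fun i hi => hlr i (List.mem_append_left r hi)
    have cr := conj_expand h hc r fun i hi => hlr i (List.mem_append_right l hi)
    rw [collect_sound h 1000 (expand F.src l), collect_sound h 1000 (expand F.img l)] at cl
    rw [collect_sound h 1000 (expand F.src r), collect_sound h 1000 (expand F.img r),
      ← eqList_sound hs, ← eqList_sound hi] at cr
    set N := val U (collect R 1000 (expand F.src l)).1
    set M := val U (collect R 1000 (expand F.img l)).1
    have pull : ∀ n : ℕ, c * (N * z ^ n) * c⁻¹ = c * N * c⁻¹ * z ^ n := fun n => by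
      rw [mul_assoc (c * N) c⁻¹, ← central_pow h.1 n c⁻¹]
      group
    rw [pull] at cl cr
    rw [tot_append, tot_append, tot_append, tot_append]
    have key : c * N * c⁻¹ * (z ^ tot x (collect R 1000 (expand F.src l)).2 *
        z ^ tot x (collect R 1000 (expand F.src r)).2) =
      c * N * c⁻¹ * (z ^ tot x (collect R 1000 (expand F.src r)).2 *
        z ^ tot x (collect R 1000 (expand F.src l)).2) := by rw [← pow_add, ← pow_add, add_comm]
    rw [← mul_assoc, cl, ← mul_assoc, cr] at key
    simp only [mul_assoc, ← pow_add] at key
    simpa [add_assoc] using mul_left_cancel key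

/-! ### Linear combinations modulo the exponent -/

/-- Number of occurrences. -/
def cnt (t : ℕ) : List ℕ → ℕ
  | [] => 0
  | a :: w => (if Nat.beq a t then 1 else 0) + cnt t w

/-- Congruent totals: all unknowns below `V` occur congruently often. -/
def congrOK (p V : ℕ) (A B : List ℕ) : Bool :=
  A.all (fun t => Nat.blt t V) && (B.all (fun t => Nat.blt t V) &&
    (List.range V).all fun t => Nat.beq (cnt t A % p) (cnt t B % p))

theorem tot_eq_sum (x : ℕ → ℕ) (V : ℕ) : ∀ A : List ℕ, (∀ t ∈ A, t < V) →
    tot x A = ∑ t ∈ Finset.range V, cnt t A * x t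
  | [], _ => by simp [tot, cnt]
  | a :: A, h => by
    rw [tot_cons, tot_eq_sum x V A fun t ht => h t (List.mem_cons_of_mem a ht)]
    have e : ∀ t, cnt t (a :: A) = (if a = t then 1 else 0) + cnt t A := by
      intro t
      simp only [cnt]
      by_cases hat : a = t
      · subst hat; simp
      · have : Nat.beq a t = false := by
          cases hb : Nat.beq a t
          · rfl
          · exact absurd (Nat.eq_of_beq_eq_true hb) hat
        simp [this, hat]
    simp only [e, add_mul, Finset.sum_add_distrib, ite_mul, one_mul, zero_mul, Finset.sum_ite_eq,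
      Finset.mem_range, h a List.mem_cons_self, if_true]

theorem congrOK_sound {p V : ℕ} (hp : z ^ p = 1) {A B : List ℕ} (h : congrOK p V A B = true) :
    z ^ tot x A = z ^ tot x B := by
  simp only [congrOK, Bool.and_eq_true, List.all_eq_true, Nat.blt_eq, List.mem_range] at h
  obtain ⟨ha, hb, hc⟩ := h
  rw [pow_eq_pow_mod (tot x A) hp, pow_eq_pow_mod (tot x B) hp, tot_eq_sum x V A ha,
    tot_eq_sum x V B hb]
  conv_lhs => rw [Finset.sum_nat_mod]
  conv_rhs => rw [Finset.sum_nat_mod]
  congr 2
  refine Finset.sum_congr rfl fun t ht => ?_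
  rw [Nat.mul_mod, Nat.eq_of_beq_eq_true (hc t (Finset.mem_range.mp ht)), ← Nat.mul_mod]

end Cfsg.Agent.Lib.J3.Collect
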