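import Cfsg.Agent.Lib.CosetEnum.Arr

/-!
# Small constants
-/

set_option autoImplicit false
set_option maxRecDepth 100000

namespace Cfsg.Agent.Lib.J3

open Cfsg.Agent.Lib.CosetEnum

/-- Constant of the certificate. -/
def xC : ℕ := 828530533172619529848073474497407190794024258566

/-- Constant of the certificate. -/
def yC : ℕ := 822183918920647882581396367565908130846067597324

/-- Constant of the certificate. -/
def k0C : ℕ := 3150613358915650604879029216244927974610778049522

/-- Constant of the certificate. -/
def k1C : ℕ := 1443236772560669252214498516677403178005215135337

/-- Constant of the certificate. -/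
def h0C : ℕ := 5371006106578002290249917388709891744821830737592

/-- Constant of the certificate. -/
def h1C : ℕ := 4259691086478258613384192651278766524285674552474

/-- Constant of the certificate. -/
def wordK0 : List ℕ := [0, 0, 0, 0, 0, 0, 0, 1, 1, 0, 1, 0, 0, 1, 1, 1, 0, 0, 0, 1, 0, 1]

/-- Constant of the certificate. -/
def wordK1 : List ℕ := [0, 0, 0, 1, 1, 1, 0, 0, 0, 0, 1, 1, 1, 1, 1, 0, 0, 1, 1, 0, 1, 0, 0]

/-- Constant of the certificate. -/
def wordH0 : List ℕ := [1, 1, 0, 0, 1, 0, 1, 1, 0, 0, 0, 1, 1]

/-- Constant of the certificate. -/
def wordH1 : List ℕ := [1, 1, 0, 0, 1, 1, 1, 1, 1, 0, 1, 0, 1, 0]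

/-- Constant of the certificate. -/
def annC : ℕ := 2291282248761675038283365777413650

/-- Constant of the certificate. -/
def baseC : ℕ := 36660515978976693047250002902082849

/-- Constant of the certificate. -/
def lineC : ℕ := 19342813113834066795299010

/-- Constant of the certificate. -/
def coLineC : ℕ := 512

/-- Constant of the certificate. -/
def annLineC : ℕ := 9904730421848326050879209473

/-- Constant of the certificate. -/
def combOneC : ℕ := 75857194343325435908599563325059532888

/-- Constant of the certificate. -/
def combTwoC : ℕ := 97356130900417387072009475459303480

/-- Constant of the certificate. -/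
def invRepC : ℕ := 4196650776683854232783305346622652937614187632658

/-- Constant of the certificate. -/
def stabK0 : ℕ := 2921310726253378774166901963626499

/-- Constant of the certificate. -/
def stabK1 : ℕ := 651586050036258443844913639200256

/-- Constant of the certificate. -/
def stabH0 : ℕ := 2417851639229258349412352

/-- Constant of the certificate. -/
def stabH1 : ℕ := 2417851639229258349412353

/-- Constant of the certificate. -/
def pZero : ℕ := 12

/-- Constant of the certificate. -/
def omC : ℕ := 2925860560365287562542665234589536642254243889152

/-- Constant of the certificate. -/
def om2C : ℕ := 2925860560365287562542666444697101926105930007553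

/-- Constant of the certificate. -/
def scalIdx : List ℕ := [0, 285, 278]

/-- Constant of the certificate. -/
def sepPts : List ℕ := [12, 1, 2]

/-- Constant of the certificate. -/
def sepInvs : List ℕ := [4196650776683854232783305346622652937614187632658, 2192800278635270238181578289511149912314056148480, 46174041731374587735325994867767825053746598400]

/-- Constant of the certificate. -/
def offs : List ℕ := [0, 1, 681, 2721, 4081, 5441, 5951, 6071, 6156]

/-- Table (288 entries of 4 bits). -/
def sepSel : Arr :=
.node (.node (.node (.leaf 0x11101000000000001101100000010)
 (.leaf 0x100000000212000000000000111000000000))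
 (.node (.leaf 0x1010100000000000010100000000)
 (.leaf 0x1000000000000001000000020)))
 (.node (.node (.leaf 0x100000010101000000000000101100000000)
 (.leaf 0x1101000000000000101000000010))
 (.node (.leaf 0x10100000000000010110000000)
 (.leaf 0x100000000000000100000000001)))

/-- Constant of the certificate. -/
def genCerts : List ℕ := [0, 30011982, 158387935, 200349235, 291989740, 92842484, 184045250, 66663579, 220427981, 60068119, 35841621, 228123600, 133213076, 256055097, 36005457, 267755966, 161927457, 277993051, 0, 175686007, 298979505, 83218923, 193177442, 30805618, 25446000, 209834958, 219326556, 298143637, 12555, 0, 257950695, 105062545, 12757084, 204861745, 117566948, 277064469, 193430790, 298881100, 171343977, 143893332, 154173698, 278456179, 298985191]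

/-- Constant of the certificate. -/
def omCert : ℕ := 298844160

end Cfsg.Agent.Lib.J3
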