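import Cfsg.Agent.Lib.CosetEnum.Arr

/-!
# Data for the outer automorphism group
-/

set_option autoImplicit false
set_option maxRecDepth 100000

namespace Cfsg.Agent.Lib.J3

open Cfsg.Agent.Lib.CosetEnum

/-- Constant of the certificate. -/
def flipC : ℕ := 606825246535404067751937

/-- Constant of the certificate. -/
def frobX : ℕ := 828530533172619529848073811856365129606757356610

/-- Constant of the certificate. -/
def frobY : ℕ := 822183918920647882581396027518609288832030474250

/-- Constant of the certificate. -/
def frobCertX : ℕ := 256969291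

/-- Constant of the certificate. -/
def frobCertY : ℕ := 52049046

/-- Table (19 entries of 162 bits). -/
def xPows : Arr :=
.node (.node (.leaf 0x3ec4b19bd49f438245a964f5d5a819587e9b2f1870473907e6a6c655e5caa8ab0eee82ba3f129dc143c789f8540d1607cfb5d409e725b9af87aa90b577bdf4acabb8e27fe03e4f4ca68f502c7ae709d32380000000000000000000100401004010040100401)
 (.leaf 0x1801890b20b1221180008504848490109100206003837fc4e11d1597b1779a081a387849e9fa5ff16eb84a530766dcbfbdb5db43fbe559db33ff604c021deeb28f0839247400702f75754f1c98609de52de192681406b0e8030b65b86d165301b2ae1096d36))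
 (.node (.leaf 0x3e2080c22c211bc3b104608fd050304b89b32a6236838453a5f2630a1948c08a8c4b0e2a4150593af63c4dc795e69abbbb705eca5c88d9be8c3e76cff721397d375cfa511cdb5397387c281ff0be10e00e891209813120b0008308802d00400900480040c06)
 (.leaf 0xea2b78966dfcecb7abb4129dd8c5619e5ca858413d5c7bfd7cc897014070d4b9df12843f92bbf84af5cb91662405e796ee42e85c7ceabd0018057923e61f20dcd82c4919b76df35cd4b9f5df8b786c35f0))

/-- Constant of the certificate. -/
def powSide : List ℕ := [0, 1, 1, 0, 0, 0, 0, 1, 0, 1, 0, 1, 1, 1, 1, 0, 0, 1]

/-- Constant of the certificate. -/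
def powCert : List ℕ := [0, 238151510, 256175867, 275378292, 154644981, 121719136, 169084216, 173468297, 216031984, 199762343, 216117917, 285896220, 25520917, 211405171, 108246008, 251979315, 228004837, 220243728]

/-- Constant of the certificate. -/
def wordYInT : List ℕ := [12, 7, 10, 5, 12, 10]

/-- Constant of the certificate. -/
def fixIdx : List ℕ := [366, 419, 1655, 2069, 2602, 2827, 3280, 7466, 8792, 11178, 12395, 12558, 13943, 16019, 16998, 17218, 17992, 25569, 26121]

/-- Constant of the certificate. -/
def fixPow : List ℕ := [3, 15, 2, 12, 10, 17, 6, 18, 14, 9, 7, 16, 5, 0, 8, 11, 4, 1, 13]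

end Cfsg.Agent.Lib.J3
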