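import Cfsg.Agent.Lib.J3.Collect
import Cfsg.Agent.Lib.Compute.MultBound

/-!
# Killing a prime in the multiplier by collection and fusion
-/

set_option autoImplicit false

namespace Cfsg.Agent.Lib.J3.Collect

open Cfsg.Agent.Lib
open scoped commutatorElement

/-- A certificate: rules, conjugations, equations, a change of lifts and combinations. -/
structure KillData where
  R : Rules
  n : ℕ
  fs : List Fus
  owner : ℕ → ℕ × ℕ
  V : ℕ
  srcs : List Src
  shift : ℕ → List ℕ
  combo : ℕ → List ℕ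
  N : ℕ
  nf : ℕ → List ℕ
  enc : List ℕ → ℕ

/-- The unknowns of conjugations are well numbered. -/
def KillData.ownerOK (D : KillData) : Bool :=
  (List.range D.fs.length).all fun g =>
    (List.range (D.fs.getD g ⟨[], [], 0⟩).src.length).all fun i =>
      Nat.ble D.R.num ((D.fs.getD g ⟨[], [], 0⟩).base + i) &&
        (Nat.beq (D.owner ((D.fs.getD g ⟨[], [], 0⟩).base + i)).1 g &&
          Nat.beq (D.owner ((D.fs.getD g ⟨[], [], 0⟩).base + i)).2 i)

/-- All equations are well formed. -/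
def KillData.eqsOK (D : KillData) : Bool :=
  D.srcs.all fun s => (equation D.R D.fs s).1

/-- One side of the combination for rule `k`. -/
def KillData.side (D : KillData) (k : ℕ) (left : Bool) : List ℕ :=
  match left with
  | true => k :: (D.R.lhs k).flatMap D.shift ++
      (D.combo k).flatMap fun j => (equation D.R D.fs (D.srcs.getD j (.ovl [] 0 0 0 0))).2.1
  | false => (D.R.rhs k).flatMap D.shift ++
      (D.combo k).flatMap fun j => (equation D.R D.fs (D.srcs.getD j (.ovl [] 0 0 0 0))).2.2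

/-- The change of lifts trivialises rule `k`. -/
def KillData.comboOK (D : KillData) (p k : ℕ) : Bool :=
  (D.combo k).all (fun j => Nat.blt j D.srcs.length) &&
    congrOK p D.V (D.side k true) (D.side k false)

/-- The normal words are closed under left multiplication. -/
def KillData.closedOK (D : KillData) (m : ℕ) : Bool :=
  (List.range D.n).all fun i =>
    Nat.blt (D.enc (collect D.R 200 (i :: D.nf m)).1) D.N &&
      eqList (collect D.R 200 (i :: D.nf m)).1 (D.nf (D.enc (collect D.R 200 (i :: D.nf m)).1))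

theorem val_mul_pow {Γ : Type*} [Group Γ] {U : ℕ → Γ} {z : Γ} (hz : z ∈ Subgroup.center Γ)
    (e : ℕ → List ℕ) (x : ℕ → ℕ) : ∀ w : List ℕ,
      val (fun i => U i * z ^ tot x (e i)) w = val U w * z ^ tot x (w.flatMap e)
  | [] => by simp [val, tot]
  | a :: w => by
    rw [val_cons, val_cons, val_mul_pow hz e x w, List.flatMap_cons, tot_append, pow_add, mul_assoc,
      ← mul_assoc (z ^ tot x (e a)), central_pow hz]
    simp only [mul_assoc]

theorem combo_cancel {Γ : Type*} [Group Γ] {z : Γ} {x : ℕ → ℕ} (A B : ℕ → List ℕ) :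
    ∀ (js : List ℕ), (∀ j ∈ js, z ^ tot x (A j) = z ^ tot x (B j)) →
      z ^ tot x (js.flatMap A) = z ^ tot x (js.flatMap B)
  | [], _ => rfl
  | j :: js, h => by
    rw [List.flatMap_cons, List.flatMap_cons, tot_append, tot_append, pow_add, pow_add,
      h j List.mem_cons_self,
      combo_cancel A B js fun i hi => h i (List.mem_cons_of_mem j hi)]

theorem eq_one_of_cert {Γ Q : Type*} [Group Γ] [Finite Γ] [Group Q] (σ : Γ →* Q)
    (hσ : Function.Surjective σ) (hc : σ.ker ≤ Subgroup.center Γ) {z : Γ} (hz : z ∈ σ.ker)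
    (hz' : z ∈ commutator Γ) {p : ℕ} (hzp : z ^ p = 1) (hker : ∀ w ∈ σ.ker, ∃ i : ℕ, w = z ^ i)
    (D : KillData) (q : ℕ → Q)
    (hrule : ∀ k < D.R.num, val q (D.R.lhs k) = val q (D.R.rhs k))
    (hfus : ∀ g < D.fs.length, ∃ c : Q, ∀ i < (D.fs.getD g ⟨[], [], 0⟩).src.length,
      c * val q ((D.fs.getD g ⟨[], [], 0⟩).src.getD i []) * c⁻¹ =
        val q ((D.fs.getD g ⟨[], [], 0⟩).img.getD i []))
    (howner : D.ownerOK = true) (heqs : D.eqsOK = true)
    (hcombo : ∀ k < D.R.num, D.comboOK p k = true)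
    (hclosed : ∀ m < D.N, D.closedOK m = true) (hN : 0 < D.N) (hnf0 : D.nf 0 = [])
    (hnflt : ∀ m < D.N, ∀ i ∈ D.nf m, i < D.n)
    (hinj : ∀ m < D.N, ∀ m' < D.N, val q (D.nf m) = val q (D.nf m') → m = m')
    (hcop : ∀ c : ℕ, D.N * c = Nat.card Q → Nat.Coprime p c) : z = 1 := by
  classical
  have hzc : z ∈ Subgroup.center Γ := hc hz
  haveI : Finite Q := Finite.of_surjective σ hσ
  choose U hU using fun i => hσ (q i)
  have hval : ∀ w, σ (val U w) = val q w := by
    intro w
    induction w with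
    | nil => simp [val]
    | cons a w ih => rw [val_cons, val_cons, map_mul, hU, ih]
  have hdiff : ∀ a b : Γ, σ a = σ b → ∃ e : ℕ, a = b * z ^ e := by
    intro a b h
    obtain ⟨e, he⟩ := hker (b⁻¹ * a) (by rw [MonoidHom.mem_ker, map_mul, map_inv, h, inv_mul_cancel])
    exact ⟨e, by rw [← he, mul_inv_cancel_left]⟩
  have hex : ∀ k, k < D.R.num → ∃ e : ℕ, val U (D.R.lhs k) = val U (D.R.rhs k) * z ^ e :=
    fun k hk => hdiff _ _ (by rw [hval, hval, hrule k hk])
  have hfc : ∀ g, ∃ c : Γ, g < D.fs.length → ∀ i < (D.fs.getD g ⟨[], [], 0⟩).src.length,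
      ∃ e : ℕ, c * val U ((D.fs.getD g ⟨[], [], 0⟩).src.getD i []) * c⁻¹ =
        val U ((D.fs.getD g ⟨[], [], 0⟩).img.getD i []) * z ^ e := by
    intro g
    by_cases hg : g < D.fs.length
    · obtain ⟨c, hc'⟩ := hfus g hg
      obtain ⟨c', rfl⟩ := hσ c
      exact ⟨c', fun _ i hi => hdiff _ _ (by rw [map_mul, map_mul, map_inv, hval, hval, hc' i hi])⟩
    · exact ⟨1, fun h => absurd h hg⟩
  choose C hC using hfc
  let x : ℕ → ℕ := fun t =>
    if ht : t < D.R.num then (hex t ht).choose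
    else if h : (D.owner t).1 < D.fs.length ∧
        (D.owner t).2 < (D.fs.getD (D.owner t).1 ⟨[], [], 0⟩).src.length then
      (hC _ h.1 _ h.2).choose
    else 0
  have hH : Holds D.R U z x := by
    refine ⟨hzc, fun k hk => ?_⟩
    simp only [x, dif_pos hk]
    exact (hex k hk).choose_spec
  have hF : FusHolds U z x D.fs := by
    intro g hg
    refine ⟨C g, fun i hi => ?_⟩
    simp only [KillData.ownerOK, List.all_eq_true, List.mem_range, Bool.and_eq_true] at howner
    obtain ⟨h1, h2, h3⟩ := howner g hg i hi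
    have e1 := Nat.eq_of_beq_eq_true h2
    have e2 := Nat.eq_of_beq_eq_true h3
    have key : ∀ t g' i', D.owner t = (g', i') → ¬ t < D.R.num → ∀ (hg' : g' < D.fs.length)
        (hi' : i' < (D.fs.getD g' ⟨[], [], 0⟩).src.length), x t = (hC g' hg' i' hi').choose := by
      intro t g' i' ho ht hg' hi'
      have hh : (D.owner t).1 < D.fs.length ∧
          (D.owner t).2 < (D.fs.getD (D.owner t).1 ⟨[], [], 0⟩).src.length := by
        rw [ho]; exact ⟨hg', hi'⟩
      simp only [x, dif_neg ht, dif_pos hh]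
      congr 1 <;> simp [ho]
    rw [key _ g i (Prod.ext e1 e2) (by have := Nat.ble_eq.mp h1; omega) hg hi]
    exact (hC g hg i hi).choose_spec
  -- corrected lifts
  let U' : ℕ → Γ := fun i => U i * z ^ tot x (D.shift i)
  have hH' : Holds D.R U' z (fun _ => 0) := by
    refine ⟨hzc, fun k hk => ?_⟩
    have hk' := hcombo k hk
    simp only [KillData.comboOK, Bool.and_eq_true, List.all_eq_true, Nat.blt_eq] at hk'
    have h1 := congrOK_sound (x := x) hzp hk'.2
    simp only [KillData.side, List.cons_append, tot_cons, tot_append, pow_add] at h1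
    have h2 : z ^ tot x ((D.combo k).flatMap fun j =>
        (equation D.R D.fs (D.srcs.getD j (.ovl [] 0 0 0 0))).2.1) =
      z ^ tot x ((D.combo k).flatMap fun j =>
        (equation D.R D.fs (D.srcs.getD j (.ovl [] 0 0 0 0))).2.2) := by
      refine combo_cancel _ _ _ fun j hj => equation_sound hH hF _ ?_
      rw [List.getD_eq_getElem _ _ (hk'.1 j hj)]
      exact List.all_eq_true.mp heqs _ (List.getElem_mem _)
    rw [h2, ← mul_assoc] at h1
    rw [pow_zero, mul_one, show val U' (D.R.lhs k) = _ from val_mul_pow hzc D.shift x _,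
      show val U' (D.R.rhs k) = _ from val_mul_pow hzc D.shift x _, hH.2 k hk, mul_assoc,
      mul_right_cancel h1]
  have hU' : ∀ i, σ (U' i) = q i := fun i => by
    simp [U', map_mul, hU, MonoidHom.mem_ker.mp hz]
  have hval' : ∀ w, σ (val U' w) = val q w := by
    intro w
    induction w with
    | nil => simp [val]
    | cons a w ih => rw [val_cons, val_cons, map_mul, hU', ih]
  let W : Set Γ := {g | ∃ m, m < D.N ∧ g = val U' (D.nf m)}
  have hWmul : ∀ i < D.n, ∀ g ∈ W, U' i * g ∈ W := by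
    rintro i hi _ ⟨m, hm, rfl⟩
    have h := hclosed m hm
    simp only [KillData.closedOK, List.all_eq_true, List.mem_range, Bool.and_eq_true,
      Nat.blt_eq] at h
    obtain ⟨h1, h2⟩ := h i hi
    refine ⟨_, h1, ?_⟩
    rw [← val_cons, collect_sound hH' 200 (i :: D.nf m)]
    have h0 : ∀ ks : List ℕ, tot (fun _ => 0) ks = 0 := fun ks => by simp [tot]
    rw [h0, pow_zero, mul_one]
    exact congrArg (val U') (eqList_sound h2)
  let H : Subgroup Γ := Subgroup.closure (U' '' Set.Iio D.n)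
  have hHW : ∀ h ∈ H, h ∈ W := by
    intro h hh
    have key : ∀ g ∈ W, h * g ∈ W := by
      rw [← Subgroup.mem_toSubmonoid, Subgroup.closure_toSubmonoid_of_finite] at hh
      induction hh using Submonoid.closure_induction with
      | mem a ha =>
        obtain ⟨i, hi, rfl⟩ := ha
        exact hWmul i hi
      | one => exact fun g hg => by rwa [one_mul]
      | mul a b _ _ iha ihb => exact fun g hg => by rw [mul_assoc]; exact iha _ (ihb g hg)
    simpa using key 1 ⟨0, hN, by rw [hnf0]; simp [val]⟩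
  let S : Subgroup Q := H.map σ
  have hcardS : Nat.card S = D.N := by
    have hmem : ∀ m : Fin D.N, val q (D.nf m) ∈ S := fun m => by
      refine ⟨val U' (D.nf m), ?_, hval' _⟩
      refine Subgroup.list_prod_mem H fun g hg => ?_
      obtain ⟨i, hi, rfl⟩ := List.mem_map.mp hg
      exact Subgroup.subset_closure ⟨i, hnflt m m.2 i hi, rfl⟩
    rw [← Nat.card_eq_of_bijective (fun m : Fin D.N => (⟨_, hmem m⟩ : S)) ⟨?_, ?_⟩, Nat.card_fin]
    · intro a b e
      exact Fin.ext (hinj a a.2 b b.2 (congrArg Subtype.val e))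
    · rintro ⟨_, h, hh, rfl⟩
      obtain ⟨m, hm, rfl⟩ := hHW h hh
      exact ⟨⟨m, hm⟩, Subtype.ext (hval' _).symm⟩
  have hcomap : S.comap σ = H ⊔ σ.ker := Subgroup.comap_map_eq σ H
  have hzS := Compute.mem_commutator_comap σ hσ hc hz hz' hzp (S := S)
    (hcop _ (by rw [← hcardS, Subgroup.card_mul_index]))
  have hle : ⁅S.comap σ, S.comap σ⁆ ≤ H := by
    rw [hcomap, Subgroup.commutator_le]
    intro a ha b hb
    haveI : σ.ker.Normal := MonoidHom.normal_ker σ
    obtain ⟨a₁, ha₁, a₂, ha₂, rfl⟩ := Subgroup.mem_sup_of_normal_right.mp ha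
    obtain ⟨b₁, hb₁, b₂, hb₂, rfl⟩ := Subgroup.mem_sup_of_normal_right.mp hb
    have ha' := Subgroup.mem_center_iff.mp (hc ha₂)
    have hb' := Subgroup.mem_center_iff.mp (hc hb₂)
    have e : ⁅a₁ * a₂, b₁ * b₂⁆ = ⁅a₁, b₁⁆ := by
      simp only [commutatorElement_def, mul_inv_rev]
      calc a₁ * a₂ * (b₁ * b₂) * (a₂⁻¹ * a₁⁻¹) * (b₂⁻¹ * b₁⁻¹)
          = a₁ * (a₂ * (b₁ * b₂)) * a₂⁻¹ * (a₁⁻¹ * b₂⁻¹) * b₁⁻¹ := by simp only [mul_assoc]
        _ = a₁ * (b₁ * b₂) * (a₁⁻¹ * b₂⁻¹) * b₁⁻¹ := by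
            rw [← ha' (b₁ * b₂)]; simp only [mul_assoc, mul_inv_cancel_left]
        _ = a₁ * b₁ * (b₂ * (a₁⁻¹ * b₂⁻¹)) * b₁⁻¹ := by simp only [mul_assoc]
        _ = a₁ * b₁ * a₁⁻¹ * b₁⁻¹ := by
            rw [← hb' (a₁⁻¹ * b₂⁻¹)]; simp only [mul_assoc, inv_mul_cancel, mul_one]
    rw [e]
    exact mul_mem (mul_mem (mul_mem ha₁ hb₁) (inv_mem ha₁)) (inv_mem hb₁)
  obtain ⟨m, hm, hzm⟩ := hHW z (hle hzS)
  have h1 : val q (D.nf m) = val q (D.nf 0) := by
    rw [← hval', ← hzm, MonoidHom.mem_ker.mp hz, hnf0]; simp [val]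
  rw [hzm, hinj m hm 0 hN h1, hnf0]
  simp [val]

end Cfsg.Agent.Lib.J3.Collect
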