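import Cfsg.Agent.Lib.J3.Kill

/-!
# Killing a prime by collection: normal forms from the shape of the rules
-/

set_option autoImplicit false

namespace Cfsg.Agent.Lib.J3.Collect

open Cfsg.Agent.Lib
open scoped commutatorElement

/-- The normal word of a number. -/
def normal (p n m : ℕ) : List ℕ :=
  (List.range n).flatMap fun i => List.replicate (m / p ^ i % p) i

/-- The letters lie above `i` and below `n`. -/
def above (i n : ℕ) (w : List ℕ) : Bool := w.all fun a => Nat.blt i a && Nat.blt a n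

/-- Every power and every reversed pair has a triangular rule. -/
def KillData.shapeOK (D : KillData) (p : ℕ) : Bool :=
  (List.range D.n).all fun i =>
    ((List.range D.R.num).any fun k => eqList (D.R.lhs k) (List.replicate p i) &&
      above i D.n (D.R.rhs k)) &&
    (List.range D.n).all fun j => Nat.ble j i ||
      ((List.range D.R.num).any fun k => eqList (D.R.lhs k) [j, i] &&
        match D.R.rhs k with
        | a :: w => Nat.beq a i && above i D.n w
        | [] => false)

/-- The equations are as tabulated. -/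
def KillData.tableOK (D : KillData) (p : ℕ) (tbl : List (List ℕ × List ℕ)) : Bool :=
  Nat.beq tbl.length D.srcs.length && (List.range D.srcs.length).all fun j =>
    (equation D.R D.fs (D.srcs.getD j (.ovl [] 0 0 0 0))).1 &&
      (congrOK p D.V (equation D.R D.fs (D.srcs.getD j (.ovl [] 0 0 0 0))).2.1 (tbl.getD j ([], [])).1 &&
        congrOK p D.V (equation D.R D.fs (D.srcs.getD j (.ovl [] 0 0 0 0))).2.2 (tbl.getD j ([], [])).2)

/-- The change of lifts trivialises rule `k`, using the table. -/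
def KillData.comboTOK (D : KillData) (tbl : List (List ℕ × List ℕ)) (p k : ℕ) : Bool :=
  (D.combo k).all (fun j => Nat.blt j D.srcs.length) &&
    congrOK p D.V
      (k :: (D.R.lhs k).flatMap D.shift ++ (D.combo k).flatMap fun j => (tbl.getD j ([], [])).1)
      ((D.R.rhs k).flatMap D.shift ++ (D.combo k).flatMap fun j => (tbl.getD j ([], [])).2)

theorem val_replicate {Γ : Type*} [Group Γ] (U : ℕ → Γ) (e i : ℕ) :
    val U (List.replicate e i) = U i ^ e := by
  simp [val]

theorem val_mem_closure {Γ : Type*} [Group Γ] (U : ℕ → Γ) (i n : ℕ) {w : List ℕ}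
    (hw : ∀ a ∈ w, i ≤ a ∧ a < n) : val U w ∈ Subgroup.closure (U '' Set.Ico i n) := by
  refine Subgroup.list_prod_mem _ fun g hg => ?_
  obtain ⟨a, ha, rfl⟩ := List.mem_map.mp hg
  exact Subgroup.subset_closure ⟨a, hw a ha, rfl⟩

/-- Triangular relations bound the generated subgroup by normal words. -/
theorem exists_normal {Γ : Type*} [Group Γ] [Finite Γ] (U : ℕ → Γ) (p n : ℕ) (hp : 0 < p)
    (hpow : ∀ i < n, ∃ w : List ℕ, (∀ a ∈ w, i < a ∧ a < n) ∧ U i ^ p = val U w)
    (hcomm : ∀ i < n, ∀ j < n, i < j →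
      ∃ w : List ℕ, (∀ a ∈ w, i < a ∧ a < n) ∧ U j * U i = U i * val U w)
    {g : Γ} (hg : g ∈ Subgroup.closure (U '' Set.Iio n)) :
    ∃ m < p ^ n, g = val U (normal p n m) := by
  classical
  have key : ∀ k i, i + k = n → ∀ g ∈ Subgroup.closure (U '' Set.Ico i n),
      ∃ e : ℕ → ℕ, (∀ a, e a < p) ∧
        g = val U ((List.range' i k).flatMap fun a => List.replicate (e a) a) := by
    intro k
    induction k with
    | zero =>
      intro i hi g hg
      rw [show Set.Ico i n = ∅ from Set.Ico_eq_empty (by omega), Set.image_empty,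
        Subgroup.closure_empty, Subgroup.mem_bot] at hg
      exact ⟨fun _ => 0, fun _ => hp, by simp [hg, val]⟩
    | succ k ih =>
      intro i hi g hg
      set T := Subgroup.closure (U '' Set.Ico (i + 1) n)
      have hconj : ∀ t ∈ T, ∃ t' ∈ T, t * U i = U i * t' := by
        intro t ht
        induction ht using Subgroup.closure_induction with
        | mem x hx =>
          obtain ⟨j, hj, rfl⟩ := hx
          obtain ⟨w, hw, hw'⟩ := hcomm i (by omega) j hj.2 (by have := hj.1; omega)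
          exact ⟨_, val_mem_closure U (i + 1) n (fun a ha => ⟨(hw a ha).1, (hw a ha).2⟩), hw'⟩
        | one => exact ⟨1, one_mem _, by simp⟩
        | mul a b _ _ ha hb =>
          obtain ⟨a', ha', ea⟩ := ha
          obtain ⟨b', hb', eb⟩ := hb
          exact ⟨a' * b', mul_mem ha' hb', by rw [mul_assoc, eb, ← mul_assoc, ea, mul_assoc]⟩
        | inv a _ ha =>
          obtain ⟨a', ha', ea⟩ := ha
          refine ⟨a'⁻¹, inv_mem ha', ?_⟩
          rw [eq_mul_inv_iff_mul_eq, mul_assoc, ← ea, inv_mul_cancel_left]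
      have hconj' : ∀ e : ℕ, ∀ t ∈ T, ∃ t' ∈ T, t * U i ^ e = U i ^ e * t' := by
        intro e
        induction e with
        | zero => exact fun t ht => ⟨t, ht, by simp⟩
        | succ e ihe =>
          intro t ht
          obtain ⟨t₁, h₁, e₁⟩ := ihe t ht
          obtain ⟨t₂, h₂, e₂⟩ := hconj t₁ h₁
          exact ⟨t₂, h₂, by rw [pow_succ, ← mul_assoc, e₁, mul_assoc, e₂, ← mul_assoc]⟩
      have hS : ∃ e < p, ∃ t ∈ T, g = U i ^ e * t := by
        have hmul : ∀ x ∈ U '' Set.Ico i n, ∀ e < p, ∀ t ∈ T,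
            ∃ e' < p, ∃ t' ∈ T, x * (U i ^ e * t) = U i ^ e' * t' := by
          rintro _ ⟨j, hj, rfl⟩ e he t ht
          rcases Nat.eq_or_lt_of_le hj.1 with rfl | hlt
          · rcases Nat.lt_or_ge (e + 1) p with h | h
            · exact ⟨e + 1, h, t, ht, by rw [pow_succ', mul_assoc]⟩
            · obtain ⟨w, hw, hw'⟩ := hpow i (by omega)
              refine ⟨0, hp, val U w * t, mul_mem (val_mem_closure U (i + 1) n
                (fun a ha => ⟨(hw a ha).1, (hw a ha).2⟩)) ht, ?_⟩
              rw [← mul_assoc, ← pow_succ', show e + 1 = p by omega, hw', pow_zero, one_mul]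
          · obtain ⟨t', ht', et⟩ := hconj' e _ (Subgroup.subset_closure
              (show U j ∈ U '' Set.Ico (i + 1) n from ⟨j, ⟨hlt, hj.2⟩, rfl⟩))
            exact ⟨e, he, t' * t, mul_mem ht' ht, by rw [← mul_assoc, et, mul_assoc]⟩
        rw [← Subgroup.mem_toSubmonoid, Subgroup.closure_toSubmonoid_of_finite] at hg
        have hall : ∀ e < p, ∀ t ∈ T, ∃ e' < p, ∃ t' ∈ T, g * (U i ^ e * t) = U i ^ e' * t' := by
          induction hg using Submonoid.closure_induction with
          | mem a ha => exact hmul a ha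
          | one => exact fun e he t ht => ⟨e, he, t, ht, one_mul _⟩
          | mul a b _ _ iha ihb =>
            intro e he t ht
            obtain ⟨e₁, he₁, t₁, ht₁, eq₁⟩ := ihb e he t ht
            obtain ⟨e₂, he₂, t₂, ht₂, eq₂⟩ := iha e₁ he₁ t₁ ht₁
            exact ⟨e₂, he₂, t₂, ht₂, by rw [mul_assoc, eq₁, eq₂]⟩
        obtain ⟨e, he, t, ht, h⟩ := hall 0 hp 1 (one_mem _)
        exact ⟨e, he, t, ht, by simpa using h⟩
      obtain ⟨e, he, t, ht, rfl⟩ := hS
      obtain ⟨f, hf, rfl⟩ := ih (i + 1) (by omega) t ht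
      refine ⟨Function.update f i e, fun a => ?_, ?_⟩
      · rcases eq_or_ne a i with rfl | h
        · rw [Function.update_self]; exact he
        · rw [Function.update_of_ne h]; exact hf a
      · rw [List.range'_succ, List.flatMap_cons, val_append, Function.update_self, val_replicate]
        congr 2
        refine List.flatMap_congr fun a ha => ?_
        rw [Function.update_of_ne (by have := List.mem_range'_1.mp ha; omega)]
  rw [show Set.Iio n = Set.Ico 0 n from (Set.ext fun a => by simp)] at hg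
  obtain ⟨e, he, rfl⟩ := key n 0 (by omega) g hg
  let m := finFunctionFinEquiv (fun a : Fin n => (⟨e a, he a⟩ : Fin p))
  refine ⟨m, m.2, ?_⟩
  rw [← List.range_eq_range', normal]
  congr 1
  refine List.flatMap_congr fun a ha => ?_
  have h := congrArg (fun f => ((f ⟨a, List.mem_range.mp ha⟩ : Fin p) : ℕ))
    (finFunctionFinEquiv.symm_apply_apply (fun a : Fin n => (⟨e a, he a⟩ : Fin p)))
  simp only [finFunctionFinEquiv_symm_apply_val] at h
  rw [← h]

theorem eq_one_of_cert_shape {Γ Q : Type*} [Group Γ] [Finite Γ] [Group Q] (σ : Γ →* Q)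
    (hσ : Function.Surjective σ) (hc : σ.ker ≤ Subgroup.center Γ) {z : Γ} (hz : z ∈ σ.ker)
    (hz' : z ∈ commutator Γ) {p : ℕ} (hzp : z ^ p = 1) (hker : ∀ w ∈ σ.ker, ∃ i : ℕ, w = z ^ i)
    (D : KillData) (q : ℕ → Q)
    (hrule : ∀ k < D.R.num, val q (D.R.lhs k) = val q (D.R.rhs k))
    (hfus : ∀ g < D.fs.length, ∃ c : Q, ∀ i < (D.fs.getD g ⟨[], [], 0⟩).src.length,
      c * val q ((D.fs.getD g ⟨[], [], 0⟩).src.getD i []) * c⁻¹ =
        val q ((D.fs.getD g ⟨[], [], 0⟩).img.getD i []))
    (howner : D.ownerOK = true) (tbl : List (List ℕ × List ℕ)) (htbl : D.tableOK p tbl = true)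
    (hcombo : ∀ k < D.R.num, D.comboTOK tbl p k = true) (hp : 0 < p)
    (hshape : D.shapeOK p = true) (hNp : D.N = p ^ D.n) (hnf : D.nf = normal p D.n)
    (hnflt : ∀ m < D.N, ∀ i ∈ D.nf m, i < D.n)
    (hinj : ∀ m < D.N, ∀ m' < D.N, val q (D.nf m) = val q (D.nf m') → m = m')
    (hcop : ∀ c : ℕ, D.N * c = Nat.card Q → Nat.Coprime p c) : z = 1 := by
  classical
  have hzc : z ∈ Subgroup.center Γ := hc hz
  haveI : Finite Q := Finite.of_surjective σ hσ
  choose U hU using fun i => hσ (q i)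
  have hval : ∀ w, σ (val U w) = val q w := by
    intro w
    induction w with
    | nil => simp [val]
    | cons a w ih => rw [val_cons, val_cons, map_mul, hU, ih]
  have hdiff : ∀ a b : Γ, σ a = σ b → ∃ e : ℕ, a = b * z ^ e := by
    intro a b h
    obtain ⟨e, he⟩ := hker (b⁻¹ * a) (by rw [MonoidHom.mem_ker, map_mul, map_inv, h, inv_mul_cancel])
    exact ⟨e, by rw [← he, mul_inv_cancel_left]⟩
  have hex : ∀ k, k < D.R.num → ∃ e : ℕ, val U (D.R.lhs k) = val U (D.R.rhs k) * z ^ e :=
    fun k hk => hdiff _ _ (by rw [hval, hval, hrule k hk])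
  have hfc : ∀ g, ∃ c : Γ, g < D.fs.length → ∀ i < (D.fs.getD g ⟨[], [], 0⟩).src.length,
      ∃ e : ℕ, c * val U ((D.fs.getD g ⟨[], [], 0⟩).src.getD i []) * c⁻¹ =
        val U ((D.fs.getD g ⟨[], [], 0⟩).img.getD i []) * z ^ e := by
    intro g
    by_cases hg : g < D.fs.length
    · obtain ⟨c, hc'⟩ := hfus g hg
      obtain ⟨c', rfl⟩ := hσ c
      exact ⟨c', fun _ i hi => hdiff _ _ (by rw [map_mul, map_mul, map_inv, hval, hval, hc' i hi])⟩
    · exact ⟨1, fun h => absurd h hg⟩
  choose C hC using hfc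
  let x : ℕ → ℕ := fun t =>
    if ht : t < D.R.num then (hex t ht).choose
    else if h : (D.owner t).1 < D.fs.length ∧
        (D.owner t).2 < (D.fs.getD (D.owner t).1 ⟨[], [], 0⟩).src.length then
      (hC _ h.1 _ h.2).choose
    else 0
  have hH : Holds D.R U z x := by
    refine ⟨hzc, fun k hk => ?_⟩
    simp only [x, dif_pos hk]
    exact (hex k hk).choose_spec
  have hF : FusHolds U z x D.fs := by
    intro g hg
    refine ⟨C g, fun i hi => ?_⟩
    simp only [KillData.ownerOK, List.all_eq_true, List.mem_range, Bool.and_eq_true] at howner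
    obtain ⟨h1, h2, h3⟩ := howner g hg i hi
    have e1 := Nat.eq_of_beq_eq_true h2
    have e2 := Nat.eq_of_beq_eq_true h3
    have key : ∀ t g' i', D.owner t = (g', i') → ¬ t < D.R.num → ∀ (hg' : g' < D.fs.length)
        (hi' : i' < (D.fs.getD g' ⟨[], [], 0⟩).src.length), x t = (hC g' hg' i' hi').choose := by
      intro t g' i' ho ht hg' hi'
      have hh : (D.owner t).1 < D.fs.length ∧
          (D.owner t).2 < (D.fs.getD (D.owner t).1 ⟨[], [], 0⟩).src.length := by
        rw [ho]; exact ⟨hg', hi'⟩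
      simp only [x, dif_neg ht, dif_pos hh]
      congr 1 <;> simp [ho]
    rw [key _ g i (Prod.ext e1 e2) (by have := Nat.ble_eq.mp h1; omega) hg hi]
    exact (hC g hg i hi).choose_spec
  -- corrected lifts
  let U' : ℕ → Γ := fun i => U i * z ^ tot x (D.shift i)
  have hH' : Holds D.R U' z (fun _ => 0) := by
    refine ⟨hzc, fun k hk => ?_⟩
    have hk' := hcombo k hk
    simp only [KillData.comboTOK, Bool.and_eq_true, List.all_eq_true, Nat.blt_eq] at hk'
    have h1 := congrOK_sound (x := x) hzp hk'.2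
    simp only [List.cons_append, tot_cons, tot_append, pow_add] at h1
    have h2 : z ^ tot x ((D.combo k).flatMap fun j => (tbl.getD j ([], [])).1) =
      z ^ tot x ((D.combo k).flatMap fun j => (tbl.getD j ([], [])).2) := by
      refine combo_cancel _ _ _ fun j hj => ?_
      simp only [KillData.tableOK, Bool.and_eq_true, List.all_eq_true, List.mem_range] at htbl
      obtain ⟨e1, e2, e3⟩ := htbl.2 j (hk'.1 j hj)
      rw [← congrOK_sound hzp e2, ← congrOK_sound hzp e3]
      exact equation_sound hH hF _ e1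
    rw [h2, ← mul_assoc] at h1
    rw [pow_zero, mul_one, show val U' (D.R.lhs k) = _ from val_mul_pow hzc D.shift x _,
      show val U' (D.R.rhs k) = _ from val_mul_pow hzc D.shift x _, hH.2 k hk, mul_assoc,
      mul_right_cancel h1]
  have hU' : ∀ i, σ (U' i) = q i := fun i => by
    simp [U', map_mul, hU, MonoidHom.mem_ker.mp hz]
  have hval' : ∀ w, σ (val U' w) = val q w := by
    intro w
    induction w with
    | nil => simp [val]
    | cons a w ih => rw [val_cons, val_cons, map_mul, hU', ih]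
  let W : Set Γ := {g | ∃ m, m < D.N ∧ g = val U' (D.nf m)}
  have hex' : ∀ k < D.R.num, val U' (D.R.lhs k) = val U' (D.R.rhs k) := fun k hk => by
    simpa using hH'.2 k hk
  simp only [KillData.shapeOK, above, List.all_eq_true, List.any_eq_true, Bool.and_eq_true,
    Bool.or_eq_true, List.mem_range, Nat.blt_eq] at hshape
  let H : Subgroup Γ := Subgroup.closure (U' '' Set.Iio D.n)
  have hpow' : ∀ i < D.n, ∃ w : List ℕ, (∀ a ∈ w, i < a ∧ a < D.n) ∧ U' i ^ p = val U' w := by
    intro i hi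
    obtain ⟨k, hk, e1, e2⟩ := (hshape i hi).1
    refine ⟨D.R.rhs k, e2, ?_⟩
    rw [← hex' k hk, eqList_sound e1, val_replicate]
  have hcomm' : ∀ i < D.n, ∀ j < D.n, i < j →
      ∃ w : List ℕ, (∀ a ∈ w, i < a ∧ a < D.n) ∧ U' j * U' i = U' i * val U' w := by
    intro i hi j hj hij
    rcases (hshape i hi).2 j hj with hle | ⟨k, hk, e1, e2⟩
    · have := Nat.ble_eq.mp hle; omega
    · cases hr : D.R.rhs k with
      | nil => simp [hr] at e2
      | cons a w =>
        simp only [hr, Bool.and_eq_true, List.all_eq_true, Nat.blt_eq] at e2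
        refine ⟨w, e2.2, ?_⟩
        have h := hex' k hk
        rw [eqList_sound e1, hr, val_cons, val_cons, val_cons,
          Nat.eq_of_beq_eq_true e2.1] at h
        simpa [val] using h
  have hHW : ∀ h ∈ H, h ∈ W := fun h hh => by
    obtain ⟨m, hm, e⟩ := exists_normal U' p D.n hp hpow' hcomm' hh
    exact ⟨m, hNp ▸ hm, hnf ▸ e⟩
  have hN : 0 < D.N := hNp ▸ Nat.pow_pos hp
  have hnf0 : D.nf 0 = [] := by simp [hnf, normal]
  let S : Subgroup Q := H.map σ
  have hcardS : Nat.card S = D.N := by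
    have hmem : ∀ m : Fin D.N, val q (D.nf m) ∈ S := fun m => by
      refine ⟨val U' (D.nf m), ?_, hval' _⟩
      refine Subgroup.list_prod_mem H fun g hg => ?_
      obtain ⟨i, hi, rfl⟩ := List.mem_map.mp hg
      exact Subgroup.subset_closure ⟨i, hnflt m m.2 i hi, rfl⟩
    rw [← Nat.card_eq_of_bijective (fun m : Fin D.N => (⟨_, hmem m⟩ : S)) ⟨?_, ?_⟩, Nat.card_fin]
    · intro a b e
      exact Fin.ext (hinj a a.2 b b.2 (congrArg Subtype.val e))
    · rintro ⟨_, h, hh, rfl⟩
      obtain ⟨m, hm, rfl⟩ := hHW h hh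
      exact ⟨⟨m, hm⟩, Subtype.ext (hval' _).symm⟩
  have hcomap : S.comap σ = H ⊔ σ.ker := Subgroup.comap_map_eq σ H
  have hzS := Compute.mem_commutator_comap σ hσ hc hz hz' hzp (S := S)
    (hcop _ (by rw [← hcardS, Subgroup.card_mul_index]))
  have hle : ⁅S.comap σ, S.comap σ⁆ ≤ H := by
    rw [hcomap, Subgroup.commutator_le]
    intro a ha b hb
    haveI : σ.ker.Normal := MonoidHom.normal_ker σ
    obtain ⟨a₁, ha₁, a₂, ha₂, rfl⟩ := Subgroup.mem_sup_of_normal_right.mp ha
    obtain ⟨b₁, hb₁, b₂, hb₂, rfl⟩ := Subgroup.mem_sup_of_normal_right.mp hb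
    have ha' := Subgroup.mem_center_iff.mp (hc ha₂)
    have hb' := Subgroup.mem_center_iff.mp (hc hb₂)
    have e : ⁅a₁ * a₂, b₁ * b₂⁆ = ⁅a₁, b₁⁆ := by
      simp only [commutatorElement_def, mul_inv_rev]
      calc a₁ * a₂ * (b₁ * b₂) * (a₂⁻¹ * a₁⁻¹) * (b₂⁻¹ * b₁⁻¹)
          = a₁ * (a₂ * (b₁ * b₂)) * a₂⁻¹ * (a₁⁻¹ * b₂⁻¹) * b₁⁻¹ := by simp only [mul_assoc]
        _ = a₁ * (b₁ * b₂) * (a₁⁻¹ * b₂⁻¹) * b₁⁻¹ := by
            rw [← ha' (b₁ * b₂)]; simp only [mul_assoc, mul_inv_cancel_left]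
        _ = a₁ * b₁ * (b₂ * (a₁⁻¹ * b₂⁻¹)) * b₁⁻¹ := by simp only [mul_assoc]
        _ = a₁ * b₁ * a₁⁻¹ * b₁⁻¹ := by
            rw [← hb' (a₁⁻¹ * b₂⁻¹)]; simp only [mul_assoc, inv_mul_cancel, mul_one]
    rw [e]
    exact mul_mem (mul_mem (mul_mem ha₁ hb₁) (inv_mem ha₁)) (inv_mem hb₁)
  obtain ⟨m, hm, hzm⟩ := hHW z (hle hzS)
  have h1 : val q (D.nf m) = val q (D.nf 0) := by
    rw [← hval', ← hzm, MonoidHom.mem_ker.mp hz, hnf0]; simp [val]
  rw [hzm, hinj m hm 0 hN h1, hnf0]
  simp [val]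

end Cfsg.Agent.Lib.J3.Collect
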