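import Mathlib

/-!
# Coset enumeration certificates for an explicit subgroup
-/

set_option autoImplicit false

namespace Cfsg.Agent.Lib.J3

/-- A coset certificate: representatives, permutations of the generators, a spanning tree. -/
structure CosetCert {M : Type*} [Group M] (G K : Subgroup M) {m : ℕ} (g : Fin m → M) (n : ℕ)
    [NeZero n] (r : Fin n → M) (π : Fin m → Fin n → Fin n) : Prop where
  gen : G = Subgroup.closure (Set.range g)
  le : K ≤ G
  zero : r 0 = 1
  edge : ∀ s i, (r (π s i))⁻¹ * (g s * r i) ∈ K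
  surj : ∀ s, Function.Surjective (π s)
  tree : ∀ i, i ≠ 0 → ∃ s p, p < i ∧ π s p = i
  sep : ∀ i, r i ∈ K → i = 0

namespace CosetCert

variable {M : Type*} [Group M] [Finite M] {G K : Subgroup M} {m n : ℕ} [NeZero n]
  {g : Fin m → M} {r : Fin n → M} {π : Fin m → Fin n → Fin n}

omit [Finite M] in
theorem gen_mem (C : CosetCert G K g n r π) (s : Fin m) : g s ∈ G :=
  C.gen ▸ Subgroup.subset_closure ⟨s, rfl⟩

omit [Finite M] in
theorem rep_mem (C : CosetCert G K g n r π) : ∀ i, r i ∈ G := by
  intro i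
  induction i using WellFoundedLT.induction with
  | _ i ih =>
    rcases eq_or_ne i 0 with rfl | hi
    · rw [C.zero]; exact one_mem G
    obtain ⟨s, p, hp, he⟩ := C.tree i hi
    have := C.le (C.edge s p)
    rw [he] at this
    have h2 := G.mul_mem (G.mul_mem (C.gen_mem s) (ih p hp)) (G.inv_mem this)
    simpa [mul_assoc] using h2

theorem exists_rep_mul (C : CosetCert G K g n r π) {x : M} (hx : x ∈ G) :
    ∀ i, ∃ j, (r j)⁻¹ * (x * r i) ∈ K := by
  rw [C.gen, ← Subgroup.mem_toSubmonoid, Subgroup.closure_toSubmonoid_of_finite] at hx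
  induction hx using Submonoid.closure_induction with
  | mem x hx =>
    obtain ⟨s, rfl⟩ := hx
    exact fun i => ⟨_, C.edge s i⟩
  | one => exact fun i => ⟨i, by simp [one_mem]⟩
  | mul x y _ _ ihx ihy =>
    intro i
    obtain ⟨j, hj⟩ := ihy i
    obtain ⟨l, hl⟩ := ihx j
    refine ⟨l, ?_⟩
    have := K.mul_mem hl hj
    simpa [mul_assoc] using this

theorem covers (C : CosetCert G K g n r π) {x : M} (hx : x ∈ G) : ∃ i, (r i)⁻¹ * x ∈ K := by
  obtain ⟨j, hj⟩ := C.exists_rep_mul hx 0
  rw [C.zero, mul_one] at hj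
  exact ⟨j, hj⟩

omit [Finite M] in
theorem rep_inj (C : CosetCert G K g n r π) :
    ∀ i j, (r i)⁻¹ * r j ∈ K → i = j := by
  intro i
  induction i using WellFoundedLT.induction with
  | _ i ih =>
    intro j h
    rcases eq_or_ne i 0 with rfl | hi
    · rw [C.zero, inv_one, one_mul] at h
      exact (C.sep j h).symm
    obtain ⟨s, p, hp, rfl⟩ := C.tree i hi
    obtain ⟨q, rfl⟩ := C.surj s j
    have h1 := K.mul_mem (K.mul_mem (K.inv_mem (C.edge s p)) h) (C.edge s q)
    have h2 : (r p)⁻¹ * r q ∈ K := by simpa [mul_assoc, mul_inv_rev] using h1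
    rw [ih p hp q h2]

/-- The coset of a representative. -/
def cosetMap (C : CosetCert G K g n r π) (i : Fin n) : ↥G ⧸ K.subgroupOf G :=
  QuotientGroup.mk (⟨r i, C.rep_mem i⟩ : ↥G)

theorem cosetMap_bij (C : CosetCert G K g n r π) : Function.Bijective C.cosetMap := by
  refine ⟨fun i j h => C.rep_inj i j ?_, fun x => ?_⟩
  · have := QuotientGroup.eq.mp h
    simpa [Subgroup.mem_subgroupOf] using this
  · induction x using QuotientGroup.induction_on with
    | H x =>
      obtain ⟨i, hi⟩ := C.covers x.2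
      refine ⟨i, QuotientGroup.eq.mpr ?_⟩
      simpa [Subgroup.mem_subgroupOf] using hi

/-- Points of the coset space. -/
noncomputable def equiv (C : CosetCert G K g n r π) : Fin n ≃ ↥G ⧸ K.subgroupOf G :=
  Equiv.ofBijective _ C.cosetMap_bij

theorem card_eq (C : CosetCert G K g n r π) : Nat.card G = n * Nat.card K := by
  rw [← (K.subgroupOf G).index_mul_card,
    Nat.card_congr (Subgroup.subgroupOfEquivOfLe C.le).toEquiv, Subgroup.index,
    ← Nat.card_congr C.equiv, Nat.card_fin]

/-- The permutation representation on the representatives. -/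
noncomputable def perm (C : CosetCert G K g n r π) : ↥G →* Equiv.Perm (Fin n) :=
  C.equiv.symm.permCongrHom.toMonoidHom.comp (MulAction.toPermHom ↥G (↥G ⧸ K.subgroupOf G))

theorem perm_eq_iff (C : CosetCert G K g n r π) (x : ↥G) (i j : Fin n) :
    C.perm x i = j ↔ (r j)⁻¹ * ((x : M) * r i) ∈ K := by
  change C.equiv.symm (x • C.equiv i) = j ↔ _
  rw [Equiv.symm_apply_eq]
  change x • C.cosetMap i = C.cosetMap j ↔ _
  unfold cosetMap
  rw [MulAction.Quotient.smul_mk, eq_comm, QuotientGroup.eq, Subgroup.mem_subgroupOf]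
  rfl

theorem perm_zero_iff (C : CosetCert G K g n r π) (x : ↥G) :
    C.perm x 0 = 0 ↔ (x : M) ∈ K := by
  rw [perm_eq_iff]
  simp [C.zero]

theorem perm_pretransitive (C : CosetCert G K g n r π) (i : Fin n) :
    C.perm ⟨r i, C.rep_mem i⟩ 0 = i := by
  rw [perm_eq_iff]
  simp [C.zero, one_mem]

end CosetCert

end Cfsg.Agent.Lib.J3
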