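import Cfsg.Agent.Lib.J3.Lines

/-!
# Orbits of the triple cover of J₃ on lines
-/

set_option autoImplicit false

namespace Cfsg.Agent.Lib.J3

open Cfsg.Spor Cfsg.Agent.Lib.CosetEnum Matrix

variable {F : Type*} [Field F] {ω : F}

/-- The vector of an 18-bit code. -/
def vecOf (ω : F) (v : ℕ) : F9 → F := fun z => el ω (Nat.testBit v (ix z)) (Nat.testBit v (9 + ix z))

theorem dm_vexp (v : ℕ) (hv : v < 262144) (z : F9) : dm ω (vexp v) z (0, 0) = vecOf ω v z := by
  have hz := ix_lt z
  rw [dm_apply, show ix ((0, 0) : F9) = 0 from rfl]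
  unfold vecOf vexp
  change el ω (Nat.testBit ((v &&& 511) ||| ((v >>> 9) <<< 81)) _)
    (Nat.testBit ((v &&& 511) ||| ((v >>> 9) <<< 81)) _) = _
  simp only [Nat.testBit_or, Nat.testBit_and, Nat.testBit_shiftLeft, Nat.testBit_shiftRight,
    show (511 : ℕ) = 2 ^ 9 - 1 by norm_num, Nat.testBit_two_pow_sub_one]
  simp [hz, show ¬ 81 ≤ ix z by omega, show ¬ 81 + ix z < 9 by omega]

/-- The scalar of a code `1`, `2`, `3`. -/
def scalVal (ω : F) (c : ℕ) : F := if c = 1 then 1 else if c = 2 then ω else if c = 3 then ω * ω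
  else 1

theorem scalVal_ne (hω : ω ^ 2 + ω + 1 = 0) (c : ℕ) : scalVal ω c ≠ 0 := by
  have h0 : ω ≠ 0 := fun e => one_ne_zero (α := F) (by simp [e] at hω)
  unfold scalVal
  split_ifs <;> simp [h0]

theorem dm_scalC (h2 : (2 : F) = 0) (hω : ω ^ 2 + ω + 1 = 0) {c : ℕ} (hc : c < 4) :
    dm ω (scalC c) = Matrix.scalar F9 (scalVal ω c) := by
  have hom : dm ω omC = Matrix.scalar F9 ω := by
    rw [dm_eq_of omC_bits]
    ext w v
    rw [Matrix.of_apply, Matrix.scalar_apply, Matrix.diagonal_apply]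
    split <;> simp [el]
  interval_cases c
  · exact (dm_one).trans (by simp [scalVal])
  · exact (dm_one).trans (by simp [scalVal])
  · exact hom.trans (by simp [scalVal])
  · change dm ω om2C = _
    rw [← om2C_eq, dm_mulC ω h2 hω, hom, ← map_mul]
    simp [scalVal]

/-- The facts certified about one vector of a table. -/
theorem LineTbl.act_eq (h2 : (2 : F) = 0) (hω : ω ^ 2 + ω + 1 = 0) {L : LineTbl}
    (hall : ∀ i < L.n, L.ok i = true) {g : GL F9 F} {s : ℕ} (hs : s < 2)
    (hg : HasCode ω g (tblOne.gen s)) {i : ℕ} (hi : i < L.n) :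
    (g : Matrix F9 F9 F) *ᵥ vecOf ω (L.vec i) =
        scalVal ω (field (L.edge s i) 16 2) • vecOf ω (L.vec (field (L.edge s i) 0 16)) ∧
      field (L.edge s i) 0 16 < L.n := by
  have h := hall i hi
  simp only [LineTbl.ok, LineTbl.edgeOK, Bool.and_eq_true, Nat.blt_eq] at h
  have he : field (L.edge s i) 0 16 < L.n ∧
      mulC (tblOne.gen s) (vexp (L.vec i)) =
        mulC (scalC (field (L.edge s i) 16 2)) (vexp (L.vec (field (L.edge s i) 0 16))) := by
    interval_cases s
    · exact ⟨h.1.1.1, Nat.eq_of_beq_eq_true h.1.1.2⟩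
    · exact ⟨h.1.2.1, Nat.eq_of_beq_eq_true h.1.2.2⟩
  obtain ⟨hj, he⟩ := he
  refine ⟨?_, hj⟩
  have hb : ∀ k < L.n, L.vec k < 262144 := by
    intro k hk
    have h := hall k hk
    simp only [LineTbl.ok, Bool.and_eq_true, Nat.blt_eq] at h
    exact h.2.2.2
  have hc : field (L.edge s i) 16 2 < 4 := by
    have : field (L.edge s i) 16 2 ≤ 2 ^ 2 - 1 := Nat.and_le_right
    omega
  have e := congrArg (dm ω) he
  rw [dm_mulC ω h2 hω, dm_mulC ω h2 hω, ← hg, dm_scalC h2 hω hc] at e
  funext z
  have e' := congrFun (congrFun e z) (0, 0)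
  rw [Matrix.scalar_apply, Matrix.diagonal_mul, dm_vexp _ (hb _ hj)] at e'
  rw [Pi.smul_apply, smul_eq_mul, ← e', Matrix.mul_apply]
  simp only [dm_vexp _ (hb _ hi)]
  rfl

theorem LineTbl.closed [Finite F] (h2 : (2 : F) = 0) (hω : ω ^ 2 + ω + 1 = 0) {L : LineTbl}
    (hall : ∀ i < L.n, L.ok i = true) (C : Chain F ω) {g : GL F9 F}
    (hg : g ∈ Subgroup.closure (Set.range C.g1)) :
    ∀ i < L.n, ∃ j < L.n, ∃ c : F, c ≠ 0 ∧
      (g : Matrix F9 F9 F) *ᵥ vecOf ω (L.vec i) = c • vecOf ω (L.vec j) := by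
  rw [← Subgroup.mem_toSubmonoid, Subgroup.closure_toSubmonoid_of_finite] at hg
  induction hg using Submonoid.closure_induction with
  | mem g hg =>
    obtain ⟨s, rfl⟩ := hg
    intro i hi
    obtain ⟨h, hj⟩ := LineTbl.act_eq h2 hω hall s.2 (C.hg1 s) hi
    exact ⟨_, hj, _, scalVal_ne hω _, h⟩
  | one => exact fun i hi => ⟨i, hi, 1, one_ne_zero, by simp⟩
  | mul g g' _ _ ih ih' =>
    intro i hi
    obtain ⟨j, hj, c, hc, e⟩ := ih' i hi
    obtain ⟨k, hk, d, hd, e'⟩ := ih j hj
    refine ⟨k, hk, c * d, mul_ne_zero hc hd, ?_⟩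
    rw [Units.val_mul, ← Matrix.mulVec_mulVec, e, Matrix.mulVec_smul, e', smul_smul]

theorem LineTbl.reach (h2 : (2 : F) = 0) (hω : ω ^ 2 + ω + 1 = 0) {L : LineTbl}
    (hall : ∀ i < L.n, L.ok i = true) (C : Chain F ω) :
    ∀ i < L.n, ∃ g ∈ Subgroup.closure (Set.range C.g1), ∃ c : F, c ≠ 0 ∧
      (g : Matrix F9 F9 F) *ᵥ vecOf ω (L.vec 0) = c • vecOf ω (L.vec i) := by
  suffices h : ∀ d i, i < L.n → field (L.tree i) 17 5 = d →
      ∃ g ∈ Subgroup.closure (Set.range C.g1), ∃ c : F, c ≠ 0 ∧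
        (g : Matrix F9 F9 F) *ᵥ vecOf ω (L.vec 0) = c • vecOf ω (L.vec i) from
    fun i hi => h _ i hi rfl
  intro d
  induction d using Nat.strongRecOn with
  | _ d ih =>
    intro i hi hd
    rcases Nat.eq_zero_or_pos i with rfl | hpos
    · exact ⟨1, one_mem _, 1, one_ne_zero, by simp⟩
    have h := hall i hi
    simp only [LineTbl.ok, LineTbl.treeOK, Bool.and_eq_true, Bool.or_eq_true, Nat.blt_eq] at h
    rcases h.2.1.1 with h0 | ⟨hp, hdep, hk, he⟩
    · exact absurd (Nat.eq_of_beq_eq_true h0) hpos.ne'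
    obtain ⟨g, hg, c, hc, e⟩ := ih _ (hd ▸ hdep) _ hp rfl
    obtain ⟨e', -⟩ := LineTbl.act_eq h2 hω hall hk (C.hg1 ⟨_, hk⟩) hp
    rw [Nat.eq_of_beq_eq_true he] at e'
    refine ⟨C.g1 ⟨_, hk⟩ * g, mul_mem (Subgroup.subset_closure ⟨_, rfl⟩) hg,
      c * scalVal ω (field (L.edge (field (L.tree i) 16 1) (field (L.tree i) 0 16)) 16 2),
      mul_ne_zero hc (scalVal_ne hω _), ?_⟩
    rw [Units.val_mul, ← Matrix.mulVec_mulVec, e, Matrix.mulVec_smul, e', smul_smul]

theorem testBit_eq_beq (v t : ℕ) : Nat.beq (Nat.land (Nat.shiftRight v t) 1) 1 = v.testBit t := by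
  change Nat.beq ((v >>> t) &&& 1) 1 = _
  rw [Nat.testBit, Nat.one_and_eq_mod_two, Nat.and_one_is_mod]
  rcases Nat.mod_two_eq_zero_or_one (v >>> t) with h | h <;> rw [h] <;> rfl

theorem leadOK_spec {v : ℕ} (h : leadOK v = true) :
    ∃ t < 9, v.testBit t = true ∧ v.testBit (9 + t) = false ∧
      ∀ s < t, v.testBit s = false ∧ v.testBit (9 + s) = false := by
  have key : ∀ l : List ℕ, (∀ t ∈ l, t < 9) →
      List.rec false (fun t _ ih =>
        (Nat.beq (Nat.land (Nat.lor v (Nat.shiftRight v 9)) (Nat.sub (Nat.pow 2 t) 1)) 0 &&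
          (Nat.beq (Nat.land (Nat.shiftRight v t) 1) 1 &&
            Nat.beq (Nat.land (Nat.shiftRight v (9 + t)) 1) 0)) || ih) l = true →
      ∃ t < 9, v.testBit t = true ∧ v.testBit (9 + t) = false ∧
        ∀ s < t, v.testBit s = false ∧ v.testBit (9 + s) = false := by
    intro l
    induction l with
    | nil => intro _ h; exact absurd h (by simp)
    | cons t l ih =>
      intro hl h
      simp only [Bool.or_eq_true, Bool.and_eq_true] at h
      rcases h with ⟨h1, h3, h4⟩ | h
      · refine ⟨t, hl t List.mem_cons_self, by rwa [testBit_eq_beq] at h3, ?_, ?_⟩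
        · have := Nat.eq_of_beq_eq_true h4
          rw [← testBit_eq_beq, show Nat.land (Nat.shiftRight v (9 + t)) 1 = 0 from this]
          rfl
        · intro s hs
          have e : (v ||| (v >>> 9)) &&& (2 ^ t - 1) = 0 := Nat.eq_of_beq_eq_true h1
          have := congrArg (fun x => x.testBit s) e
          simp only [Nat.testBit_and, Nat.testBit_or, Nat.testBit_shiftRight,
            Nat.testBit_two_pow_sub_one, hs, decide_true, Bool.and_true, Nat.zero_testBit,
            Bool.or_eq_false_iff] at this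
          exact this
      · exact ih (fun t ht => hl t (List.mem_cons_of_mem _ ht)) h
  exact key [0, 1, 2, 3, 4, 5, 6, 7, 8] (by decide) h

theorem LineTbl.vec_facts (hω : ω ^ 2 + ω + 1 = 0) (h2 : (2 : F) = 0) {L : LineTbl}
    (hall : ∀ i < L.n, L.ok i = true) :
    (∀ i < L.n, vecOf ω (L.vec i) ≠ 0) ∧
    ∀ i < L.n, ∀ j < L.n, ∀ c : F, c ≠ 0 →
      vecOf ω (L.vec i) = c • vecOf ω (L.vec j) → c = 1 ∧ i = j := by
  have hlead : ∀ i < L.n, ∃ t < 9, (L.vec i).testBit t = true ∧
      (L.vec i).testBit (9 + t) = false ∧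
      ∀ s < t, (L.vec i).testBit s = false ∧ (L.vec i).testBit (9 + s) = false := by
    intro i hi
    have h := hall i hi
    simp only [LineTbl.ok, Bool.and_eq_true] at h
    exact leadOK_spec h.2.1.2
  have hmono : ∀ j, j < L.n → ∀ i < j, L.vec i < L.vec j := by
    intro j
    induction j with
    | zero => intro _ i hi; omega
    | succ j ih =>
      intro hj i hi
      have h := hall j (by omega)
      simp only [LineTbl.ok, Bool.and_eq_true, Bool.or_eq_true, Nat.blt_eq] at h
      have hstep : L.vec j < L.vec (j + 1) := by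
        rcases h.2.2.1 with h' | h'
        · have := Nat.eq_of_beq_eq_true h'; omega
        · exact h'
      rcases Nat.lt_succ_iff_lt_or_eq.mp hi with hlt | rfl
      · exact lt_trans (ih (by omega) i hlt) hstep
      · exact hstep
  have h1 : ∀ i < L.n, vecOf ω (L.vec i) ≠ 0 := by
    intro i hi e
    obtain ⟨t, ht, ha, -, -⟩ := hlead i hi
    obtain ⟨z, hz⟩ := ix_surj t ht
    have := congrFun e z
    simp only [vecOf, hz, Pi.zero_apply] at this
    rw [ha] at this
    exact Bool.noConfusion (el_eq_zero hω this).1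
  refine ⟨h1, fun i hi j hj c hc e => ?_⟩
  obtain ⟨t, ht, ha, hb, hlo⟩ := hlead i hi
  obtain ⟨u, hu, ha', hb', hlo'⟩ := hlead j hj
  obtain ⟨z, hz⟩ := ix_surj t ht
  obtain ⟨w, hw⟩ := ix_surj u hu
  have htu : t = u := by
    rcases lt_trichotomy t u with h | h | h
    · have := congrFun e z
      simp only [vecOf, hz, Pi.smul_apply, smul_eq_mul, ha, hb, (hlo' t h).1, (hlo' t h).2] at this
      simp [el] at this
    · exact h
    · have := congrFun e w
      simp only [vecOf, hw, Pi.smul_apply, smul_eq_mul, ha', hb', (hlo u h).1, (hlo u h).2] at this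
      simp [el] at this
      exact absurd this.symm hc
  subst htu
  have hc1 : c = 1 := by
    have := congrFun e z
    simp only [vecOf, hz, Pi.smul_apply, smul_eq_mul, ha, hb, ha', hb'] at this
    simpa [el] using this.symm
  refine ⟨hc1, ?_⟩
  subst hc1
  rw [one_smul] at e
  have hlt : ∀ k < L.n, L.vec k < 2 ^ 18 := by
    intro k hk
    have h := hall k hk
    simp only [LineTbl.ok, Bool.and_eq_true, Nat.blt_eq] at h
    exact h.2.2.2
  have heq : L.vec i = L.vec j := by
    apply Nat.eq_of_testBit_eq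
    intro b
    by_cases hb18 : b < 18
    · obtain ⟨y, hy⟩ := ix_surj (b % 9) (by omega)
      have := congrFun e y
      simp only [vecOf, hy] at this
      obtain ⟨p, q⟩ := el_inj hω h2 this
      by_cases hb9 : b < 9
      · rwa [Nat.mod_eq_of_lt hb9] at p
      · rwa [show 9 + b % 9 = b by omega] at q
    · have hp : 2 ^ 18 ≤ 2 ^ b := Nat.pow_le_pow_right (by norm_num) (by omega)
      rw [Nat.testBit_lt_two_pow (lt_of_lt_of_le (hlt i hi) hp),
        Nat.testBit_lt_two_pow (lt_of_lt_of_le (hlt j hj) hp)]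
  rcases lt_trichotomy i j with h | h | h
  · exact absurd heq (hmono j hj i h).ne
  · exact h
  · exact absurd heq.symm (hmono i hi j h).ne

theorem parity_spec (h2 : (2 : F) = 0) (hω : ω ^ 2 + ω + 1 = 0) {v : ℕ}
    (h : Nat.beq (parity v) 0 = true) : ∑ z, vecOf ω v z ^ 3 = 0 := by
  have hcube : ∀ a b : Bool, el ω a b ^ 3 = el ω (a || b) false := by
    have h3 : ω ^ 3 = 1 := by linear_combination (ω - 1) * hω
    intro a b
    cases a <;> cases b <;> simp [el, h3] <;> grind
  have hp := Nat.eq_of_beq_eq_true h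
  have hb := congrArg (fun x => x.testBit 0) hp
  unfold parity at hb
  change Nat.testBit ((xor9 fun t => (v ||| (v >>> 9)) >>> t) &&& 1) 0 = Nat.testBit 0 0 at hb
  simp only [Nat.testBit_and, xor9_bit, Nat.testBit_shiftRight, Nat.testBit_or,
    Nat.zero_testBit, Nat.add_zero] at hb
  simp only [show Nat.testBit 1 0 = true from rfl, Bool.and_true] at hb
  rw [sum_F9]
  simp only [vecOf, hcube, show ix ((0, 0) : F9) = 0 from rfl, show ix ((0, 1) : F9) = 1 from rfl,
    show ix ((0, 2) : F9) = 2 from rfl, show ix ((1, 0) : F9) = 3 from rfl,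
    show ix ((1, 1) : F9) = 4 from rfl, show ix ((1, 2) : F9) = 5 from rfl,
    show ix ((2, 0) : F9) = 6 from rfl, show ix ((2, 1) : F9) = 7 from rfl,
    show ix ((2, 2) : F9) = 8 from rfl]
  simp only [← el_add ω h2, Bool.false_xor]
  rw [hb]
  simp [el]

/-- Number of vectors of length `n` over the field of four elements with cube sum zero. -/
theorem card_cube_sum_zero [Fintype F] [DecidableEq F] (hF : Fintype.card F = 4) (h2 : (2 : F) = 0) :
    ∀ n : ℕ, 2 * (Finset.univ.filter fun v : Fin n → F => ∑ i, v i ^ 3 = 0).card =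
      (4 : ℤ) ^ n + (-2) ^ n := by
  have hc : ∀ x : F, x ≠ 0 → x ^ 3 = 1 := fun x hx => by
    have := FiniteField.pow_card_sub_one_eq_one x hx
    rwa [hF] at this
  have hsum : ∀ {n : ℕ} (v : Fin n → F), ∑ i, v i ^ 3 = 0 ∨ ∑ i, v i ^ 3 = 1 := by
    intro n v
    refine Finset.sum_induction _ (fun x : F => x = 0 ∨ x = 1) ?_ (Or.inl rfl) ?_
    · rintro a b (rfl | rfl) (rfl | rfl) <;> simp
      exact one_add_one_eq_two.trans h2
    · intro i _
      by_cases h : v i = 0
      · simp [h]
      · exact Or.inr (hc _ h)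
  intro n
  induction n with
  | zero => simp
  | succ n ih =>
    set P : Finset (Fin n → F) := Finset.univ.filter fun v => ∑ i, v i ^ 3 = 0 with hP
    have key : (Finset.univ.filter fun v : Fin (n + 1) → F => ∑ i, v i ^ 3 = 0) =
        ((({0} : Finset F) ×ˢ P) ∪ ((Finset.univ.erase (0 : F)) ×ˢ Pᶜ)).map
          (Fin.consEquiv fun _ => F).toEmbedding := by
      ext v
      simp only [Finset.mem_filter, Finset.mem_univ, true_and, Finset.mem_map_equiv,
        Finset.mem_union, Finset.mem_product, Finset.mem_singleton, Finset.mem_erase,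
        Finset.mem_compl, hP, ne_eq, and_true]
      rw [Fin.sum_univ_succ]
      simp only [Fin.consEquiv_symm_apply]
      by_cases h : v 0 = 0
      · simp [h, Fin.tail]
      · rw [hc _ h]
        simp only [h, false_and, not_false_eq_true, true_and, false_or]
        rcases hsum (fun i => v i.succ) with e | e <;> simp [e, Fin.tail]
        exact one_add_one_eq_two.trans h2
    rw [key, Finset.card_map, Finset.card_union_of_disjoint
      (Finset.disjoint_left.mpr fun x h1 h3 => by
        simp only [Finset.mem_product, Finset.mem_singleton, Finset.mem_erase] at h1 h3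
        exact h3.1.1 h1.1),
      Finset.card_product, Finset.card_product, Finset.card_singleton,
      Finset.card_erase_of_mem (Finset.mem_univ _), Finset.card_univ, hF, Finset.card_compl,
      Fintype.card_fun, hF, Fintype.card_fin]
    have hle : P.card ≤ 4 ^ n := by
      have := P.card_le_univ
      rwa [Fintype.card_fun, hF, Fintype.card_fin] at this
    push_cast [Nat.cast_sub hle]
    rw [pow_succ, pow_succ]
    linarith

end Cfsg.Agent.Lib.J3
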