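import Cfsg.Agent.Lib.J3.Setup
import Cfsg.Agent.Lib.J3.DataLineZero
import Cfsg.Agent.Lib.J3.DataLineIso

/-!
# Tables of orbits on lines and their kernel checks
-/

set_option autoImplicit false
set_option maxRecDepth 100000

namespace Cfsg.Agent.Lib.J3

open Cfsg.Spor Cfsg.Agent.Lib.CosetEnum

/-- Spread an 18-bit vector to the code of a matrix with one column. -/
def vexp (v : ℕ) : ℕ := Nat.lor (Nat.land v 511) (Nat.shiftLeft (Nat.shiftRight v 9) 81)

/-- An orbit table on normalised vectors. -/
structure LineTbl where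
  n : ℕ
  vec : ℕ → ℕ
  edge : ℕ → ℕ → ℕ
  tree : ℕ → ℕ

/-- Scalar code. -/
noncomputable def scalC (c : ℕ) : ℕ := nth [oneC, oneC, omC, om2C] c

/-- One generator at one vector. -/
noncomputable def LineTbl.edgeOK (L : LineTbl) (s i : ℕ) : Bool :=
  Nat.blt (field (L.edge s i) 0 16) L.n &&
    Nat.beq (mulC (tblOne.gen s) (vexp (L.vec i)))
      (mulC (scalC (field (L.edge s i) 16 2)) (vexp (L.vec (field (L.edge s i) 0 16))))

/-- One tree node. -/
noncomputable def LineTbl.treeOK (L : LineTbl) (i : ℕ) : Bool :=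
  Nat.beq i 0 || (Nat.blt (field (L.tree i) 0 16) L.n &&
    (Nat.blt (field (L.tree (field (L.tree i) 0 16)) 17 5) (field (L.tree i) 17 5) &&
      (Nat.blt (field (L.tree i) 16 1) 2 &&
        Nat.beq (field (L.edge (field (L.tree i) 16 1) (field (L.tree i) 0 16)) 0 16) i)))

/-- The first nonzero entry of a vector is one. -/
noncomputable def leadOK (v : ℕ) : Bool :=
  List.rec false
    (fun t _ ih =>
      (Nat.beq (Nat.land (Nat.lor v (Nat.shiftRight v 9)) (Nat.sub (Nat.pow 2 t) 1)) 0 &&
        (Nat.beq (Nat.land (Nat.shiftRight v t) 1) 1 &&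
          Nat.beq (Nat.land (Nat.shiftRight v (9 + t)) 1) 0)) || ih)
    [0, 1, 2, 3, 4, 5, 6, 7, 8]

/-- Parity of the number of nonzero entries. -/
noncomputable def parity (v : ℕ) : ℕ :=
  Nat.land (xor9 fun t => Nat.shiftRight (Nat.lor v (Nat.shiftRight v 9)) t) 1

/-- All checks at one vector. -/
noncomputable def LineTbl.ok (L : LineTbl) (i : ℕ) : Bool :=
  (L.edgeOK 0 i && L.edgeOK 1 i) &&
    ((L.treeOK i && leadOK (L.vec i)) &&
      ((Nat.beq (i + 1) L.n || Nat.blt (L.vec i) (L.vec (i + 1))) &&
        Nat.blt (L.vec i) 262144))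

/-- The orbit of the first basis line. -/
noncomputable def lineTblZero : LineTbl where
  n := 23256
  vec := Arr.get 18 lineZero
  edge s := Arr.get 18 (sel lineEdgeZero0 lineEdgeZero1 s)
  tree := Arr.get 22 lineTreeZero

/-- The isotropic orbit. -/
noncomputable def lineTblIso : LineTbl where
  n := 43605
  vec := Arr.get 18 lineIso
  edge s := Arr.get 18 (sel lineEdgeIso0 lineEdgeIso1 s)
  tree := Arr.get 22 lineTreeIso

theorem lineZero_first : lineTblZero.vec 0 = 1 := by decide +kernel

theorem lineZero_ok_a : allUpTo lineTblZero.ok 0 6000 = true := by decide +kernel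

theorem lineZero_ok_b : allUpTo lineTblZero.ok 6000 6000 = true := by decide +kernel

theorem lineZero_ok_c : allUpTo lineTblZero.ok 12000 6000 = true := by decide +kernel

theorem lineZero_ok_d : allUpTo lineTblZero.ok 18000 5256 = true := by decide +kernel

theorem lineZero_spec : ∀ i < 23256, lineTblZero.ok i = true :=
  allUpTo_append
    (allUpTo_append
      (allUpTo_append (fun i hi => of_allUpTo lineZero_ok_a i (Nat.zero_le i) (by omega))
        lineZero_ok_b)
      lineZero_ok_c)
    lineZero_ok_d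

end Cfsg.Agent.Lib.J3
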