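import Cfsg.Agent.Lib.J3.Lines

/-!
# Kernel checks of the orbit of isotropic lines
-/

set_option autoImplicit false
set_option maxRecDepth 100000

namespace Cfsg.Agent.Lib.J3

open Cfsg.Agent.Lib.CosetEnum

theorem lineIso_ok_0 : allUpTo lineTblIso.ok 0 5500 = true := by decide +kernel

theorem lineIso_parity_0 : allUpTo (fun i => Nat.beq (parity (lineTblIso.vec i)) 0) 0 5500 = true := by
  decide +kernel

theorem lineIso_ok_1 : allUpTo lineTblIso.ok 5500 5500 = true := by decide +kernel

theorem lineIso_parity_1 : allUpTo (fun i => Nat.beq (parity (lineTblIso.vec i)) 0) 5500 5500 = true := by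
  decide +kernel

theorem lineIso_ok_2 : allUpTo lineTblIso.ok 11000 5500 = true := by decide +kernel

theorem lineIso_parity_2 : allUpTo (fun i => Nat.beq (parity (lineTblIso.vec i)) 0) 11000 5500 = true := by
  decide +kernel

theorem lineIso_ok_3 : allUpTo lineTblIso.ok 16500 5500 = true := by decide +kernel

theorem lineIso_parity_3 : allUpTo (fun i => Nat.beq (parity (lineTblIso.vec i)) 0) 16500 5500 = true := by
  decide +kernel

theorem lineIso_ok_4 : allUpTo lineTblIso.ok 22000 5500 = true := by decide +kernel

theorem lineIso_parity_4 : allUpTo (fun i => Nat.beq (parity (lineTblIso.vec i)) 0) 22000 5500 = true := by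
  decide +kernel

theorem lineIso_ok_5 : allUpTo lineTblIso.ok 27500 5500 = true := by decide +kernel

theorem lineIso_parity_5 : allUpTo (fun i => Nat.beq (parity (lineTblIso.vec i)) 0) 27500 5500 = true := by
  decide +kernel

theorem lineIso_ok_6 : allUpTo lineTblIso.ok 33000 5500 = true := by decide +kernel

theorem lineIso_parity_6 : allUpTo (fun i => Nat.beq (parity (lineTblIso.vec i)) 0) 33000 5500 = true := by
  decide +kernel

theorem lineIso_ok_7 : allUpTo lineTblIso.ok 38500 5105 = true := by decide +kernel

theorem lineIso_parity_7 : allUpTo (fun i => Nat.beq (parity (lineTblIso.vec i)) 0) 38500 5105 = true := by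
  decide +kernel

theorem lineIso_ok_spec : ∀ i < 43605, lineTblIso.ok i = true :=
  (allUpTo_append (allUpTo_append (allUpTo_append (allUpTo_append (allUpTo_append (allUpTo_append (allUpTo_append (fun i hi => of_allUpTo lineIso_ok_0 i (Nat.zero_le i) (by omega))
      lineIso_ok_1)
      lineIso_ok_2)
      lineIso_ok_3)
      lineIso_ok_4)
      lineIso_ok_5)
      lineIso_ok_6)
      lineIso_ok_7)

theorem lineIso_parity_spec : ∀ i < 43605, Nat.beq (parity (lineTblIso.vec i)) 0 = true :=
  (allUpTo_append (allUpTo_append (allUpTo_append (allUpTo_append (allUpTo_append (allUpTo_append (allUpTo_append (fun i hi => of_allUpTo lineIso_parity_0 i (Nat.zero_le i) (by omega))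
      lineIso_parity_1)
      lineIso_parity_2)
      lineIso_parity_3)
      lineIso_parity_4)
      lineIso_parity_5)
      lineIso_parity_6)
      lineIso_parity_7)

end Cfsg.Agent.Lib.J3
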