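import Cfsg.Agent.Lib.J3.LocalData
import Cfsg.Agent.Lib.PGroups.SymplecticType
import Cfsg.Prelude.Def_Transfer

/-!
# The involution centraliser in J₃
-/

set_option autoImplicit false
set_option maxRecDepth 100000

namespace Cfsg.Agent.Lib.J3

open Cfsg.Agent.Lib.CosetEnum
open scoped commutatorElement

theorem ext_pair : allUpTo (fun a => allUpTo (fun b =>
    Nat.beq (extMul a b) (extMul b a) || Nat.beq (extMul a b) (extMul invIdxQ (extMul b a))) 0 32)
    0 32 = true := by decide +kernel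

theorem extMul_noncomm : ∃ a < 32, ∃ b < 32, extMul a b ≠ extMul b a := by
  have h : allUpTo (fun b => Nat.beq (extMul 1 b) (extMul b 1)) 0 32 = false := by decide +kernel
  obtain ⟨b, hb, hf⟩ := allUpTo_false (by norm_num) h
  exact ⟨1, by norm_num, b, hb, fun e => by rw [e] at hf; simp at hf⟩

namespace LocalData

variable {J : Type*} [Group J] (L : LocalData J)

theorem ext_facts (x : Fin 32) : (extFin x : ℕ) = extraIdx.get 7 x ∧
    ∀ y : Fin 32, extMul x y < 32 ∧
      sylMul (extraIdx.get 7 x) (extraIdx.get 7 y) = extraIdx.get 7 (extMul x y) ∧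
      (extFin x = extFin y → x = y) := by
  have h := of_allUpTo ext_ok x (Nat.zero_le _) (by omega)
  simp only [extOK, Bool.and_eq_true, Nat.blt_eq] at h
  have hval : ∀ z : Fin 32, (extFin z : ℕ) = extraIdx.get 7 z := by
    intro z
    have hz := of_allUpTo ext_ok z (Nat.zero_le _) (by omega)
    simp only [extOK, Bool.and_eq_true, Nat.blt_eq] at hz
    exact Nat.mod_eq_of_lt hz.1.1
  refine ⟨hval x, fun y => ?_⟩
  have h1 := of_allUpTo h.1.2 y (Nat.zero_le _) (by omega)
  simp only [Bool.and_eq_true, Bool.or_eq_true, Nat.blt_eq, bnot'_iff] at h1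
  refine ⟨h1.1, Nat.eq_of_beq_eq_true h1.2.1, fun e => ?_⟩
  rcases h1.2.2 with h3 | h3
  · exact Fin.ext (Nat.eq_of_beq_eq_true h3)
  · rw [← hval x, ← hval y, e] at h3
    simp at h3

theorem extFin_zero : extFin 0 = 0 := by
  apply Fin.ext
  rw [(LocalData.ext_facts 0).1]
  exact local_consts.2.2.1

/-- The extraspecial table. -/
noncomputable def Q : TableGrp J 32 where
  el x := L.P.el (extFin x)
  mul x y := ⟨extMul x y, ((LocalData.ext_facts x).2 y).1⟩
  el_mul x y := by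
    rw [L.P.el_mul]
    congr 1
    apply Fin.ext
    have hx := (LocalData.ext_facts x).1
    have hy := (LocalData.ext_facts y).1
    have hm := ((LocalData.ext_facts x).2 y).2.1
    have hz := (LocalData.ext_facts ⟨extMul x y, ((LocalData.ext_facts x).2 y).1⟩).1
    rw [L.hPmul]
    exact ((congrArg₂ sylMul hx hy).trans hm).trans hz.symm
  el_one := by rw [extFin_zero, L.P.el_one]
  el_inj x y e := ((LocalData.ext_facts x).2 y).2.2 (L.P.el_inj e)

theorem Q_le_P : L.Q.sub ≤ L.P.sub := by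
  rintro _ ⟨x, rfl⟩
  exact ⟨extFin x, rfl⟩

theorem t_eq_Q : L.Q.el ⟨invIdxQ, local_consts.2.2.2.2.2.2.2.1⟩ = L.t :=
  L.ht _ ((LocalData.ext_facts _).1.trans local_consts.2.2.2.1)

theorem t_eq_P : L.P.el ⟨invIdxP, local_consts.2.2.2.2.2.2.1⟩ = L.t := L.ht _ rfl

theorem t_ne_one : L.t ≠ 1 := by
  rw [← L.t_eq_P, ← L.P.el_one]
  intro e
  exact local_consts.2.2.2.2.2.2.2.2.1 (congrArg Fin.val (L.P.el_inj e))

theorem orderOf_t : orderOf L.t = 2 := by
  haveI : Fact (Nat.Prime 2) := ⟨Nat.prime_two⟩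
  refine orderOf_eq_prime ?_ L.t_ne_one
  rw [← L.t_eq_P, sq, L.P.el_mul, ← L.P.el_one]
  congr 1
  exact Fin.ext ((L.hPmul _ _).trans local_consts.2.2.2.2.2.1)

theorem P_comm_t (i : Fin 128) : L.P.el i * L.t = L.t * L.P.el i := by
  rw [← L.t_eq_P, L.P.el_mul, L.P.el_mul]
  congr 1
  apply Fin.ext
  rw [L.hPmul, L.hPmul]
  have h := of_allUpTo syl_ok i (Nat.zero_le _) (by omega)
  simp only [sylOK, Bool.and_eq_true] at h
  exact (Nat.eq_of_beq_eq_true h.1.2).symm

theorem act_eq (h : Fin 60) (x : Fin 32) :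
    ∃ y : Fin 32, (y : ℕ) = cmpAct h x ∧ L.H.el h * L.Q.el x = L.Q.el y * L.H.el h := by
  have hh := of_allUpTo cmp_ok h (Nat.zero_le _) (by omega)
  simp only [cmpOK, Bool.and_eq_true] at hh
  have h1 := of_allUpTo hh.1.2 x (Nat.zero_le _) (by omega)
  simp only [Bool.and_eq_true, Nat.blt_eq] at h1
  exact ⟨⟨_, h1.1⟩, rfl, L.act h x _ rfl⟩

theorem H_comm_t (h : Fin 60) : L.H.el h * L.t = L.t * L.H.el h := by
  obtain ⟨y, hy, e⟩ := L.act_eq h ⟨invIdxQ, local_consts.2.2.2.2.2.2.2.1⟩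
  have hh := of_allUpTo cmp_ok h (Nat.zero_le _) (by omega)
  simp only [cmpOK, Bool.and_eq_true] at hh
  have hy' : y = ⟨invIdxQ, local_consts.2.2.2.2.2.2.2.1⟩ :=
    Fin.ext (hy.trans (Nat.eq_of_beq_eq_true hh.2.1.1))
  rwa [hy', L.t_eq_Q] at e

/-- The centraliser of the involution. -/
abbrev cent : Subgroup J := Subgroup.centralizer ({L.t} : Set J)

theorem P_le_cent : L.P.sub ≤ L.cent := by
  rintro _ ⟨i, rfl⟩
  exact Subgroup.mem_centralizer_singleton_iff.mpr (L.P_comm_t i)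

theorem H_le_cent : L.H.sub ≤ L.cent := by
  rintro _ ⟨h, rfl⟩
  exact Subgroup.mem_centralizer_singleton_iff.mpr (L.H_comm_t h)

theorem trivial_of_commute (x : Fin 32) (h : Fin 60)
    (hc : ∀ y, L.Q.el x * L.H.el h * L.Q.el y = L.Q.el y * (L.Q.el x * L.H.el h)) : h = 0 := by
  by_contra hne
  have hh := of_allUpTo cmp_ok h (Nat.zero_le _) (by omega)
  simp only [cmpOK, Bool.and_eq_true] at hh
  have h1 := of_allUpTo hh.1.2 x (Nat.zero_le _) (by omega)
  simp only [Bool.and_eq_true, Bool.or_eq_true, bnot'_iff] at h1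
  rcases h1.2.2 with h0 | h0
  · exact hne (Fin.ext (by simpa using Nat.eq_of_beq_eq_true h0))
  · obtain ⟨y, hy, hf⟩ := allUpTo_false (by norm_num) h0
    obtain ⟨z, hz, e⟩ := L.act_eq h ⟨y, hy⟩
    have e1 := hc ⟨y, hy⟩
    rw [mul_assoc, e, ← mul_assoc, L.Q.el_mul, ← mul_assoc, L.Q.el_mul] at e1
    have e2 := congrArg Fin.val (L.Q.el_inj (mul_right_cancel e1))
    change extMul x z = extMul y x at e2
    rw [hz] at e2
    rw [e2] at hf
    simp at hf

/-- The product map. -/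
noncomputable def prodMap (p : Fin 32 × Fin 60) : L.cent :=
  ⟨L.Q.el p.1 * L.H.el p.2,
    mul_mem (L.P_le_cent (L.Q_le_P (L.Q.el_mem p.1))) (L.H_le_cent (L.H.el_mem p.2))⟩

theorem prodMap_inj : Function.Injective L.prodMap := by
  rintro ⟨a, h⟩ ⟨b, k⟩ e
  have e' : L.Q.el a * L.H.el h = L.Q.el b * L.H.el k := congrArg Subtype.val e
  obtain ⟨x, hx⟩ := mul_mem (inv_mem (L.Q.el_mem b)) (L.Q.el_mem a)
  obtain ⟨l, hl⟩ := mul_mem (L.H.el_mem h) (inv_mem (L.H.el_mem k))
  have h1 : L.Q.el x * L.H.el l = 1 := by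
    rw [hx, hl, mul_assoc, ← mul_assoc (L.Q.el a), e', mul_inv_cancel_right, inv_mul_cancel]
  have hl0 := L.trivial_of_commute x l fun y => by rw [h1, one_mul, mul_one]
  rw [hl0, L.H.el_one] at hl
  have hk : h = k := L.H.el_inj (mul_inv_eq_one.mp hl.symm)
  subst hk
  exact Prod.ext (L.Q.el_inj (mul_right_cancel e')) rfl

theorem card_cent [Finite J] : Nat.card L.cent = 1920 := by
  have hlo : 1920 ≤ Nat.card L.cent := by
    have := Nat.card_le_card_of_injective _ L.prodMap_inj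
    simpa using this
  have horb : {u : J | IsConj L.t u} = MulAction.orbit (ConjAct J) L.t := by
    ext u
    rw [Set.mem_setOf_eq, ConjAct.mem_orbit_conjAct, isConj_comm]
  have hmul := MulAction.index_stabilizer (G := ConjAct J) L.t
  have h1 := (MulAction.stabilizer (ConjAct J) L.t).index_mul_card
  rw [hmul, ← horb] at h1
  have h3 : Nat.card (MulAction.stabilizer (ConjAct J) L.t) = Nat.card L.cent :=
    (Subgroup.nat_card_centralizer_nat_card_stabilizer L.t).symm
  rw [h3, show Nat.card (ConjAct J) = Nat.card J from rfl, L.card_eq] at h1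
  have h4 : 26163 * Nat.card L.cent ≤ 50232960 :=
    h1 ▸ Nat.mul_le_mul_right _ L.class_card
  omega

theorem exists_prod [Finite J] {g : J} (hg : g ∈ L.cent) :
    ∃ x h, g = L.Q.el x * L.H.el h := by
  have hb : Function.Bijective L.prodMap := by
    refine (Nat.bijective_iff_injective_and_card _).mpr ⟨L.prodMap_inj, ?_⟩
    rw [L.card_cent]; simp
  obtain ⟨p, hp⟩ := hb.2 ⟨g, hg⟩
  exact ⟨p.1, p.2, (congrArg Subtype.val hp).symm⟩

theorem cent_normalizes [Finite J] {g : J} (hg : g ∈ L.cent) :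
    ∀ q ∈ L.Q.sub, g * q * g⁻¹ ∈ L.Q.sub := by
  rintro _ ⟨y, rfl⟩
  obtain ⟨x, h, rfl⟩ := L.exists_prod hg
  obtain ⟨z, -, e⟩ := L.act_eq h y
  rw [show L.Q.el x * L.H.el h * L.Q.el y * (L.Q.el x * L.H.el h)⁻¹ =
    L.Q.el x * (L.H.el h * L.Q.el y * (L.H.el h)⁻¹) * (L.Q.el x)⁻¹ by group, e,
    mul_inv_cancel_right]
  exact mul_mem (mul_mem (L.Q.el_mem x) (L.Q.el_mem z)) (inv_mem (L.Q.el_mem x))

theorem center_P {x : J} (hx : x ∈ L.P.sub) (hc : ∀ y ∈ L.P.sub, x * y = y * x) :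
    x = 1 ∨ x = L.t := by
  obtain ⟨i, rfl⟩ := hx
  have h := of_allUpTo syl_ok i (Nat.zero_le _) (by omega)
  simp only [sylOK, Bool.and_eq_true, Bool.or_eq_true, bnot'_iff] at h
  rcases h.2.1 with h' | h' | h'
  · left
    rw [show i = 0 from Fin.ext (by simpa using Nat.eq_of_beq_eq_true h'), L.P.el_one]
  · exact Or.inr (L.ht i (Nat.eq_of_beq_eq_true h'))
  · obtain ⟨j, hj, hf⟩ := allUpTo_false (by norm_num) h'
    have e := hc _ (L.P.el_mem ⟨j, hj⟩)
    rw [L.P.el_mul, L.P.el_mul] at e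
    have e' := congrArg Fin.val (L.P.el_inj e)
    rw [L.hPmul, L.hPmul] at e'
    simp only at e'
    rw [e'] at hf
    simp at hf

/-- The Sylow subgroup. -/
noncomputable def sylow [Finite J] : Sylow 2 J :=
  haveI : Fact (Nat.Prime 2) := ⟨Nat.prime_two⟩
  Sylow.ofCard L.P.sub (by
    rw [L.P.card_sub, L.card_eq, show (50232960 : ℕ) = 2 ^ 7 * 392445 by norm_num,
      Nat.factorization_mul (by norm_num) (by norm_num), Finsupp.add_apply,
      Nat.factorization_eq_zero_of_not_dvd (show ¬ 2 ∣ 392445 by norm_num),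
      Nat.prime_two.factorization_pow, Finsupp.single_eq_same, add_zero]
    norm_num)

theorem coe_sylow [Finite J] : (L.sylow : Subgroup J) = L.P.sub := rfl

theorem conj_of_involution [Finite J] {x : J} (hx : orderOf x = 2) : IsConj L.t x := by
  haveI : Fact (Nat.Prime 2) := ⟨Nat.prime_two⟩
  obtain ⟨S, hS⟩ := IsPGroup.exists_le_sylow (p := 2) (P := Subgroup.zpowers x)
    (IsPGroup.of_card (n := 1) (by rw [Nat.card_zpowers, hx, pow_one]))
  obtain ⟨g, hg⟩ := MulAction.exists_smul_eq J L.sylow S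
  have hxS : x ∈ ((g • L.sylow : Sylow 2 J) : Subgroup J) := hg.symm ▸ hS (Subgroup.mem_zpowers x)
  rw [Sylow.coe_subgroup_smul] at hxS
  obtain ⟨y, hy, rfl⟩ := Subgroup.mem_map.mp hxS
  obtain ⟨i, rfl⟩ : ∃ i, L.P.el i = y := hy
  have hy2 : orderOf (L.P.el i) = 2 := by
    rw [← hx]; exact (orderOf_injective _ (MulAut.conj g).injective _).symm
  have hi0 : (i : ℕ) ≠ 0 := fun e => by
    rw [show i = 0 from Fin.ext (by simpa using e), L.P.el_one, orderOf_one] at hy2
    exact absurd hy2 (by norm_num)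
  have hsq : sylMul i i = 0 := by
    have h := pow_orderOf_eq_one (L.P.el i)
    rw [hy2, sq, L.P.el_mul, ← L.P.el_one] at h
    have := congrArg Fin.val (L.P.el_inj h)
    rwa [L.hPmul] at this
  exact (L.conj i hi0 hsq).trans (isConj_iff.mpr ⟨g, rfl⟩)

theorem closed_trivial [Finite J] (T : Subgroup J) (hT : T ≤ L.P.sub) (hT0 : T ≠ ⊥)
    (hcl : ∀ x ∈ T, ∀ g : J, g * x * g⁻¹ ∈ L.P.sub → g * x * g⁻¹ ∈ T) : T = L.P.sub := by
  haveI : Fact (Nat.Prime 2) := ⟨Nat.prime_two⟩
  have hP : IsPGroup 2 L.P.sub := IsPGroup.of_card (n := 7) (by rw [L.P.card_sub]; norm_num)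
  obtain ⟨k, hk⟩ := IsPGroup.iff_card.mp (hP.to_le hT)
  have hk0 : k ≠ 0 := by
    rintro rfl
    exact hT0 (Subgroup.card_eq_one.mp (by simpa using hk))
  obtain ⟨x, hx⟩ := exists_prime_orderOf_dvd_card' (G := T) 2 (hk ▸ dvd_pow_self 2 hk0)
  rw [← Subgroup.orderOf_coe] at hx
  have hinv : ∀ v : Fin 128, (v : ℕ) ≠ 0 → sylMul v v = 0 → L.P.el v ∈ T := by
    intro v hv hv2
    obtain ⟨g, hg⟩ := isConj_iff.mp ((L.conj_of_involution hx).symm.trans (L.conj v hv hv2))
    exact hg ▸ hcl _ x.2 g (hg.symm ▸ L.P.el_mem v)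
  refine le_antisymm hT ?_
  rintro _ ⟨i, rfl⟩
  suffices h : ∀ d (i : Fin 128), field (sylWord.get 18 i) 14 4 = d → L.P.el i ∈ T from h _ i rfl
  intro d
  induction d using Nat.strongRecOn with
  | _ d ih =>
    intro i hd
    have h := of_allUpTo syl_ok i (Nat.zero_le _) (by omega)
    simp only [sylOK, Bool.and_eq_true, Bool.or_eq_true, Nat.blt_eq] at h
    rcases h.2.2.1 with h0 | ⟨hp, hv, hv2, he, hdep⟩
    · rw [show i = 0 from Fin.ext (by simpa using Nat.eq_of_beq_eq_true h0), L.P.el_one]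
      exact one_mem T
    have hprod : L.P.el ⟨_, hv⟩ * L.P.el ⟨_, hp⟩ = L.P.el i := by
      rw [L.P.el_mul]
      congr 1
      exact Fin.ext ((L.hPmul _ _).trans (Nat.eq_of_beq_eq_true he))
    rw [← hprod]
    refine mul_mem ?_ (ih _ (hd ▸ hdep) ⟨_, hp⟩ rfl)
    rcases Nat.eq_zero_or_pos (field (sylWord.get 18 i) 7 7) with h0 | h0
    · rw [show (⟨_, hv⟩ : Fin 128) = 0 from Fin.ext (by simpa using h0), L.P.el_one]
      exact one_mem T
    · exact hinv _ h0.ne' (Nat.eq_of_beq_eq_true hv2)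

theorem normalizer_le [Finite J] :
    Subgroup.normalizer (L.P.sub : Set J) ≤ L.cent := by
  intro g hg
  rw [Subgroup.mem_centralizer_singleton_iff]
  have ht : L.t ∈ L.P.sub := L.t_eq_P ▸ L.P.el_mem _
  have hm : g * L.t * g⁻¹ ∈ L.P.sub := (Subgroup.mem_normalizer_iff.mp hg _).mp ht
  rcases L.center_P hm (by
    intro y hy
    have hy' : g⁻¹ * y * g ∈ L.P.sub := by
      have := (Subgroup.mem_normalizer_iff.mp (inv_mem hg) y).mp hy
      simpa using this
    obtain ⟨i, hi⟩ : ∃ i, L.P.el i = g⁻¹ * y * g := hy'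
    have e := L.P_comm_t i
    rw [hi] at e
    calc g * L.t * g⁻¹ * y = g * (L.t * (g⁻¹ * y * g)) * g⁻¹ := by group
      _ = g * ((g⁻¹ * y * g) * L.t) * g⁻¹ := by rw [e]
      _ = y * (g * L.t * g⁻¹) := by group) with h | h
  · exact absurd (by
      calc L.t = g⁻¹ * (g * L.t * g⁻¹) * g := by group
        _ = 1 := by rw [h]; group) L.t_ne_one
  · exact mul_inv_eq_iff_eq_mul.mp h

theorem cent_gen [Finite J] :
    L.cent ≤ Subgroup.closure {x : J | x ∈ L.cent ∧ ∃ k, orderOf x ∣ 2 ^ k} := by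
  intro g hg
  obtain ⟨x, h, rfl⟩ := L.exists_prod hg
  have hh := of_allUpTo cmp_ok h (Nat.zero_le _) (by omega)
  simp only [cmpOK, Bool.and_eq_true, Nat.blt_eq] at hh
  obtain ⟨-, -, -, ha, hb, hab, ha2, hb2⟩ := hh
  refine mul_mem (Subgroup.subset_closure
    ⟨L.P_le_cent (L.Q_le_P (L.Q.el_mem x)), 5, ?_⟩) ?_
  · have : orderOf (⟨_, L.Q.el_mem x⟩ : L.Q.sub) ∣ Nat.card L.Q.sub := orderOf_dvd_natCard _
    rw [Subgroup.orderOf_mk, L.Q.card_sub] at this
    simpa using this
  have e : L.H.el ⟨_, ha⟩ * L.H.el ⟨_, hb⟩ = L.H.el h := by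
    rw [L.H.el_mul]
    congr 1
    exact Fin.ext ((L.hHmul _ _).trans (Nat.eq_of_beq_eq_true hab))
  rw [← e]
  have key : ∀ a : Fin 60, cmpMul a a = 0 → orderOf (L.H.el a) ∣ 2 ^ 1 := by
    intro a h0
    refine orderOf_dvd_of_pow_eq_one ?_
    rw [pow_one, sq, L.H.el_mul, ← L.H.el_one]
    congr 1
    exact Fin.ext ((L.hHmul _ _).trans h0)
  exact mul_mem
    (Subgroup.subset_closure ⟨L.H_le_cent (L.H.el_mem _), 1, key _ (Nat.eq_of_beq_eq_true ha2)⟩)
    (Subgroup.subset_closure ⟨L.H_le_cent (L.H.el_mem _), 1, key _ (Nat.eq_of_beq_eq_true hb2)⟩)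

theorem cent_Q_le [Finite J] {g : J} (hg : g ∈ L.cent)
    (hc : ∀ q ∈ L.Q.sub, g * q = q * g) : g ∈ L.Q.sub := by
  obtain ⟨x, h, rfl⟩ := L.exists_prod hg
  rw [L.trivial_of_commute x h fun y => hc _ (L.Q.el_mem y), L.H.el_one, mul_one]
  exact L.Q.el_mem x

theorem isExtraspecial_Q : Cfsg.IsExtraspecial 2 L.Q.sub := by
  haveI : Fact (Nat.Prime 2) := ⟨Nat.prime_two⟩
  haveI : Finite L.Q.sub := Nat.finite_of_card_ne_zero (by rw [L.Q.card_sub]; norm_num)
  have hq : invIdxQ < 32 := local_consts.2.2.2.2.2.2.2.1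
  have htm : L.t ∈ L.Q.sub := L.t_eq_Q ▸ L.Q.el_mem _
  let t' : L.Q.sub := ⟨L.t, htm⟩
  have htc : t' ∈ Subgroup.center L.Q.sub := by
    rw [Subgroup.mem_center_iff]
    rintro ⟨_, y, rfl⟩
    exact Subtype.ext (L.P_comm_t (extFin y))
  have hcen : Subgroup.center L.Q.sub = Subgroup.zpowers t' := by
    refine le_antisymm ?_ (Subgroup.zpowers_le.mpr htc)
    rintro ⟨_, x, rfl⟩ hx
    have h := of_allUpTo ext_ok x (Nat.zero_le _) (by omega)
    simp only [extOK, Bool.and_eq_true, Bool.or_eq_true, bnot'_iff] at h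
    rcases h.2.2.1 with h' | h' | h'
    · have : x = 0 := Fin.ext (by simpa using Nat.eq_of_beq_eq_true h')
      subst this
      convert one_mem (Subgroup.zpowers t') using 1
      exact Subtype.ext L.Q.el_one
    · have : x = ⟨invIdxQ, hq⟩ := Fin.ext (Nat.eq_of_beq_eq_true h')
      subst this
      convert Subgroup.mem_zpowers t' using 1
      exact Subtype.ext L.t_eq_Q
    · exfalso
      obtain ⟨j, hj, hf⟩ := allUpTo_false (by norm_num) h'
      have e := congrArg Subtype.val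
        (Subgroup.mem_center_iff.mp hx ⟨_, L.Q.el_mem ⟨j, hj⟩⟩)
      simp only [Subgroup.coe_mul] at e
      rw [L.Q.el_mul, L.Q.el_mul] at e
      have e' := congrArg Fin.val (L.Q.el_inj e)
      change extMul j x = extMul x j at e'
      rw [e'] at hf
      simp at hf
  refine PGroups.SymplecticType.isExtraspecial_of
    (IsPGroup.of_card (n := 5) (by rw [L.Q.card_sub]; norm_num)) ?_ ?_ ?_ ?_
  · intro hcm
    obtain ⟨a, ha, b, hb, hne⟩ := extMul_noncomm
    have e := congrArg Subtype.val (hcm.is_comm.comm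
      (⟨_, L.Q.el_mem ⟨a, ha⟩⟩ : L.Q.sub) ⟨_, L.Q.el_mem ⟨b, hb⟩⟩)
    simp only [Subgroup.coe_mul] at e
    rw [L.Q.el_mul, L.Q.el_mul] at e
    exact hne (congrArg Fin.val (L.Q.el_inj e))
  · rw [hcen, Nat.card_zpowers, ← Subgroup.orderOf_coe]
    exact L.orderOf_t
  · rw [commutator_def, Subgroup.commutator_le]
    rintro ⟨_, a, rfl⟩ - ⟨_, b, rfl⟩ -
    have h := of_allUpTo (of_allUpTo ext_pair a (Nat.zero_le _) (by omega)) b (Nat.zero_le _)
      (by omega)
    simp only [Bool.or_eq_true] at h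
    rcases h with h | h
    · have e : (⟨_, L.Q.el_mem a⟩ : L.Q.sub) * ⟨_, L.Q.el_mem b⟩ =
          ⟨_, L.Q.el_mem b⟩ * ⟨_, L.Q.el_mem a⟩ := by
        refine Subtype.ext ?_
        simp only [Subgroup.coe_mul]
        rw [L.Q.el_mul, L.Q.el_mul]
        congr 1
        exact Fin.ext (Nat.eq_of_beq_eq_true h)
      rw [commutatorElement_eq_one_iff_mul_comm.mpr e]
      exact one_mem _
    · have e : (⟨_, L.Q.el_mem a⟩ : L.Q.sub) * ⟨_, L.Q.el_mem b⟩ =
          t' * (⟨_, L.Q.el_mem b⟩ * ⟨_, L.Q.el_mem a⟩) := by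
        refine Subtype.ext ?_
        simp only [Subgroup.coe_mul, t']
        rw [← L.t_eq_Q, L.Q.el_mul, L.Q.el_mul, L.Q.el_mul]
        congr 1
        exact Fin.ext (Nat.eq_of_beq_eq_true h)
      rw [commutatorElement_def, e]
      convert htc using 1
      group
  · rintro ⟨_, x, rfl⟩
    have h := of_allUpTo ext_ok x (Nat.zero_le _) (by omega)
    simp only [extOK, Bool.and_eq_true, Bool.or_eq_true] at h
    rcases h.2.1 with h' | h'
    · convert one_mem (Subgroup.center L.Q.sub) using 1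
      refine Subtype.ext ?_
      rw [sq]
      change L.Q.el x * L.Q.el x = 1
      rw [L.Q.el_mul, ← L.Q.el_one]
      congr 1
      exact Fin.ext (Nat.eq_of_beq_eq_true h')
    · convert htc using 1
      refine Subtype.ext ?_
      rw [sq]
      change L.Q.el x * L.Q.el x = L.t
      rw [L.Q.el_mul, ← L.t_eq_Q]
      congr 1
      exact Fin.ext (Nat.eq_of_beq_eq_true h')

theorem no_eight (E : Subgroup J) (hE : E ≤ L.Q.sub) (hcomm : ∀ a ∈ E, ∀ b ∈ E, a * b = b * a)
    (hsq : ∀ a ∈ E, a * a = 1) : Nat.card E ≤ 2 ^ 2 := by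
  classical
  let S : Finset (Fin 32) := Finset.univ.filter fun x => L.Q.el x ∈ E
  have hS : (S.image fun x => L.Q.el x : Finset J) = (S.image fun x => L.Q.el x) := rfl
  have hcard : Nat.card E = S.card := by
    rw [← Nat.card_eq_finsetCard S]
    refine (Nat.card_eq_of_bijective
      (fun x : S => (⟨L.Q.el x.1, (Finset.mem_filter.mp x.2).2⟩ : E)) ⟨?_, ?_⟩).symm
    · intro a b e
      exact Subtype.ext (L.Q.el_inj (congrArg Subtype.val e))
    · rintro ⟨e, he⟩
      obtain ⟨x, rfl⟩ := hE he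
      exact ⟨⟨x, Finset.mem_filter.mpr ⟨Finset.mem_univ x, he⟩⟩, rfl⟩
  rw [hcard]
  by_contra hlt
  push Not at hlt
  have hpair : ∀ a ∈ S, ∀ b ∈ S, invPair a b = true := by
    intro a ha b hb
    have ha' := (Finset.mem_filter.mp ha).2
    have hb' := (Finset.mem_filter.mp hb).2
    have key : ∀ c : Fin 32, L.Q.el c ∈ E → extMul c c = 0 := by
      intro c hc
      have := hsq _ hc
      rw [L.Q.el_mul, ← L.Q.el_one] at this
      exact congrArg Fin.val (L.Q.el_inj this)
    have e := hcomm _ ha' _ hb'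
    rw [L.Q.el_mul, L.Q.el_mul] at e
    have e' : extMul a b = extMul b a := congrArg Fin.val (L.Q.el_inj e)
    simp only [invPair, key a ha', key b hb', e', Nat.beq_refl, Bool.and_self]
  obtain ⟨a, ha, ha0⟩ := Finset.exists_mem_ne (by omega : 1 < S.card) (0 : Fin 32)
  obtain ⟨b, hb, hb'⟩ := Finset.exists_mem_notMem_of_card_lt_card
    (s := ({0, a} : Finset (Fin 32))) (t := S) (lt_of_le_of_lt Finset.card_le_two (by omega))
  simp only [Finset.mem_insert, Finset.mem_singleton, not_or] at hb'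
  obtain ⟨c, hc, hc'⟩ := Finset.exists_mem_notMem_of_card_lt_card
    (s := ({0, a, b, L.Q.mul a b} : Finset (Fin 32))) (t := S)
    (lt_of_le_of_lt Finset.card_le_four (by omega))
  simp only [Finset.mem_insert, Finset.mem_singleton, not_or] at hc'
  have h := of_allUpTo (of_allUpTo (of_allUpTo rank_ok a (Nat.zero_le _) (by omega)) b
    (Nat.zero_le _) (by omega)) c (Nat.zero_le _) (by omega)
  simp only [Bool.or_eq_true, bnot'_iff, hpair a ha b hb, hpair a ha c hc, hpair b hb c hc,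
    Bool.and_self, Bool.true_eq_false, false_or] at h
  rcases h with (h | h | h) | h | h | h | h
  · exact ha0 (Fin.ext (by simpa using Nat.eq_of_beq_eq_true h))
  · exact hb'.1 (Fin.ext (by simpa using Nat.eq_of_beq_eq_true h))
  · exact hb'.2 (Fin.ext (Nat.eq_of_beq_eq_true h))
  · exact hc'.1 (Fin.ext (by simpa using Nat.eq_of_beq_eq_true h))
  · exact hc'.2.1 (Fin.ext (Nat.eq_of_beq_eq_true h))
  · exact hc'.2.2.1 (Fin.ext (Nat.eq_of_beq_eq_true h))
  · exact hc'.2.2.2 (Fin.ext (Nat.eq_of_beq_eq_true h))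

theorem H_iso_alternating : Nonempty (L.H.sub ≃* alternatingGroup (Fin 5)) := by
  classical
  have hfp : ∀ h : Fin 60, ∀ x : Fin 5, fivePt h x < 5 ∧
      ∀ j : Fin 60, fivePt (cmpMul h j) x = fivePt h (fivePt j x) := by
    intro h x
    have hh := of_allUpTo cmp_ok h (Nat.zero_le _) (by omega)
    simp only [cmpOK, Bool.and_eq_true] at hh
    have key : ∀ j : Fin 60, fivePt h x < 5 ∧
        fivePt (cmpMul h j) x = fivePt h (fivePt j x) := by
      intro j
      have h1 := of_allUpTo (of_allUpTo hh.2.1.2 j (Nat.zero_le _) (by omega)) x (Nat.zero_le _)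
        (by omega)
      simp only [Bool.and_eq_true, Nat.blt_eq] at h1
      exact ⟨h1.1, Nat.eq_of_beq_eq_true h1.2⟩
    exact ⟨(key 0).1, fun j => (key j).2⟩
  let f : Fin 60 → Fin 5 → Fin 5 := fun h x => ⟨fivePt h x, (hfp h x).1⟩
  let e : Fin 60 ≃ L.H.sub := Equiv.ofInjective L.H.el L.H.el_inj
  let ψ₀ : L.H.sub →* Function.End (Fin 5) :=
    { toFun := fun u => f (e.symm u)
      map_one' := by
        have h0 : e.symm 1 = 0 := e.injective (by
          rw [Equiv.apply_symm_apply]; exact Subtype.ext L.H.el_one.symm)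
        funext x
        rw [h0]
        exact Fin.ext (local_consts.2.2.2.2.2.2.2.2.2.2 x x.2)
      map_mul' := by
        intro u v
        obtain ⟨a, rfl⟩ := e.surjective u
        obtain ⟨b, rfl⟩ := e.surjective v
        have hab : e a * e b = e (L.H.mul a b) := Subtype.ext (L.H.el_mul a b)
        funext x
        simp only [hab, Equiv.symm_apply_apply]
        refine Fin.ext ?_
        change fivePt (L.H.mul a b) x = fivePt a (fivePt b x)
        rw [L.hHmul]
        exact (hfp a x).2 b }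
  let ψ : L.H.sub →* Equiv.Perm (Fin 5) :=
    { toFun := fun u => ⟨ψ₀ u, ψ₀ u⁻¹,
        fun x => congrFun (show (ψ₀ u⁻¹ * ψ₀ u) = 1 by rw [← map_mul, inv_mul_cancel, map_one]) x,
        fun x => congrFun (show (ψ₀ u * ψ₀ u⁻¹) = 1 by rw [← map_mul, mul_inv_cancel, map_one]) x⟩
      map_one' := Equiv.ext fun x => congrFun ψ₀.map_one x
      map_mul' := fun u v => Equiv.ext fun x => congrFun (ψ₀.map_mul u v) x }
  have hinj : Function.Injective ψ := by
    rw [← MonoidHom.ker_eq_bot_iff, Subgroup.eq_bot_iff_forall]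
    intro u hu
    obtain ⟨a, rfl⟩ := e.surjective u
    have hh := of_allUpTo cmp_ok a (Nat.zero_le _) (by omega)
    simp only [cmpOK, Bool.and_eq_true, Bool.or_eq_true, bnot'_iff] at hh
    rcases hh.2.2.1 with h | h
    · have : a = 0 := Fin.ext (by simpa using Nat.eq_of_beq_eq_true h)
      rw [this]
      exact Subtype.ext L.H.el_one
    · exfalso
      obtain ⟨x, hx, hf⟩ := allUpTo_false (by norm_num) h
      have hp : (ψ (e a) : Equiv.Perm (Fin 5)) ⟨x, hx⟩ = ⟨x, hx⟩ := by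
        rw [MonoidHom.mem_ker.mp hu]; rfl
      have hv : f (e.symm (e a)) ⟨x, hx⟩ = ⟨x, hx⟩ := hp
      rw [Equiv.symm_apply_apply] at hv
      have := congrArg Fin.val hv
      simp only [f] at this
      rw [this] at hf
      simp at hf
  have hidx : ψ.range.index = 2 := by
    have h := ψ.range.card_mul_index
    rw [Nat.card_congr (MonoidHom.ofInjective hinj).toEquiv.symm, L.H.card_sub,
      Nat.card_perm, Nat.card_fin] at h
    norm_num [Nat.factorial] at h
    omega
  exact ⟨(MonoidHom.ofInjective hinj).trans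
    (MulEquiv.subgroupCongr (Equiv.Perm.eq_alternatingGroup_of_index_eq_two hidx))⟩

end LocalData

end Cfsg.Agent.Lib.J3
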