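import Cfsg.Agent.Lib.J3.CheckMisc
import Cfsg.Agent.Lib.J3.DataLocal
import Cfsg.Agent.Lib.J3.DataClass

/-!
# Kernel checks for the involution centraliser
-/

set_option autoImplicit false
set_option maxRecDepth 100000

namespace Cfsg.Agent.Lib.J3

open Cfsg.Agent.Lib.CosetEnum

/-- Negation. -/
noncomputable def bnot' (b : Bool) : Bool := Bool.rec true false b

/-- Product table of the Sylow subgroup. -/
noncomputable def sylMul (i j : ℕ) : ℕ := sylTbl.get 7 (i * 128 + j)

/-- Product table of the extraspecial subgroup. -/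
noncomputable def extMul (i j : ℕ) : ℕ := extraTbl.get 5 (i * 32 + j)

/-- Product table of the complement. -/
noncomputable def cmpMul (i j : ℕ) : ℕ := compTbl.get 6 (i * 60 + j)

/-- Action of the complement on the extraspecial subgroup. -/
noncomputable def cmpAct (h x : ℕ) : ℕ := compAct.get 5 (h * 32 + x)

/-- The five-point image. -/
noncomputable def fivePt (h x : ℕ) : ℕ := field (compPerm.get 15 h) (3 * x) 3

/-- Elements of the Sylow subgroup. -/
noncomputable def sylC (i : ℕ) : ℕ := sylRep.get 162 i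

/-- Elements of the complement. -/
noncomputable def cmpC (i : ℕ) : ℕ := compRep.get 162 i

/-- Group table check. -/
noncomputable def pairOK (rep : ℕ → ℕ) (mul : ℕ → ℕ → ℕ) (n i : ℕ) : Bool :=
  allUpTo (fun j =>
    (Nat.beq (mulC (rep i) (rep j)) (rep (mul i j)) && Nat.blt (mul i j) n) &&
      (Nat.beq i j || bnot' (Nat.beq (Nat.land (rep i) m162) (Nat.land (rep j) m162)))) 0 n

theorem sylPair_ok : allUpTo (pairOK sylC sylMul 128) 0 128 = true := by decide +kernel

theorem cmpPair_ok : allUpTo (pairOK cmpC cmpMul 60) 0 60 = true := by decide +kernel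

/-- Membership and centre of the Sylow subgroup, generation by involutions, conjugacy. -/
noncomputable def sylOK (i : ℕ) : Bool :=
  (Nat.beq (certC (sylCert.get 29 i)) (sylC i) && Nat.beq (sylMul invIdxP i) (sylMul i invIdxP)) &&
  ((Nat.beq i 0 || (Nat.beq i invIdxP ||
      bnot' (allUpTo (fun j => Nat.beq (sylMul i j) (sylMul j i)) 0 128))) &&
   ((Nat.beq i 0 ||
      (Nat.blt (field (sylWord.get 18 i) 0 7) 128 && (Nat.blt (field (sylWord.get 18 i) 7 7) 128 &&
        (Nat.beq (sylMul (field (sylWord.get 18 i) 7 7) (field (sylWord.get 18 i) 7 7)) 0 &&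
        (Nat.beq (sylMul (field (sylWord.get 18 i) 7 7) (field (sylWord.get 18 i) 0 7)) i &&
          Nat.blt (field (sylWord.get 18 (field (sylWord.get 18 i) 0 7)) 14 4)
            (field (sylWord.get 18 i) 14 4)))))) &&
    (Nat.beq i 0 || (bnot' (Nat.beq (sylMul i i) 0) ||
      Nat.beq (mulC (certC (sylConj.get 29 i)) invC) (mulC (sylC i) (certC (sylConj.get 29 i)))))))

theorem syl_ok : allUpTo sylOK 0 128 = true := by decide +kernel

/-- The extraspecial subgroup inside the Sylow subgroup. -/
noncomputable def extOK (i : ℕ) : Bool :=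
  (Nat.blt (extraIdx.get 7 i) 128 &&
    allUpTo (fun j => Nat.blt (extMul i j) 32 &&
      (Nat.beq (sylMul (extraIdx.get 7 i) (extraIdx.get 7 j)) (extraIdx.get 7 (extMul i j)) &&
        (Nat.beq i j || bnot' (Nat.beq (extraIdx.get 7 i) (extraIdx.get 7 j))))) 0 32) &&
  ((Nat.beq (extMul i i) 0 || Nat.beq (extMul i i) invIdxQ) &&
    ((Nat.beq i 0 || (Nat.beq i invIdxQ ||
      bnot' (allUpTo (fun j => Nat.beq (extMul i j) (extMul j i)) 0 32))) &&
     Nat.beq (extMul invIdxQ i) (extMul i invIdxQ)))

theorem ext_ok : allUpTo extOK 0 32 = true := by decide +kernel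

/-- Commuting involutions. -/
noncomputable def invPair (a b : ℕ) : Bool :=
  Nat.beq (extMul a a) 0 && (Nat.beq (extMul b b) 0 && Nat.beq (extMul a b) (extMul b a))

/-- No elementary abelian subgroup of order eight. -/
noncomputable def rankOK (a : ℕ) : Bool :=
  allUpTo (fun b => allUpTo (fun c =>
    bnot' (invPair a b && (invPair a c && invPair b c)) ||
      ((Nat.beq a 0 || (Nat.beq b 0 || Nat.beq b a)) ||
        (Nat.beq c 0 || (Nat.beq c a || (Nat.beq c b || Nat.beq c (extMul a b)))))) 0 32) 0 32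

theorem rank_ok : allUpTo rankOK 0 32 = true := by decide +kernel

/-- The complement: membership, action, five points, two involutions, faithfulness. -/
noncomputable def cmpOK (h : ℕ) : Bool :=
  (Nat.beq (certC (compCert.get 29 h)) (cmpC h) &&
    allUpTo (fun x => Nat.blt (cmpAct h x) 32 &&
      (Nat.beq (mulC (cmpC h) (sylC (extraIdx.get 7 x)))
        (mulC (sylC (extraIdx.get 7 (cmpAct h x))) (cmpC h)) &&
      (Nat.beq h 0 ||
        bnot' (allUpTo (fun y => Nat.beq (extMul x (cmpAct h y)) (extMul y x)) 0 32)))) 0 32) &&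
  ((Nat.beq (cmpAct h invIdxQ) invIdxQ &&
    allUpTo (fun j => allUpTo (fun x =>
      Nat.blt (fivePt h x) 5 && Nat.beq (fivePt (cmpMul h j) x) (fivePt h (fivePt j x))) 0 5) 0 60) &&
   ((Nat.beq h 0 || bnot' (allUpTo (fun x => Nat.beq (fivePt h x) x) 0 5)) &&
    (Nat.blt (field (compFact.get 12 h) 0 6) 60 && (Nat.blt (field (compFact.get 12 h) 6 6) 60 &&
      (Nat.beq (cmpMul (field (compFact.get 12 h) 0 6) (field (compFact.get 12 h) 6 6)) h &&
        (Nat.beq (cmpMul (field (compFact.get 12 h) 0 6) (field (compFact.get 12 h) 0 6)) 0 &&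
          Nat.beq (cmpMul (field (compFact.get 12 h) 6 6) (field (compFact.get 12 h) 6 6)) 0))))))

theorem cmp_ok : allUpTo cmpOK 0 60 = true := by decide +kernel

theorem local_consts : sylC 0 = oneC ∧ cmpC 0 = oneC ∧ extraIdx.get 7 0 = 0 ∧
    extraIdx.get 7 invIdxQ = invIdxP ∧ sylC invIdxP = invC ∧ sylMul invIdxP invIdxP = 0 ∧
    invIdxP < 128 ∧ invIdxQ < 32 ∧ invIdxP ≠ 0 ∧ invIdxQ ≠ 0 ∧
    (∀ x < 5, fivePt 0 x = x) := by
  decide +kernel

/-- The class of the involution. -/
noncomputable def classOK (i : ℕ) : Bool :=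
  (Nat.beq i classRoot ||
    (Nat.blt (field (classTree.get 22 i) 0 16) 26163 &&
      (Nat.blt (field (classTree.get 22 (field (classTree.get 22 i) 0 16)) 17 5)
          (field (classTree.get 22 i) 17 5) &&
        (Nat.blt (field (classTree.get 22 i) 16 1) 2 &&
          Nat.beq (mulC (classRep.get 162 i) (tblOne.gen (field (classTree.get 22 i) 16 1)))
            (mulC (tblOne.gen (field (classTree.get 22 i) 16 1))
              (classRep.get 162 (field (classTree.get 22 i) 0 16))))))) &&
  (Nat.beq (i + 1) 26163 ||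
    Nat.blt (Nat.land (classRep.get 162 i) m162) (Nat.land (classRep.get 162 (i + 1)) m162))

theorem class_ok : allUpTo classOK 0 26163 = true := by decide +kernel

theorem class_root : classRoot < 26163 ∧ classRep.get 162 classRoot = invC := by decide +kernel

end Cfsg.Agent.Lib.J3
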