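import Mathlib

/-!
# Subgroups given by a multiplication table
-/

set_option autoImplicit false

namespace Cfsg.Agent.Lib.J3

/-- A finite list of group elements with an injective enumeration and a product table. -/
structure TableGrp (M : Type*) [Group M] (n : ℕ) [NeZero n] where
  el : Fin n → M
  mul : Fin n → Fin n → Fin n
  el_mul : ∀ i j, el i * el j = el (mul i j)
  el_one : el 0 = 1
  el_inj : Function.Injective el

namespace TableGrp

variable {M : Type*} [Group M] {n : ℕ} [NeZero n] (T : TableGrp M n)

theorem exists_inv (i : Fin n) : ∃ j, T.el i * T.el j = 1 := by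
  have hinj : Function.Injective (T.mul i) := fun a b h =>
    T.el_inj (mul_left_cancel (a := T.el i) (by rw [T.el_mul, T.el_mul, h]))
  obtain ⟨j, hj⟩ := (Finite.injective_iff_surjective.mp hinj) 0
  exact ⟨j, by rw [T.el_mul, hj, T.el_one]⟩

/-- The subgroup of the listed elements. -/
def sub : Subgroup M where
  carrier := Set.range T.el
  one_mem' := ⟨0, T.el_one⟩
  mul_mem' := by
    rintro _ _ ⟨i, rfl⟩ ⟨j, rfl⟩
    exact ⟨T.mul i j, (T.el_mul i j).symm⟩
  inv_mem' := by
    rintro _ ⟨i, rfl⟩
    obtain ⟨j, hj⟩ := T.exists_inv i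
    exact ⟨j, (inv_eq_of_mul_eq_one_right hj).symm⟩

theorem mem_sub {x : M} : x ∈ T.sub ↔ ∃ i, T.el i = x := Iff.rfl

theorem el_mem (i : Fin n) : T.el i ∈ T.sub := ⟨i, rfl⟩

theorem card_sub : Nat.card T.sub = n := by
  change Nat.card (Set.range T.el) = n
  rw [Nat.card_range_of_injective T.el_inj, Nat.card_fin]

/-- The image of a table under a map injective on the list. -/
def map {N : Type*} [Group N] (f : M →* N) (hf : ∀ i j, f (T.el i) = f (T.el j) → i = j) :
    TableGrp N n where
  el i := f (T.el i)
  mul := T.mul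
  el_mul i j := by rw [← map_mul, T.el_mul]
  el_one := by rw [T.el_one, map_one]
  el_inj i j := hf i j

end TableGrp

end Cfsg.Agent.Lib.J3
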