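import Cfsg.Agent.Lib.J3.Main
import Cfsg.Agent.Lib.J3.LocalTables
import Cfsg.Agent.Lib.J3.TableGroup

/-!
# The tables read in J₃
-/

set_option autoImplicit false
set_option maxRecDepth 100000

namespace Cfsg.Agent.Lib.J3

open Cfsg.Spor Cfsg.Agent.Lib.CosetEnum

/-- The indices of the extraspecial subgroup inside the Sylow subgroup. -/
noncomputable def extFin (x : Fin 32) : Fin 128 :=
  ⟨extraIdx.get 7 x % 128, Nat.mod_lt _ (by norm_num)⟩

theorem cmpMul_center : allUpTo (fun h => Nat.beq h 0 ||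
    bnot' (allUpTo (fun j => Nat.beq (cmpMul h j) (cmpMul j h)) 0 60)) 0 60 = true := by
  decide +kernel

theorem bnot'_iff {b : Bool} : bnot' b = true ↔ b = false := by cases b <;> simp [bnot']

theorem allUpTo_true {f : ℕ → Bool} {n : ℕ} (hn : n ≤ 2 ^ 23) (h : ∀ m < n, f m = true) :
    allUpTo f 0 n = true := by
  suffices hall : ∀ fuel lo len, lo + len ≤ n → len ≤ 2 ^ fuel →
      allHalf f (fuel + 1) lo len = true from hall 23 0 n (by omega) hn
  intro fuel
  induction fuel with
  | zero =>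
    intro lo len hle hlen
    change Bool.rec _ _ (Nat.ble len 1) = true
    rw [Nat.ble_eq.mpr (by simpa using hlen : len ≤ 1)]
    rcases Nat.eq_zero_or_pos len with rfl | h0
    · rfl
    · have : len = 1 := by simp at hlen; omega
      subst this
      exact h lo (by omega)
  | succ fuel ih =>
    intro lo len hle hlen
    change Bool.rec _ _ (Nat.ble len 1) = true
    cases hb : Nat.ble len 1
    · rw [pow_succ] at hlen
      simp only [Bool.and_eq_true]
      exact ⟨ih lo (len / 2) (by omega) (by omega),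
        ih (lo + len / 2) (len - len / 2) (by omega) (by omega)⟩
    · have := Nat.ble_eq.mp hb
      rcases Nat.eq_zero_or_pos len with rfl | h0
      · rfl
      · have : len = 1 := by omega
        subst this
        exact h lo (by omega)

theorem allUpTo_false {f : ℕ → Bool} {n : ℕ} (hn : n ≤ 2 ^ 23) (h : allUpTo f 0 n = false) :
    ∃ i < n, f i = false := by
  by_contra hc
  push Not at hc
  rw [allUpTo_true hn fun m hm => by simpa using hc m hm] at h
  exact Bool.noConfusion h

/-- What the tables say about a group. -/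
structure LocalData (J : Type*) [Group J] where
  P : TableGrp J 128
  H : TableGrp J 60
  t : J
  hPmul : ∀ i j, (P.mul i j : ℕ) = sylMul i j
  hHmul : ∀ i j, (H.mul i j : ℕ) = cmpMul i j
  ht : ∀ i : Fin 128, (i : ℕ) = invIdxP → P.el i = t
  act : ∀ (h : Fin 60) (x y : Fin 32), (y : ℕ) = cmpAct h x →
    H.el h * P.el (extFin x) = P.el (extFin y) * H.el h
  conj : ∀ i : Fin 128, (i : ℕ) ≠ 0 → sylMul i i = 0 → IsConj t (P.el i)
  class_card : 26163 ≤ {u : J | IsConj t u}.ncard
  card_eq : Nat.card J = 50232960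

theorem pair_spec {rep : ℕ → ℕ} {mul : ℕ → ℕ → ℕ} {n : ℕ}
    (h : allUpTo (pairOK rep mul n) 0 n = true) (i j : Fin n) :
    mulC (rep i) (rep j) = rep (mul i j) ∧ mul i j < n ∧
      (i ≠ j → Nat.land (rep i) m162 ≠ Nat.land (rep j) m162) := by
  have h1 := of_allUpTo (of_allUpTo h i (Nat.zero_le _) (by omega)) j (Nat.zero_le _) (by omega)
  simp only [Bool.and_eq_true, Bool.or_eq_true, Nat.blt_eq, bnot'_iff] at h1
  refine ⟨Nat.eq_of_beq_eq_true h1.1.1, h1.1.2, fun hij e => ?_⟩
  rcases h1.2 with h3 | h3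
  · exact hij (Fin.ext (Nat.eq_of_beq_eq_true h3))
  · rw [e] at h3
    simp at h3

variable {F : Type*} [Field F] [Fintype F] {ω : F}

theorem exists_table (h2 : (2 : F) = 0) (hω : ω ^ 2 + ω + 1 = 0) (C : Chain F ω)
    (rep : ℕ → ℕ) (mul : ℕ → ℕ → ℕ) (cert : ℕ → ℕ) (n : ℕ) [NeZero n]
    (hpair : allUpTo (pairOK rep mul n) 0 n = true) (hzero : rep 0 = oneC)
    (hcert : ∀ i < n, certC (cert i) = rep i) :
    ∃ T : TableGrp ↥(threeJ3 F ω) n, (∀ i, HasCode ω (T.el i : GL F9 F) (rep i)) ∧
      ∀ i j, (T.mul i j : ℕ) = mul i j := by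
  have hex : ∀ i : Fin n, ∃ u : ↥(threeJ3 F ω), HasCode ω (u : GL F9 F) (rep i) := by
    intro i
    obtain ⟨u, hu, hu'⟩ := C.certC_mem h2 hω (cert i)
    rw [hcert i i.2] at hu'
    exact ⟨⟨u, (C.grp_eq h2 hω).symm ▸ hu⟩, hu'⟩
  choose el hel using hex
  refine ⟨⟨el, fun i j => ⟨mul i j, (pair_spec hpair i j).2.1⟩, ?_, ?_, ?_⟩, hel, fun i j => rfl⟩
  · intro i j
    refine Subtype.ext (HasCode.ext ((hel i).mul h2 hω (hel j)) ?_)
    exact (hel ⟨mul i j, (pair_spec hpair i j).2.1⟩).trans
      (congrArg (dm ω) (pair_spec hpair i j).1.symm)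
  · refine Subtype.ext (HasCode.ext (hel 0) ?_)
    rw [show ((0 : Fin n) : ℕ) = 0 from Fin.val_zero n, hzero]
    exact hasCode_one
  · intro i j e
    by_contra hij
    refine (pair_spec hpair i j).2.2 hij ((dm_eq_iff hω h2 _ _).mp ?_)
    rw [← hel i, ← hel j, e]

theorem exists_localData_lifts (hF : Fintype.card F = 4) (hω : ω ^ 2 + ω + 1 = 0) :
    ∃ (L : LocalData (J3 F ω)) (tG : ↥(threeJ3 F ω)),
      HasCode ω (tG : GL F9 F) invC ∧
      QuotientGroup.mk' (Subgroup.center ↥(threeJ3 F ω)) tG = L.t ∧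
      ∃ u : Fin 26163 → ↥(threeJ3 F ω), (∀ i, HasCode ω (u i : GL F9 F) (classRep.get 162 i)) ∧
        (∀ i, IsConj L.t (QuotientGroup.mk' (Subgroup.center ↥(threeJ3 F ω)) (u i))) ∧
        Function.Injective fun i => QuotientGroup.mk' (Subgroup.center ↥(threeJ3 F ω)) (u i) := by
  have h2 := two_eq_zero hF
  obtain ⟨C⟩ := exists_chain (ω := ω) h2 hω
  obtain ⟨hZ, hG, hJ, -, -⟩ := j3_main hF hω
  have hsyl : ∀ i < 128, sylOK i = true := fun i hi =>
    of_allUpTo syl_ok i (Nat.zero_le i) (by omega)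
  have hcmp : ∀ i < 60, cmpOK i = true := fun i hi =>
    of_allUpTo cmp_ok i (Nat.zero_le i) (by omega)
  obtain ⟨hs0, hc0, -, -, hst, ht2, htlt, -, ht0, -, -⟩ := local_consts
  obtain ⟨P, hP, hPm⟩ := exists_table h2 hω C sylC sylMul (sylCert.get 29) 128 sylPair_ok hs0
    (fun i hi => by
      have h := hsyl i hi
      simp only [sylOK, Bool.and_eq_true] at h
      exact Nat.eq_of_beq_eq_true h.1.1)
  obtain ⟨H, hH, hHm⟩ := exists_table h2 hω C cmpC cmpMul (compCert.get 29) 60 cmpPair_ok hc0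
    (fun i hi => by
      have h := hcmp i hi
      simp only [cmpOK, Bool.and_eq_true] at h
      exact Nat.eq_of_beq_eq_true h.1.1)
  let Z := Subgroup.center ↥(threeJ3 F ω)
  let π : ↥(threeJ3 F ω) →* J3 F ω := QuotientGroup.mk' Z
  have hPi : ∀ i j, π (P.el i) = π (P.el j) → i = j := by
    intro i j e
    have hz : (P.el i)⁻¹ * P.el j ∈ Z := QuotientGroup.eq.mp e
    have hm : (P.el i)⁻¹ * P.el j ∈ P.sub := mul_mem (inv_mem (P.el_mem i)) (P.el_mem j)
    have hbot : P.sub ⊓ Z = ⊥ := by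
      refine Subgroup.inf_eq_bot_of_coprime ?_
      rw [P.card_sub, hZ]
      norm_num
    have h1 : (P.el i)⁻¹ * P.el j = 1 :=
      Subgroup.mem_bot.mp (hbot ▸ Subgroup.mem_inf.mpr ⟨hm, hz⟩)
    exact P.el_inj (inv_mul_eq_one.mp h1)
  have hHi : ∀ i j, π (H.el i) = π (H.el j) → i = j := by
    intro i j e
    have hz : (H.el i)⁻¹ * H.el j ∈ Z := QuotientGroup.eq.mp e
    obtain ⟨k, hk⟩ := mul_mem (inv_mem (H.el_mem i)) (H.el_mem j)
    rw [← hk] at hz
    have h := of_allUpTo cmpMul_center k (Nat.zero_le _) (by omega)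
    simp only [Bool.or_eq_true, bnot'_iff] at h
    rcases h with h | h
    · have k0 : k = 0 := Fin.ext (by simpa using Nat.eq_of_beq_eq_true h)
      rw [k0, H.el_one] at hk
      exact H.el_inj (inv_mul_eq_one.mp hk.symm)
    · exfalso
      refine Bool.eq_false_iff.mp h (allUpTo_true (by norm_num) fun m hm => ?_)
      have hc : H.mul k ⟨m, hm⟩ = H.mul ⟨m, hm⟩ k := by
        apply H.el_inj
        rw [← H.el_mul, ← H.el_mul]
        exact (Subgroup.mem_center_iff.mp hz _).symm
      have e1 := congrArg Fin.val hc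
      rw [hHm, hHm] at e1
      rw [e1]
      exact Nat.beq_refl _
  let ti : Fin 128 := ⟨invIdxP, htlt⟩
  have htc : HasCode ω (P.el ti : GL F9 F) invC := hst ▸ hP ti
  suffices hl : 26163 ≤ {u : J3 F ω | IsConj (π (P.el ti)) u}.ncard ∧
      ∃ u : Fin 26163 → ↥(threeJ3 F ω), (∀ i, HasCode ω (u i : GL F9 F) (classRep.get 162 i)) ∧
        (∀ i, IsConj (π (P.el ti)) (π (u i))) ∧ Function.Injective fun i => π (u i) by
    refine ⟨⟨P.map π hPi, H.map π hHi, π (P.el ti), hPm, hHm, fun i hi => ?_, ?_, ?_, hl.1, hJ⟩,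
      P.el ti, htc, rfl, hl.2⟩
    · rw [show i = ti from Fin.ext hi]; rfl
    · intro h x y hy
      have hh := hcmp h h.2
      simp only [cmpOK, Bool.and_eq_true] at hh
      have h1 := of_allUpTo hh.1.2 x (Nat.zero_le _) (by omega)
      simp only [Bool.and_eq_true] at h1
      have e := Nat.eq_of_beq_eq_true h1.2.1
      rw [← hy] at e
      have hlt : ∀ z : Fin 32, extraIdx.get 7 z < 128 := by
        intro z
        have := of_allUpTo ext_ok z (Nat.zero_le _) (by omega)
        simp only [extOK, Bool.and_eq_true, Nat.blt_eq] at this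
        exact this.1.1
      have hval : ∀ z : Fin 32, (extFin z : ℕ) = extraIdx.get 7 z := fun z =>
        Nat.mod_eq_of_lt (hlt z)
      have key : H.el h * P.el (extFin x) = P.el (extFin y) * H.el h := by
        refine Subtype.ext (HasCode.ext ((hH h).mul h2 hω (hP (extFin x))) ?_)
        rw [hval, e, ← hval]
        exact (hP (extFin y)).mul h2 hω (hH h)
      change π (H.el h) * π (P.el (extFin x)) = π (P.el (extFin y)) * π (H.el h)
      rw [← map_mul, ← map_mul, key]
    · intro i hi hi2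
      have h := hsyl i i.2
      simp only [sylOK, Bool.and_eq_true, Bool.or_eq_true, bnot'_iff] at h
      rcases h.2.2.2 with h' | h' | h'
      · exact absurd (Nat.eq_of_beq_eq_true h') hi
      · rw [hi2] at h'; exact Bool.noConfusion h'
      · obtain ⟨g, hg, hg'⟩ := C.certC_mem h2 hω (sylConj.get 29 i)
        let g' : ↥(threeJ3 F ω) := ⟨g, (C.grp_eq h2 hω).symm ▸ hg⟩
        have e : g' * P.el ti = P.el i * g' := by
          refine Subtype.ext (HasCode.ext (HasCode.mul h2 hω hg' htc) ?_)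
          rw [Nat.eq_of_beq_eq_true h']
          exact (hP i).mul h2 hω hg'
        refine isConj_iff.mpr ⟨π g', ?_⟩
        change π g' * π (P.el ti) * (π g')⁻¹ = π (P.el i)
        rw [← map_mul, e, map_mul, mul_inv_cancel_right]
  have hcls : ∀ i < 26163, ∃ u : ↥(threeJ3 F ω),
      HasCode ω (u : GL F9 F) (classRep.get 162 i) ∧ IsConj (P.el ti) u := by
    suffices h : ∀ d i, i < 26163 → field (classTree.get 22 i) 17 5 = d →
        ∃ u : ↥(threeJ3 F ω), HasCode ω (u : GL F9 F) (classRep.get 162 i) ∧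
          IsConj (P.el ti) u from fun i hi => h _ i hi rfl
    intro d
    induction d using Nat.strongRecOn with
    | _ d ih =>
      intro i hi hd
      have h := of_allUpTo class_ok i (Nat.zero_le i) (by omega)
      simp only [classOK, Bool.and_eq_true, Bool.or_eq_true, Nat.blt_eq] at h
      rcases h.1 with h0 | ⟨hp, hdep, hk, he⟩
      · rw [Nat.eq_of_beq_eq_true h0, class_root.2]
        exact ⟨P.el ti, htc, IsConj.refl _⟩
      obtain ⟨u, hu, hu'⟩ := ih _ (hd ▸ hdep) _ hp rfl
      let s : Fin 2 := ⟨_, hk⟩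
      let g : ↥(threeJ3 F ω) :=
        ⟨C.g1 s, (C.grp_eq h2 hω).symm ▸ C.c1.gen_mem s⟩
      have hcode : HasCode ω ((g * u * g⁻¹ : ↥(threeJ3 F ω)) : GL F9 F) (classRep.get 162 i) := by
        have e := congrArg (dm ω) (Nat.eq_of_beq_eq_true he)
        rw [dm_mulC ω h2 hω, dm_mulC ω h2 hω, ← C.hg1 s, ← hu] at e
        unfold HasCode
        change ((C.g1 s * (u : GL F9 F) * (C.g1 s)⁻¹ : GL F9 F) : Matrix F9 F9 F) = _
        rw [Units.val_mul, Units.val_mul, ← e, Units.mul_inv_cancel_right]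
      exact ⟨g * u * g⁻¹, hcode, hu'.trans (isConj_iff.mpr ⟨g, rfl⟩)⟩
  choose u hu hconj using hcls
  let f : Fin 26163 → J3 F ω := fun i => π (u i i.2)
  have hmono : ∀ j, j < 26163 → ∀ i < j,
      Nat.land (classRep.get 162 i) m162 < Nat.land (classRep.get 162 j) m162 := by
    intro j
    induction j with
    | zero => intro _ i hi; omega
    | succ j ih =>
      intro hj i hi
      have h := of_allUpTo class_ok j (Nat.zero_le j) (by omega)
      simp only [classOK, Bool.and_eq_true, Bool.or_eq_true, Nat.blt_eq] at h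
      have hstep : Nat.land (classRep.get 162 j) m162 <
          Nat.land (classRep.get 162 (j + 1)) m162 := by
        rcases h.2 with h' | h'
        · have := Nat.eq_of_beq_eq_true h'; omega
        · exact h'
      rcases Nat.lt_succ_iff_lt_or_eq.mp hi with hlt | rfl
      · exact lt_trans (ih (by omega) i hlt) hstep
      · exact hstep
  have hsq : ∀ v : ↥(threeJ3 F ω), IsConj (P.el ti) v → v * v = 1 := by
    intro v hv
    obtain ⟨g, rfl⟩ := isConj_iff.mp hv
    have : P.el ti * P.el ti = 1 := by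
      rw [P.el_mul, show P.mul ti ti = 0 from Fin.ext (by rw [hPm]; exact ht2), P.el_one]
    calc g * P.el ti * g⁻¹ * (g * P.el ti * g⁻¹) = g * (P.el ti * P.el ti) * g⁻¹ := by group
      _ = 1 := by rw [this, mul_one, mul_inv_cancel]
  have hinj : Function.Injective f := by
    intro i j e
    have hz : (u i i.2)⁻¹ * u j j.2 ∈ Z := QuotientGroup.eq.mp e
    set z := (u i i.2)⁻¹ * u j j.2 with hzdef
    have hj : u j j.2 = u i i.2 * z := by rw [hzdef, mul_inv_cancel_left]
    have hz2 : z ^ 2 = 1 := by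
      have h1 := hsq _ (hconj j j.2)
      rw [hj] at h1
      have hcm : u i i.2 * z = z * u i i.2 := Subgroup.mem_center_iff.mp hz _
      calc z ^ 2 = (u i i.2 * u i i.2) * (z * z) := by rw [hsq _ (hconj i i.2), one_mul, sq]
        _ = u i i.2 * (u i i.2 * z) * z := by group
        _ = u i i.2 * (z * u i i.2) * z := by rw [hcm]
        _ = (u i i.2 * z) * (u i i.2 * z) := by group
        _ = 1 := h1
    have hz3 : z ^ 3 = 1 := by
      have h3 := pow_card_eq_one' (G := ↥Z) (x := ⟨z, hz⟩)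
      rw [hZ] at h3
      exact congrArg Subtype.val h3
    have hz1 : z = 1 := by rw [pow_succ, hz2, one_mul] at hz3; exact hz3
    rw [hz1, mul_one] at hj
    have e' : Nat.land (classRep.get 162 i) m162 = Nat.land (classRep.get 162 j) m162 :=
      (dm_eq_iff hω h2 _ _).mp (by rw [← hu i i.2, ← hu j j.2, hj])
    rcases lt_trichotomy (i : ℕ) j with h | h | h
    · exact absurd e' (hmono j j.2 i h).ne
    · exact Fin.ext h
    · exact absurd e'.symm (hmono i i.2 j h).ne
  refine ⟨?_, fun i => u i i.2, fun i => hu i i.2, fun i => π.map_isConj (hconj i i.2), hinj⟩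
  calc 26163 = (Set.range f).ncard := by
        rw [Set.ncard_range_of_injective hinj, Nat.card_fin]
    _ ≤ _ := Set.ncard_le_ncard (by
        rintro _ ⟨i, rfl⟩
        exact π.map_isConj (hconj i i.2)) (Set.toFinite _)

theorem exists_localData (hF : Fintype.card F = 4) (hω : ω ^ 2 + ω + 1 = 0) :
    Nonempty (LocalData (J3 F ω)) :=
  ⟨(exists_localData_lifts hF hω).choose⟩

end Cfsg.Agent.Lib.J3
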