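import Cfsg.Agent.Lib.J3.Setup
import Cfsg.Agent.Lib.Compute.Simple

/-!
# Order, centre and simplicity for the triple cover of J₃
-/

set_option autoImplicit false

namespace Cfsg.Agent.Lib.J3

open Cfsg.Spor Cfsg.Agent.Lib.CosetEnum MulAction
open scoped Pointwise

variable {F : Type*} [Field F] [Fintype F] {ω : F}

namespace Chain

variable (C : Chain F ω)

/-- The action on the 6156 cosets. -/
noncomputable def rep : ↥C.grp →* Equiv.Perm (Fin 6156) := C.c1.perm

omit [Fintype F] in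
theorem omega_unit (h2 : (2 : F) = 0) (hω : ω ^ 2 + ω + 1 = 0) :
    ∃ z : GL F9 F, (z : Matrix F9 F9 F) = Matrix.scalar F9 ω ∧ z ∈ C.grp ∧
      HasCode ω z omC := by
  obtain ⟨z, hz, hz'⟩ := C.certC_mem h2 hω omCert
  rw [omC_cert] at hz'
  refine ⟨z, ?_, hz, hz'⟩
  rw [hz', dm_eq_of omC_bits]
  ext w v
  rw [Matrix.of_apply, Matrix.scalar_apply, Matrix.diagonal_apply]
  split <;> simp [el]

omit [Fintype F] in
theorem scalar_commute {z : GL F9 F} (hz : (z : Matrix F9 F9 F) = Matrix.scalar F9 ω)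
    (x : GL F9 F) : z * x = x * z := by
  apply Units.ext
  rw [Units.val_mul, Units.val_mul, hz]
  exact Matrix.scalar_commute ω (fun r => Commute.all ω r) _

omit [Fintype F] in
theorem omega_pow_eq (h2 : (2 : F) = 0) (hω : ω ^ 2 + ω + 1 = 0) {z : GL F9 F}
    (hz : (z : Matrix F9 F9 F) = Matrix.scalar F9 ω) : orderOf z = 3 := by
  have : Fact (Nat.Prime 3) := ⟨by norm_num⟩
  have hω3 : ω ^ 3 = 1 := by linear_combination (ω - 1) * hω
  refine orderOf_eq_prime ?_ ?_
  · apply Units.ext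
    rw [Units.val_pow_eq_pow_val, hz, ← map_pow, hω3, map_one, Units.val_one]
  · intro e
    rw [e, Units.val_one] at hz
    have h1 : ω = 1 := by
      have := congrFun (congrFun hz (0, 0)) (0, 0)
      simpa [Matrix.scalar_apply] using this.symm
    subst h1
    exact one_ne_zero (α := F) (by linear_combination hω - h2)

theorem mem_two_of_mem_ker {x : ↥C.grp} (hx : C.rep x = 1) :
    (x : GL F9 F) ∈ Subgroup.closure (Set.range C.g2) :=
  (C.c1.perm_zero_iff x).mp (by change C.rep x 0 = 0; rw [hx]; rfl)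

theorem conj_mem_of_mem_ker {x : ↥C.grp} (hx : C.rep x = 1) (i : Fin 6156) :
    (C.r1 i)⁻¹ * ((x : GL F9 F) * C.r1 i) ∈ Subgroup.closure (Set.range C.g2) :=
  (C.c1.perm_eq_iff x i i).mp (by change C.rep x i = i; rw [hx]; rfl)

/-- An element fixing all points has the code of a scalar. -/
theorem ker_code (h2 : (2 : F) = 0) (hω : ω ^ 2 + ω + 1 = 0) {x : ↥C.grp} (hx : C.rep x = 1) :
    HasCode ω (x : GL F9 F) oneC ∨ HasCode ω (x : GL F9 F) omC ∨
      HasCode ω (x : GL F9 F) om2C := by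
  let p : Fin 6156 := ⟨pZero, pZero_lt⟩
  obtain ⟨X, hX⟩ := stab_two h2 hω C.hg2 (C.mem_two_of_mem_ker hx)
  obtain ⟨Y, hY⟩ := stab_two h2 hω C.hg2 (C.conj_mem_of_mem_ker hx p)
  have hinv : ((C.r1 p)⁻¹ : GL F9 F).val = dm ω invRepC := by
    have h : dm ω invRepC * (C.r1 p : Matrix F9 F9 F) = 1 := by
      rw [C.hr1 p, ← dm_mulC ω h2 hω, invRep_mul, dm_one]
    exact Units.inv_eq_of_mul_eq_one_left h
  have hq : dm ω lineC = dm ω baseC * dm ω coordC := by
    rw [← dm_mulC ω h2 hω, line_in_base]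
  have hqm : ((C.r1 p)⁻¹ : GL F9 F).val * dm ω lineC = dm ω baseC * dm ω coordMovedC := by
    rw [hinv, ← dm_mulC ω h2 hω, line_in_moved, dm_mulC ω h2 hω]
  have z1 : dm ω annC * ((x : GL F9 F) : Matrix F9 F9 F) * dm ω lineC = 0 := by
    rw [hq, mul_assoc, ← mul_assoc _ (dm ω baseC), hX, ← mul_assoc, ← mul_assoc,
      ← dm_mulC ω h2 hω, ann_base, dm_zero, zero_mul, zero_mul]
  have z2 : dm ω annC * ((C.r1 p)⁻¹ : GL F9 F).val * ((x : GL F9 F) : Matrix F9 F9 F) *
      dm ω lineC = 0 := by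
    have e : ((C.r1 p)⁻¹ : GL F9 F).val * ((x : GL F9 F) : Matrix F9 F9 F) =
        (((C.r1 p)⁻¹ * ((x : GL F9 F) * C.r1 p) : GL F9 F) : Matrix F9 F9 F) *
          ((C.r1 p)⁻¹ : GL F9 F).val := by
      rw [← Units.val_mul, ← Units.val_mul]
      congr 1
      group
    rw [mul_assoc (dm ω annC), e, mul_assoc, mul_assoc, hqm, ← mul_assoc _ (dm ω baseC), hY,
      ← mul_assoc, ← mul_assoc, ← dm_mulC ω h2 hω, ann_base, dm_zero, zero_mul, zero_mul]
  have one_eq : (1 : Matrix F9 F9 F) = dm ω combOneC * dm ω annC +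
      dm ω combTwoC * (dm ω annC * ((C.r1 p)⁻¹ : GL F9 F).val) + dm ω lineC * dm ω coLineC := by
    rw [hinv]
    simp only [← dm_mulC ω h2 hω, ← dm_xor ω h2]
    rw [comb_eq, dm_one]
  have hxq : ∃ X, ((x : GL F9 F) : Matrix F9 F9 F) * dm ω lineC = dm ω lineC * X := by
    refine ⟨dm ω coLineC * ((x : GL F9 F) : Matrix F9 F9 F) * dm ω lineC, ?_⟩
    conv_lhs => rw [← one_mul (((x : GL F9 F) : Matrix F9 F9 F)), one_eq]
    simp only [add_mul, mul_assoc] at z1 z2 ⊢
    rw [z1, z2, mul_zero, mul_zero, zero_add, zero_add]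
  obtain ⟨a, ha⟩ := C.c2.covers (C.mem_two_of_mem_ker hx)
  have ha0 : a = 0 := by
    by_contra hne
    obtain ⟨X', hX'⟩ := hxq
    obtain ⟨Y', hY'⟩ := stab_three h2 hω C.hg3 (inv_mem ha)
    have hr : (C.r2 a : Matrix F9 F9 F) * dm ω lineC = dm ω lineC * (X' * Y') := by
      have e : C.r2 a = (x : GL F9 F) * ((C.r2 a)⁻¹ * (x : GL F9 F))⁻¹ := by group
      rw [e, Units.val_mul, mul_assoc, hY', ← mul_assoc, hX', mul_assoc]
    have h := of_allUpTo sepTwo_ok a (Nat.zero_le _) (by omega)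
    rw [sepTwoOK, Bool.or_eq_true] at h
    rcases h with h | h
    · exact hne (Fin.ext (by simpa using Nat.eq_of_beq_eq_true h))
    · apply dm_ne_zero h2 hω h
      rw [dm_mulC ω h2 hω, dm_mulC ω h2 hω, ← C.hr2 a, mul_assoc, hr, ← mul_assoc,
        ← dm_mulC ω h2 hω, annLine_line, dm_zero, zero_mul]
  subst ha0
  rw [C.c2.zero, inv_one, one_mul] at ha
  obtain ⟨c, hc⟩ := C.c3.covers ha
  rw [Subgroup.mem_bot, inv_mul_eq_one] at hc
  have h := of_allUpTo ker_ok c (Nat.zero_le _) (by omega)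
  simp only [kerOK, Bool.or_eq_true, Bool.and_eq_true, Nat.blt_eq] at h
  rw [← hc]
  rcases h with (h | h | h) | ⟨hp, hi, hnz⟩
  · exact Or.inl (Nat.eq_of_beq_eq_true h ▸ C.hr3 c)
  · exact Or.inr (Or.inl (Nat.eq_of_beq_eq_true h ▸ C.hr3 c))
  · exact Or.inr (Or.inr (Nat.eq_of_beq_eq_true h ▸ C.hr3 c))
  · exfalso
    let q : Fin 6156 := ⟨_, hp⟩
    obtain ⟨Z, hZ⟩ := stab_two h2 hω C.hg2 (C.conj_mem_of_mem_ker hx q)
    rw [← hc, Units.val_mul, Units.val_mul] at hZ
    have hinvq : ((C.r1 q)⁻¹ : GL F9 F).val = dm ω (nth sepInvs (sepSel.get 4 c)) := by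
      have h : dm ω (nth sepInvs (sepSel.get 4 c)) * (C.r1 q : Matrix F9 F9 F) = 1 := by
        rw [C.hr1 q, ← dm_mulC ω h2 hω, Nat.eq_of_beq_eq_true hi, dm_one]
      exact Units.inv_eq_of_mul_eq_one_left h
    apply dm_ne_zero h2 hω hnz
    simp only [dm_mulC ω h2 hω]
    rw [← hinvq, ← C.hr3 c, ← C.hr1 q]
    simp only [mul_assoc] at hZ ⊢
    rw [hZ, ← mul_assoc, ← dm_mulC ω h2 hω, ann_base, dm_zero, zero_mul]

theorem ker_eq (h2 : (2 : F) = 0) (hω : ω ^ 2 + ω + 1 = 0) :
    C.rep.ker ≤ Subgroup.center ↥C.grp ∧ Nat.card C.rep.ker = 3 := by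
  obtain ⟨z, hz, hzm, hzc⟩ := C.omega_unit h2 hω
  let z' : ↥C.grp := ⟨z, hzm⟩
  have hzfix : C.rep z' = 1 := by
    refine Equiv.ext fun i => ?_
    rw [Equiv.Perm.one_apply]
    refine (C.c1.perm_eq_iff z' i i).mpr ?_
    change (C.r1 i)⁻¹ * (z * C.r1 i) ∈ _
    rw [scalar_commute hz, inv_mul_cancel_left]
    obtain ⟨u, hu, hu'⟩ := C.stabC_mem' h2 hω (field omCert 13 7) (field omCert 20 9)
    rw [show z = u from HasCode.ext hzc (by
      rw [← omC_cert]
      unfold certC
      rw [show Nat.mod (field omCert 0 13) 6156 = 0 by decide]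
      rw [HasCode, dm_mulC ω h2 hω, repOne_zero, dm_one, one_mul]
      exact hu')]
    exact hu
  have hker : C.rep.ker = Subgroup.zpowers z' := by
    refine le_antisymm (fun x hx => ?_) (Subgroup.zpowers_le.mpr hzfix)
    rcases C.ker_code h2 hω hx with h | h | h
    · have : x = 1 := Subtype.ext (h.ext hasCode_one)
      rw [this]; exact one_mem _
    · have : x = z' := Subtype.ext (h.ext hzc)
      rw [this]; exact Subgroup.mem_zpowers z'
    · have : x = z' * z' := Subtype.ext (h.ext (by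
        have := hzc.mul h2 hω hzc
        rwa [om2C_eq] at this))
      rw [this]; exact mul_mem (Subgroup.mem_zpowers z') (Subgroup.mem_zpowers z')
  refine ⟨?_, ?_⟩
  · rw [hker, Subgroup.zpowers_le, Subgroup.mem_center_iff]
    exact fun g => Subtype.ext (scalar_commute hz g).symm
  · rw [hker, Nat.card_zpowers, ← Subgroup.orderOf_coe]
    exact omega_pow_eq h2 hω hz

theorem card_range (h2 : (2 : F) = 0) (hω : ω ^ 2 + ω + 1 = 0) :
    Nat.card C.rep.range = 50232960 := by
  have h := C.rep.ker.index_mul_card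
  rw [Subgroup.index_ker, (C.ker_eq h2 hω).2, C.card_grp] at h
  omega

theorem pretransitive_range : IsPretransitive C.rep.range (Fin 6156) := by
  rw [isPretransitive_iff_base (0 : Fin 6156)]
  exact fun i => ⟨⟨C.rep ⟨C.r1 i, C.c1.rep_mem i⟩, _, rfl⟩, C.c1.perm_pretransitive i⟩

theorem preprimitive_range (h2 : (2 : F) = 0) (hω : ω ^ 2 + ω + 1 = 0) :
    IsPreprimitive C.rep.range (Fin 6156) := by
  haveI := C.pretransitive_range
  refine IsPreprimitive.of_isTrivialBlock_base (0 : Fin 6156) fun {B} h0 hB => ?_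
  have hfix : ∀ x : ↥C.grp, (x : GL F9 F) ∈ Subgroup.closure (Set.range C.g2) →
      ∀ i, (i ∈ B ↔ C.rep x i ∈ B) := by
    intro x hx i
    let k : C.rep.range := ⟨C.rep x, x, rfl⟩
    have hk : k • (0 : Fin 6156) = 0 := (C.c1.perm_zero_iff x).mpr hx
    have e : k • B = B := isBlock_iff_smul_eq_of_mem.mp hB h0 (by rwa [hk])
    constructor
    · intro hi
      rw [← e]
      exact Set.smul_mem_smul_set (a := k) hi
    · intro hi
      rw [← e] at hi
      exact Set.smul_mem_smul_set_iff.mp (show k • i ∈ k • B from hi)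
  let σ : Fin 6156 → Fin 6156 := fun t => ⟨subPos.get 13 t, by
    have h := of_allUpTo sub_ok t (Nat.zero_le _) (by omega)
    simp only [subOK, Bool.and_eq_true, Nat.blt_eq] at h
    exact h.1.1⟩
  have hσ : Function.Bijective σ := by
    refine Finite.injective_iff_bijective.mp fun s t e => ?_
    have h1 := of_allUpTo sub_ok s (Nat.zero_le _) (by omega)
    have h3 := of_allUpTo sub_ok t (Nat.zero_le _) (by omega)
    simp only [subOK, Bool.and_eq_true] at h1 h3
    have e' : subPos.get 13 s = subPos.get 13 t := congrArg Fin.val e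
    apply Fin.ext
    rw [← Nat.eq_of_beq_eq_true h1.1.2.2.1, e', Nat.eq_of_beq_eq_true h3.1.2.2.1]
  classical
  let P : ℕ → Prop := fun t => ∃ h : t < 6156, σ ⟨t, h⟩ ∈ B
  have seg : ∀ t, ∀ j : Fin 8, nth offs j ≤ t → t < nth offs (j + 1) →
      (P t ↔ P (nth offs j)) := by
    intro t
    induction t using Nat.strongRecOn with
    | _ t ih =>
      intro j h1 h3
      have hbd : ∀ j : Fin 8, nth offs (j + 1) ≤ 6156 ∧ nth offs j ∈ offs ∧
          nth offs (j + 1) ∈ offs := by decide +kernel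
      have hgap : ∀ o ∈ offs, ∀ j : Fin 8, o ≤ nth offs j ∨ nth offs (j + 1) ≤ o := by
        decide +kernel
      have ht : t < 6156 := lt_of_lt_of_le h3 (hbd j).1
      rcases eq_or_lt_of_le h1 with rfl | h1'
      · exact Iff.rfl
      have h := of_allUpTo sub_ok t (Nat.zero_le _) (by omega)
      simp only [subOK, Bool.and_eq_true, Bool.or_eq_true, Nat.blt_eq] at h
      obtain ⟨-, hh⟩ := h
      have hnot : t ∉ offs := by
        intro hm
        rcases hgap t hm j with h | h <;> omega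
      have hall : allList (fun o => Bool.rec true false (Nat.beq o t)) offs = true := by
        have key : ∀ l : List ℕ, t ∉ l →
            allList (fun o => Bool.rec true false (Nat.beq o t)) l = true := by
          intro l
          induction l with
          | nil => exact fun _ => rfl
          | cons o l ihl =>
            intro hm
            change (Bool.rec true false (Nat.beq o t) && allList _ l) = true
            have hne : Nat.beq o t = false := by
              cases hb : Nat.beq o t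
              · rfl
              · exact absurd (Nat.eq_of_beq_eq_true hb) fun e => hm (e ▸ List.mem_cons_self)
            rw [hne, ihl fun e => hm (List.mem_cons_of_mem o e)]
            rfl
        exact key _ hnot
      rcases hh with hh | ⟨hp, hgapp, he⟩
      · rw [hall] at hh; exact absurd hh (by decide)
      · have hq := of_allList hgapp _ (hbd j).2.1
        simp only [Bool.or_eq_true, Nat.ble_eq, Nat.blt_eq] at hq
        set q := field (subTree.get 32 t) 1 13 with hqdef
        have hjq : nth offs j ≤ q := by omega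
        rw [← ih q hp j hjq (by omega)]
        have hs : field (subTree.get 32 t) 0 1 < 2 := by
          have : field (subTree.get 32 t) 0 1 ≤ 2 ^ 1 - 1 := Nat.and_le_right
          omega
        obtain ⟨u, hu, hu'⟩ := gen2_mem C.hg2 hs
        obtain ⟨k, hk, hk'⟩ := C.stabC_mem' h2 hω (field (subTree.get 32 t) 14 7)
          (field (subTree.get 32 t) 21 9)
        have hqn : q < 6156 := lt_trans hp ht
        have eq1 : u * C.r1 (σ ⟨q, hqn⟩) = C.r1 (σ ⟨t, ht⟩) * k := by
          refine HasCode.ext (hu'.mul h2 hω (C.hr1 _)) ?_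
          have := (C.hr1 (σ ⟨t, ht⟩)).mul h2 hω hk'
          rwa [← Nat.eq_of_beq_eq_true he] at this
        have hmove : C.rep ⟨u, C.c1.le hu⟩ (σ ⟨q, hqn⟩) = σ ⟨t, ht⟩ := by
          refine (C.c1.perm_eq_iff _ _ _).mpr ?_
          change (C.r1 (σ ⟨t, ht⟩))⁻¹ * (u * C.r1 (σ ⟨q, hqn⟩)) ∈ _
          rw [eq1, inv_mul_cancel_left]; exact hk
        have hiff := hfix ⟨u, C.c1.le hu⟩ hu (σ ⟨q, hqn⟩)
        rw [hmove] at hiff
        exact ⟨fun ⟨_, h⟩ => ⟨hqn, hiff.mpr h⟩, fun ⟨_, h⟩ => ⟨ht, hiff.mp h⟩⟩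
  let T : Finset (Fin 8) := Finset.univ.filter fun j => P (nth offs j)
  have cover : ∀ t < 6156, ∃ j : Fin 8, nth offs j ≤ t ∧ t < nth offs (j + 1) := by
    intro t ht
    by_cases h1 : t < 1
    · exact ⟨0, (by show 0 ≤ t; omega), (by show t < 1; omega)⟩
    by_cases h2 : t < 681
    · exact ⟨1, (by show 1 ≤ t; omega), (by show t < 681; omega)⟩
    by_cases h3 : t < 2721
    · exact ⟨2, (by show 681 ≤ t; omega), (by show t < 2721; omega)⟩
    by_cases h4 : t < 4081
    · exact ⟨3, (by show 2721 ≤ t; omega), (by show t < 4081; omega)⟩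
    by_cases h5 : t < 5441
    · exact ⟨4, (by show 4081 ≤ t; omega), (by show t < 5441; omega)⟩
    by_cases h6 : t < 5951
    · exact ⟨5, (by show 5441 ≤ t; omega), (by show t < 5951; omega)⟩
    by_cases h7 : t < 6071
    · exact ⟨6, (by show 5951 ≤ t; omega), (by show t < 6071; omega)⟩
    exact ⟨7, (by show 6071 ≤ t; omega), (by show t < 6156; omega)⟩
  have hsplit : (Finset.range 6156).filter P =
      T.biUnion fun j : Fin 8 => Finset.Ico (nth offs j) (nth offs (j + 1)) := by
    ext t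
    simp only [Finset.mem_filter, Finset.mem_range, Finset.mem_biUnion, Finset.mem_Ico, T,
      Finset.mem_univ, true_and]
    constructor
    · rintro ⟨ht, hP⟩
      obtain ⟨j, hj1, hj3⟩ := cover t ht
      exact ⟨j, (seg t j hj1 hj3).mp hP, hj1, hj3⟩
    · rintro ⟨j, hP, hj1, hj3⟩
      have hP' := (seg t j hj1 hj3).mpr hP
      exact ⟨hP'.1, hP'⟩
  have hdisj : (T : Set (Fin 8)).PairwiseDisjoint
      fun j : Fin 8 => Finset.Ico (nth offs j) (nth offs (j + 1)) := by
    have e : ∀ i j : Fin 8, i ≠ j →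
        nth offs (i + 1) ≤ nth offs j ∨ nth offs (j + 1) ≤ nth offs i := by decide +kernel
    intro i _ j _ hij
    simp only [Function.onFun, Finset.disjoint_left, Finset.mem_Ico]
    intro t h1 h3
    rcases e i j hij with h | h <;> omega
  have hcard : B.ncard = ∑ j ∈ T, (nth offs (j + 1) - nth offs j) := by
    have e1 : B.ncard = ((Finset.range 6156).filter P).card := by
      rw [← Set.ncard_preimage_of_injective_subset_range hσ.1 (by simp [hσ.2.range_eq])]
      rw [← Set.ncard_image_of_injective _ Fin.val_injective, ← Set.ncard_coe_finset]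
      congr 1
      ext t
      simp only [Set.mem_image, Set.mem_preimage, Finset.coe_filter, Finset.mem_range,
        Set.mem_ofPred_eq, P]
      show _ ↔ t < 6156 ∧ ∃ h : t < 6156, σ ⟨t, h⟩ ∈ B
      constructor
      · rintro ⟨u, hu, rfl⟩; exact ⟨u.2, u.2, hu⟩
      · rintro ⟨ht, _, hu⟩; exact ⟨⟨t, ht⟩, hu, rfl⟩
    rw [e1, hsplit, Finset.card_biUnion hdisj]
    simp
  have hP0 : P (nth offs 0) := by
    refine ⟨by decide, ?_⟩
    convert h0 using 1
    apply Fin.ext
    simp only [σ]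
    have e : nth offs 0 = 0 := rfl
    simp only [e, subPos_zero, Fin.val_zero]
  have hdvd : B.ncard ∣ 6156 := by
    simpa using hB.ncard_dvd_card ⟨0, h0⟩
  rcases suborbit_sums T (by simp [T, hP0]) (hcard ▸ hdvd) with hT | hT
  · left
    rw [hT, Finset.sum_singleton] at hcard
    have h1 : B.ncard = 1 := hcard
    obtain ⟨b, hb⟩ := Set.ncard_eq_one.mp h1
    rw [hb]; exact Set.subsingleton_singleton
  · right
    apply Set.eq_of_subset_of_ncard_le (Set.subset_univ _)
    rw [hcard, hT, Set.ncard_univ, Nat.card_fin]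
    decide +kernel

theorem simple_range (h2 : (2 : F) = 0) (hω : ω ^ 2 + ω + 1 = 0) :
    IsSimpleGroup C.rep.range := by
  haveI := C.preprimitive_range h2 hω
  haveI : Nontrivial C.rep.range :=
    Finite.one_lt_card_iff_nontrivial.mp (by rw [C.card_range h2 hω]; norm_num)
  have hm : ∀ s, C.g1 s ∈ C.grp := fun s => Subgroup.subset_closure ⟨s, rfl⟩
  refine Compute.isSimpleGroup_of_pElements (α := Fin 6156) (p := 19) (a := 1) (by norm_num)
    (by rw [Nat.card_fin]; norm_num) (by rw [C.card_range h2 hω]; norm_num)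
    (S := Set.range fun s : Fin 2 => C.rep.rangeRestrict ⟨C.g1 s, hm s⟩) ?_ ?_
  · rintro _ ⟨s, rfl⟩
    refine ⟨1, orderOf_dvd_of_pow_eq_one ?_⟩
    have h : C.g1 s ^ 19 = 1 := by
      refine HasCode.ext (pow_hasCode h2 hω (C.hg1 s) 19) ?_
      fin_cases s
      · rw [show tblOne.gen ((⟨0, by norm_num⟩ : Fin 2) : ℕ) = xC from rfl, xPow_all]
        exact hasCode_one
      · rw [show tblOne.gen ((⟨1, by norm_num⟩ : Fin 2) : ℕ) = yC from rfl, yPow_all]
        exact hasCode_one
    rw [pow_one, ← map_pow, show (⟨C.g1 s, hm s⟩ : ↥C.grp) ^ 19 = 1 from Subtype.ext h, map_one]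
  · rw [Set.range_comp' C.rep.rangeRestrict, ← MonoidHom.map_closure,
      show Set.range (fun s : Fin 2 => (⟨C.g1 s, hm s⟩ : ↥C.grp)) =
        ((↑) : ↥C.grp → GL F9 F) ⁻¹' Set.range C.g1 by
        ext x; simp [Subtype.ext_iff],
      Subgroup.closure_closure_coe_preimage,
      Subgroup.map_top_of_surjective _ C.rep.rangeRestrict_surjective]

theorem center_range (h2 : (2 : F) = 0) (hω : ω ^ 2 + ω + 1 = 0) :
    Subgroup.center C.rep.range = ⊥ := by
  haveI := C.simple_range h2 hω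
  rcases (inferInstance : (Subgroup.center C.rep.range).Normal).eq_bot_or_eq_top with h | h
  · exact h
  exfalso
  have hm : ∀ s, C.g1 s ∈ C.grp := fun s => Subgroup.subset_closure ⟨s, rfl⟩
  let v : Fin 2 → ↥C.grp := fun s => ⟨C.g1 s, hm s⟩
  have hv : ∀ s i, C.rep (v s) i = tblOne.perm (n := 6156) rfl tblOne_spec s i := fun s i =>
    (C.c1.perm_eq_iff _ _ _).mpr (C.c1.edge s i)
  have hc : C.rep (v 0) * C.rep (v 1) = C.rep (v 1) * C.rep (v 0) := by
    have hz : C.rep.rangeRestrict (v 1) ∈ Subgroup.center C.rep.range := h ▸ Subgroup.mem_top _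
    exact congrArg Subtype.val (Subgroup.mem_center_iff.mp hz (C.rep.rangeRestrict (v 0)))
  have hc0 := congrArg (fun σ : Equiv.Perm (Fin 6156) => ((σ 0 : Fin 6156) : ℕ)) hc
  simp only [Equiv.Perm.mul_apply, hv] at hc0
  exact img_noncomm hc0

theorem center_eq (h2 : (2 : F) = 0) (hω : ω ^ 2 + ω + 1 = 0) :
    Subgroup.center ↥C.grp = C.rep.ker := by
  refine le_antisymm (fun x hx => ?_) (C.ker_eq h2 hω).1
  have h : C.rep.rangeRestrict x ∈ Subgroup.center C.rep.range := by
    rw [Subgroup.mem_center_iff] at hx ⊢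
    rintro ⟨_, g, rfl⟩
    exact Subtype.ext ((map_mul C.rep g x).symm.trans (by rw [hx g, map_mul]; rfl))
  rw [C.center_range h2 hω, Subgroup.mem_bot] at h
  exact congrArg Subtype.val h

end Chain

/-- Orders, centre, and the permutation representation of degree 6156. -/
theorem j3_main (hF : Fintype.card F = 4) (hω : ω ^ 2 + ω + 1 = 0) :
    Nat.card (Subgroup.center ↥(threeJ3 F ω)) = 3 ∧ Nat.card ↥(threeJ3 F ω) = 150698880 ∧
    Nat.card (J3 F ω) = 50232960 ∧ IsSimpleGroup (J3 F ω) ∧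
    ∃ H : Subgroup (Equiv.Perm (Fin 6156)), Nat.card H = 50232960 ∧ IsSimpleGroup H ∧
      IsPretransitive H (Fin 6156) ∧ Nonempty (J3 F ω ≃* H) := by
  have h2 := two_eq_zero hF
  obtain ⟨C⟩ := exists_chain h2 hω
  have hG := C.grp_eq h2 hω
  have e : J3 F ω ≃* C.rep.range := by
    unfold J3
    rw [hG]
    exact (QuotientGroup.quotientMulEquivOfEq (C.center_eq h2 hω)).trans
      (QuotientGroup.quotientKerEquivRange C.rep)
  have hs := C.simple_range h2 hω
  have hc := C.card_range h2 hω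
  refine ⟨?_, ?_, ?_, ?_, C.rep.range, hc, hs, C.pretransitive_range, ⟨e⟩⟩
  · rw [hG, C.center_eq h2 hω]; exact (C.ker_eq h2 hω).2
  · rw [hG]; exact C.card_grp
  · rw [Nat.card_congr e.toEquiv]; exact hc
  · exact e.isSimpleGroup

end Cfsg.Agent.Lib.J3
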