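import Mathlib
import Cfsg.Prelude.Def_KGroupFacts

/-!
# Multipliers of central quotients of perfect groups with trivial multiplier
-/

set_option autoImplicit false

namespace Cfsg.Agent.Lib.J3

open scoped commutatorElement

universe u

/-- If the perfect group `G` has no proper stem extension and `π : G →* Q` is a stem extension,
every stem extension of `Q` has a kernel that is an image of `ker π`. -/
theorem exists_ker_surjection {G Q : Type u} [Group G] [Group Q] [Finite G] (π : G →* Q)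
    (hπ : Function.Surjective π) (hπc : π.ker ≤ Subgroup.center G) (hG : commutator G = ⊤)
    (htriv : ∀ (Δ : Type u) [Group Δ] [Finite Δ] (τ : Δ →* G),
      Cfsg.IsStemExtension τ → τ.ker = ⊥)
    {Γ : Type u} [Group Γ] [Finite Γ] (σ : Γ →* Q) (hσ : Cfsg.IsStemExtension σ) :
    ∃ f : π.ker →* σ.ker, Function.Surjective f := by
  obtain ⟨hs, hc, hd⟩ := hσ
  let P : Subgroup (Γ × G) := (σ.comp (MonoidHom.fst Γ G)).eqLocus (π.comp (MonoidHom.snd Γ G))
  let D : Subgroup (Γ × G) := ⁅P, P⁆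
  have hDP : D ≤ P := by
    refine Subgroup.commutator_le.mpr fun a ha b hb => ?_
    exact mul_mem (mul_mem (mul_mem ha hb) (inv_mem ha)) (inv_mem hb)
  have hP : ∀ x : Γ × G, x ∈ P ↔ σ x.1 = π x.2 := fun x => Iff.rfl
  have hQ : commutator Q = ⊤ := by
    rw [commutator_def, ← Subgroup.map_top_of_surjective π hπ, ← Subgroup.map_commutator,
      ← commutator_def, hG]
  have hPsnd : P.map (MonoidHom.snd Γ G) = ⊤ := by
    refine eq_top_iff.mpr fun g _ => ?_
    obtain ⟨γ, hγ⟩ := hs (π g)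
    exact ⟨(γ, g), (hP _).mpr hγ, rfl⟩
  have hPfst : P.map (MonoidHom.fst Γ G) = ⊤ := by
    refine eq_top_iff.mpr fun γ _ => ?_
    obtain ⟨g, hg⟩ := hπ (σ γ)
    exact ⟨(γ, g), (hP _).mpr hg.symm, rfl⟩
  have hΓ : commutator Γ = ⊤ := by
    refine eq_top_iff.mpr fun γ _ => ?_
    have hm : σ γ ∈ (commutator Γ).map σ := by
      rw [commutator_def, Subgroup.map_commutator, Subgroup.map_top_of_surjective σ hs,
        ← commutator_def, hQ]
      exact Subgroup.mem_top _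
    obtain ⟨c, hc', e⟩ := hm
    have hk : c⁻¹ * γ ∈ σ.ker := by
      rw [MonoidHom.mem_ker, map_mul, map_inv, e, inv_mul_cancel]
    simpa using mul_mem hc' (hd hk)
  have hDsnd : D.map (MonoidHom.snd Γ G) = ⊤ := by
    rw [Subgroup.map_commutator, hPsnd, ← commutator_def, hG]
  have hDfst : D.map (MonoidHom.fst Γ G) = ⊤ := by
    rw [Subgroup.map_commutator, hPfst, ← commutator_def, hΓ]
  let τ : D →* G := (MonoidHom.snd Γ G).comp D.subtype
  have hcent : ∀ x ∈ P, x.2 = 1 → ∀ y ∈ P, x * y = y * x := by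
    intro x hx h2 y _
    have h1 : x.1 ∈ σ.ker := by
      rw [MonoidHom.mem_ker, (hP x).mp hx, h2, map_one]
    refine Prod.ext ?_ ?_
    · exact (Subgroup.mem_center_iff.mp (hc h1) y.1).symm
    · simp [h2]
  have hsplit : ∀ x ∈ P, ∃ d ∈ D, ∃ k ∈ P, k.2 = 1 ∧ x = d * k := by
    intro x hx
    have hx2 : x.2 ∈ D.map (MonoidHom.snd Γ G) := hDsnd ▸ Subgroup.mem_top _
    obtain ⟨d, hd', e⟩ := hx2
    refine ⟨d, hd', d⁻¹ * x, mul_mem (inv_mem (hDP hd')) hx, ?_, (mul_inv_cancel_left d x).symm⟩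
    change d.2 = x.2 at e
    simp [e]
  have hperf : commutator D = ⊤ := by
    have hDD : D ≤ ⁅D, D⁆ := by
      refine Subgroup.commutator_le.mpr fun a ha b hb => ?_
      obtain ⟨a₁, ha₁, a₂, ha₂, ha2, rfl⟩ := hsplit a ha
      obtain ⟨b₁, hb₁, b₂, hb₂, hb2, rfl⟩ := hsplit b hb
      have ca := hcent a₂ ha₂ ha2
      have cb := hcent b₂ hb₂ hb2
      have pa := hDP ha₁
      have pb := hDP hb₁
      have e : ⁅a₁ * a₂, b₁ * b₂⁆ = ⁅a₁, b₁⁆ := by
        simp only [commutatorElement_def, mul_inv_rev]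
        calc a₁ * a₂ * (b₁ * b₂) * (a₂⁻¹ * a₁⁻¹) * (b₂⁻¹ * b₁⁻¹)
            = a₁ * (a₂ * (b₁ * b₂)) * a₂⁻¹ * (a₁⁻¹ * b₂⁻¹) * b₁⁻¹ := by simp only [mul_assoc]
          _ = a₁ * (b₁ * b₂) * (a₁⁻¹ * b₂⁻¹) * b₁⁻¹ := by
              rw [ca _ (mul_mem pb hb₂)]; simp only [mul_assoc, mul_inv_cancel_left]
          _ = a₁ * b₁ * (b₂ * (a₁⁻¹ * b₂⁻¹)) * b₁⁻¹ := by simp only [mul_assoc]
          _ = a₁ * b₁ * a₁⁻¹ * b₁⁻¹ := by
              rw [cb _ (mul_mem (inv_mem pa) (inv_mem hb₂))]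
              simp only [mul_assoc, inv_mul_cancel, mul_one]
      rw [e]
      exact Subgroup.commutator_mem_commutator ha₁ hb₁
    apply Subgroup.map_injective D.subtype_injective
    rw [commutator_def, Subgroup.map_commutator, ← MonoidHom.range_eq_map, Subgroup.range_subtype]
    exact le_antisymm (Subgroup.commutator_le.mpr fun a ha b hb =>
      mul_mem (mul_mem (mul_mem ha hb) (inv_mem ha)) (inv_mem hb)) hDD
  have hτ : Cfsg.IsStemExtension τ := by
    refine ⟨fun g => ?_, fun x hx => ?_, hperf ▸ le_top⟩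
    · have hg : g ∈ D.map (MonoidHom.snd Γ G) := hDsnd ▸ Subgroup.mem_top g
      obtain ⟨d, hd', e⟩ := hg
      exact ⟨⟨d, hd'⟩, e⟩
    · refine Subgroup.mem_center_iff.mpr fun y => Subtype.ext ?_
      exact (hcent x (hDP x.2) hx y (hDP y.2)).symm
  have hbot := htriv D τ hτ
  have hinj : Function.Injective τ := (MonoidHom.ker_eq_bot_iff τ).mp hbot
  let e : D ≃* G := MulEquiv.ofBijective τ ⟨hinj, hτ.1⟩
  let g : G →* Γ := ((MonoidHom.fst Γ G).comp D.subtype).comp e.symm.toMonoidHom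
  have hσg : ∀ x, σ (g x) = π x := by
    intro x
    have h := (hP _).mp (hDP (e.symm x).2)
    have h2 : ((e.symm x : D) : Γ × G).2 = x := e.apply_symm_apply x
    rw [h2] at h
    exact h
  refine ⟨(g.comp π.ker.subtype).codRestrict σ.ker fun x => ?_, fun y => ?_⟩
  · rw [MonoidHom.mem_ker]
    exact (hσg x).trans x.2
  · have hy : (y : Γ) ∈ D.map (MonoidHom.fst Γ G) := hDfst ▸ Subgroup.mem_top _
    obtain ⟨d, hd', hdy⟩ := hy
    have hgd : g (e ⟨d, hd'⟩) = d.1 := by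
      simp only [g, MonoidHom.comp_apply, MulEquiv.coe_toMonoidHom, MulEquiv.symm_apply_apply]
      rfl
    have hker : e ⟨d, hd'⟩ ∈ π.ker := by
      rw [MonoidHom.mem_ker, ← hσg, hgd]
      change d.1 = (y : Γ) at hdy
      rw [hdy]; exact y.2
    exact ⟨⟨_, hker⟩, Subtype.ext (hgd.trans hdy)⟩

end Cfsg.Agent.Lib.J3
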