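import Cfsg.Agent.Lib.J3.CheckMisc
import Cfsg.Agent.Lib.J3.DataMult
import Cfsg.Agent.Lib.J3.Kill

/-!
# Kernel checks for the Schur multiplier
-/

set_option autoImplicit false
set_option maxRecDepth 100000
set_option Elab.async false

namespace Cfsg.Agent.Lib.J3

open Cfsg.Agent.Lib.CosetEnum

/-- The number of the rule with left side starting at `a` with second letter `b`. -/
def pcOff (n b : ℕ) : ℕ := ((List.range b).map fun i => n - i).sum

/-- Rule lookup for exponent two. -/
def pickTwo : List ℕ → Option ℕ
  | a :: b :: _ => bif Nat.ble b a then some (pcOff 7 b + (a - b)) else none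
  | _ => none

/-- Rule lookup for exponent three. -/
def pickThree : List ℕ → Option ℕ
  | a :: b :: w =>
    bif Nat.blt b a then some (pcOff 6 b + (a - b))
    else bif Nat.beq a b then
      match w with
      | c :: _ => bif Nat.beq c a then some (pcOff 6 a) else none
      | [] => none
    else none
  | _ => none

/-- The normal word of a number. -/
def pcWord (p n m : ℕ) : List ℕ :=
  (List.range n).flatMap fun i => List.replicate (m / p ^ i % p) i

/-- The number of a normal word. -/
def pcEnc (p : ℕ) (w : List ℕ) : ℕ := (w.map fun i => p ^ i).sum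

/-- The certificate for the prime two. -/
def killTwo : Collect.KillData where
  R := ⟨pickTwo, fun k => pcLhsTwo.getD k [], fun k => pcRhsTwo.getD k [], 28⟩
  n := 7
  fs := pcFusTwo
  owner t := pcOwnerTwo.getD (t - 28) (0, 0)
  V := 37
  srcs := pcSrcTwo
  shift i := pcShiftTwo.getD i []
  combo k := pcComboTwo.getD k []
  N := 128
  nf := pcWord 2 7
  enc := pcEnc 2

/-- The certificate for the prime three. -/
def killThree : Collect.KillData where
  R := ⟨pickThree, fun k => pcLhsThree.getD k [], fun k => pcRhsThree.getD k [], 21⟩
  n := 6
  fs := pcFusThree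
  owner t := pcOwnerThree.getD (t - 21) (0, 0)
  V := 23
  srcs := pcSrcThree
  shift i := pcShiftThree.getD i []
  combo k := pcComboThree.getD k []
  N := 729
  nf := pcWord 3 6
  enc := pcEnc 3

theorem killTwo_owner : killTwo.ownerOK = true := by decide +kernel

theorem killTwo_eqs : killTwo.eqsOK = true := by decide +kernel

theorem killTwo_combo : ∀ k < 28, killTwo.comboOK 2 k = true := by decide +kernel

theorem killTwo_closed : ∀ m < 128, killTwo.closedOK m = true := by decide +kernel

theorem killThree_owner : killThree.ownerOK = true := by decide +kernel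

theorem killThree_eqs : killThree.eqsOK = true := by decide +kernel

theorem killThree_combo : ∀ k < 21, killThree.comboOK 3 k = true := by decide +kernel

theorem killThree_closed0 : allUpTo (fun m => killThree.closedOK m) 0 81 = true := by
  decide +kernel

theorem killThree_closed1 : allUpTo (fun m => killThree.closedOK m) 81 81 = true := by
  decide +kernel

theorem killThree_closed2 : allUpTo (fun m => killThree.closedOK m) 162 81 = true := by
  decide +kernel

theorem killThree_closed3 : allUpTo (fun m => killThree.closedOK m) 243 81 = true := by
  decide +kernel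

theorem killThree_closed4 : allUpTo (fun m => killThree.closedOK m) 324 81 = true := by
  decide +kernel

theorem killThree_closed5 : allUpTo (fun m => killThree.closedOK m) 405 81 = true := by
  decide +kernel

theorem killThree_closed6 : allUpTo (fun m => killThree.closedOK m) 486 81 = true := by
  decide +kernel

theorem killThree_closed7 : allUpTo (fun m => killThree.closedOK m) 567 81 = true := by
  decide +kernel

theorem killThree_closed8 : allUpTo (fun m => killThree.closedOK m) 648 81 = true := by
  decide +kernel

theorem killThree_closed : ∀ m < 729, killThree.closedOK m = true := by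
  intro m hm
  by_cases h0 : m < 81
  · exact of_allUpTo killThree_closed0 m (by omega) (by omega)
  by_cases h1 : m < 162
  · exact of_allUpTo killThree_closed1 m (by omega) (by omega)
  by_cases h2 : m < 243
  · exact of_allUpTo killThree_closed2 m (by omega) (by omega)
  by_cases h3 : m < 324
  · exact of_allUpTo killThree_closed3 m (by omega) (by omega)
  by_cases h4 : m < 405
  · exact of_allUpTo killThree_closed4 m (by omega) (by omega)
  by_cases h5 : m < 486
  · exact of_allUpTo killThree_closed5 m (by omega) (by omega)
  by_cases h6 : m < 567
  · exact of_allUpTo killThree_closed6 m (by omega) (by omega)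
  by_cases h7 : m < 648
  · exact of_allUpTo killThree_closed7 m (by omega) (by omega)
  exact of_allUpTo killThree_closed8 m (by omega) (by omega)

theorem pcTwo_small : ∀ m < 128, ∀ i ∈ pcWord 2 7 m, i < 7 := by decide +kernel

theorem pcThree_small : ∀ m < 729, ∀ i ∈ pcWord 3 6 m, i < 6 := by decide +kernel

/-- The code of a generator. -/
noncomputable def pcCode (cs : List ℕ) (i : ℕ) : ℕ := certC (nth cs i)

/-- Codes of the normal words, ordered to show they differ. -/
noncomputable def pcElemOK (cs : List ℕ) (el srt rk : Arr) (p n N m : ℕ) : Bool :=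
  Nat.beq (wordC (pcCode cs) (pcWord p n m)) (el.get 162 m) &&
    ((Nat.blt (rk.get 10 m) N && Nat.beq (srt.get 10 (rk.get 10 m)) m) &&
      (Nat.beq (m + 1) N ||
        Nat.blt (Nat.land (el.get 162 (srt.get 10 m)) m162)
          (Nat.land (el.get 162 (srt.get 10 (m + 1))) m162)))

theorem pcTwo_elem :
    allUpTo (pcElemOK pcCertTwo pcElemTwo pcSortTwo pcRankTwo 2 7 128) 0 128 = true := by
  decide +kernel

theorem pcThree_elem :
    allUpTo (pcElemOK pcCertThree pcElemThree pcSortThree pcRankThree 3 6 729) 0 729 = true := by
  decide +kernel

/-- A rule holds for the codes. -/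
noncomputable def pcRuleOK (cs : List ℕ) (D : Collect.KillData) (k : ℕ) : Bool :=
  Nat.beq (wordC (pcCode cs) (D.R.lhs k)) (wordC (pcCode cs) (D.R.rhs k))

/-- A conjugation holds for the codes. -/
noncomputable def pcFusOK (cs gs : List ℕ) (D : Collect.KillData) (g : ℕ) : Bool :=
  (List.range (D.fs.getD g ⟨[], [], 0⟩).src.length).all fun i =>
    Nat.beq (mulC (certC (nth gs g)) (wordC (pcCode cs) ((D.fs.getD g ⟨[], [], 0⟩).src.getD i [])))
      (mulC (wordC (pcCode cs) ((D.fs.getD g ⟨[], [], 0⟩).img.getD i [])) (certC (nth gs g)))

theorem pcTwo_rules : ∀ k < 28, pcRuleOK pcCertTwo killTwo k = true := by decide +kernel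

theorem pcThree_rules : ∀ k < 21, pcRuleOK pcCertThree killThree k = true := by decide +kernel

theorem pcTwo_fus : ∀ g < pcFusTwo.length, pcFusOK pcCertTwo pcFusCertTwo killTwo g = true := by
  decide +kernel

theorem pcThree_fus :
    ∀ g < pcFusThree.length, pcFusOK pcCertThree pcFusCertThree killThree g = true := by
  decide +kernel

theorem five_pow : wordC (fun _ => certC certFive) (List.replicate 5 0) = oneC ∧
    Nat.land (certC certFive) m162 ≠ Nat.land oneC m162 := by
  decide +kernel

theorem seventeen_pow : wordC (fun _ => certC certSeventeen) (List.replicate 17 0) = oneC ∧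
    Nat.land (certC certSeventeen) m162 ≠ Nat.land oneC m162 := by
  decide +kernel

theorem nineteen_ne : Nat.land xC m162 ≠ Nat.land oneC m162 := by decide +kernel

end Cfsg.Agent.Lib.J3
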