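import Cfsg.Agent.Lib.J3.LocalTables
import Cfsg.Agent.Lib.J3.DataOut

/-!
# Kernel checks for the outer automorphism group
-/

set_option autoImplicit false
set_option maxRecDepth 100000

namespace Cfsg.Agent.Lib.J3

open Cfsg.Spor Cfsg.Agent.Lib.CosetEnum

/-- Evaluate the argument before use. -/
noncomputable def forceNat {α : Type} (n : ℕ) (f : ℕ → α) : α :=
  Nat.rec (motive := fun _ => α) (f 0) (fun k _ => f (Nat.succ k)) n

theorem forceNat_eq {α : Type} (n : ℕ) (f : ℕ → α) : forceNat n f = f n := by
  cases n <;> rfl

/-- Square of a code. -/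
noncomputable def sqC (m : ℕ) : ℕ := forceNat m fun x => mulC x x

/-- The code is a scalar of order dividing three. -/
noncomputable def isScal (m : ℕ) : Bool :=
  forceNat m fun x => Nat.beq x oneC || (Nat.beq x omC || Nat.beq x om2C)

/-- Projective order divides eight. -/
noncomputable def test8 (m : ℕ) : Bool := isScal (sqC (sqC (sqC m)))

/-- Projective order divides seventeen. -/
noncomputable def test17 (m : ℕ) : Bool :=
  forceNat m fun x => isScal (mulC (sqC (sqC (sqC (sqC x)))) x)

/-- Projective order divides nineteen. -/
noncomputable def test19 (m : ℕ) : Bool :=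
  forceNat m fun x => isScal (mulC (mulC (sqC (sqC (sqC (sqC x)))) (sqC x)) x)

/-- Powers of the first generator. -/
noncomputable def powX (k : ℕ) : ℕ := xPows.get 162 k

/-- The relations satisfied by the pair of generators. -/
noncomputable def sigOK (v : ℕ) : Bool :=
  forceNat v fun x => test19 (mulC (powX 1) x) && (test8 (mulC (powX 2) x) &&
    (test17 (mulC (powX 3) x) && test17 (mulC (powX 4) x)))

/-- A member of the class with these relations is listed. -/
noncomputable def outOK (i : ℕ) : Bool :=
  Bool.rec true (List.rec false (fun a _ ih => Nat.beq a i || ih) fixIdx)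
    (sigOK (classRep.get 162 i))

theorem sig_base : sigOK invC = true := by decide +kernel

theorem out_ok_a : allUpTo outOK 0 7000 = true := by decide +kernel

theorem out_ok_b : allUpTo outOK 7000 7000 = true := by decide +kernel

theorem out_ok_c : allUpTo outOK 14000 7000 = true := by decide +kernel

theorem out_ok_d : allUpTo outOK 21000 5163 = true := by decide +kernel

theorem out_spec : ∀ i < 26163, outOK i = true :=
  allUpTo_append
    (allUpTo_append
      (allUpTo_append (fun i hi => of_allUpTo out_ok_a i (Nat.zero_le i) (by omega)) out_ok_b)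
      out_ok_c)
    out_ok_d

theorem powX_step : powX 0 = oneC ∧ ∀ k < 18, mulC xC (powX k) = powX (k + 1) := by decide +kernel

theorem fix_ok : ∀ r < 19, nth fixPow r < 19 ∧ nth fixIdx r < 26163 ∧
    mulC (classRep.get 162 (nth fixIdx r)) (powX (nth fixPow r)) =
      mulC (powX (nth fixPow r)) invC := by
  decide +kernel

theorem fixIdx_length : fixIdx.length = 19 := by decide

theorem pow_conj_ok : ∀ k < 18,
    (nth powSide k = 0 ∧ mulC (certC (nth powCert k)) (powX (k + 1)) =
      mulC xC (certC (nth powCert k))) ∨
    (nth powSide k = 1 ∧ mulC (certC (nth powCert k)) (powX (k + 1)) =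
      mulC (certC frobCertX) (certC (nth powCert k))) := by
  decide +kernel

theorem y_in_t : wordC (fun i => mulC (powX i) invC) wordYInT = yC := by decide +kernel

theorem frob_cert : mulC (mulC flipC frobX) flipC = certC frobCertX ∧
    mulC (mulC flipC frobY) flipC = certC frobCertY ∧ mulC flipC flipC = oneC := by
  decide +kernel

theorem frobX_bits : ∀ w z,
    bitsAt frobX w z = ((bitsAt xC w z).1 ^^ (bitsAt xC w z).2, (bitsAt xC w z).2) := by
  decide +kernel

theorem frobY_bits : ∀ w z,
    bitsAt frobY w z = ((bitsAt yC w z).1 ^^ (bitsAt yC w z).2, (bitsAt yC w z).2) := by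
  decide +kernel

theorem monomial_comm : mulC (codeA (1, 0)) (codeD (1, 0)) =
    mulC omC (mulC (codeD (1, 0)) (codeA (1, 0))) := by
  decide +kernel

end Cfsg.Agent.Lib.J3
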