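import Cfsg.Agent.Lib.J3.Main
import Cfsg.Agent.Lib.J3.MultTables
import Cfsg.Agent.Lib.J3.OutTables
import Cfsg.Agent.Lib.J3.MultLift
import Cfsg.Agent.Lib.Compute.MultReduce

/-!
# The Schur multiplier of J₃
-/

set_option autoImplicit false
set_option maxRecDepth 100000

namespace Cfsg.Agent.Lib.J3

open Cfsg.Spor Cfsg.Agent.Lib.CosetEnum
open scoped commutatorElement

variable {F : Type*} [Field F] [Fintype F] {ω : F}

/-- The value of a word in elements with codes. -/
theorem val_hasCode (h2 : (2 : F) = 0) (hω : ω ^ 2 + ω + 1 = 0) (g : ℕ → ↥(threeJ3 F ω))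
    (code : ℕ → ℕ) (hg : ∀ i, HasCode ω (g i : GL F9 F) (code i)) :
    ∀ w : List ℕ, HasCode ω ((Collect.val g w : ↥(threeJ3 F ω)) : GL F9 F) (wordC code w)
  | [] => by
    rw [show Collect.val g [] = 1 from rfl]
    exact hasCode_one
  | a :: w => by
    rw [Collect.val_cons, wordC_cons]
    exact (hg a).mul h2 hω (val_hasCode h2 hω g code hg w)

theorem eq_one_of_kill (h2 : (2 : F) = 0) (hω : ω ^ 2 + ω + 1 = 0) {Δ : Type*} [Group Δ]
    [Finite Δ] (τ : Δ →* ↥(threeJ3 F ω)) (hs : Function.Surjective τ)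
    (hc : τ.ker ≤ Subgroup.center Δ) {z : Δ} (hz : z ∈ τ.ker) (hz' : z ∈ commutator Δ) {p : ℕ}
    (hzp : z ^ p = 1) (hker : ∀ w ∈ τ.ker, ∃ i : ℕ, w = z ^ i)
    (D : Collect.KillData) (cs gs : List ℕ) (el srt rk : Arr) (n : ℕ) (q : ℕ) (hn : D.n = n)
    (hrule : ∀ k < D.R.num, pcRuleOK cs D k = true)
    (hfus : ∀ g < D.fs.length, pcFusOK cs gs D g = true)
    (howner : D.ownerOK = true) (heqs : D.eqsOK = true)
    (hcombo : ∀ k < D.R.num, D.comboOK p k = true)
    (hclosed : ∀ m < D.N, D.closedOK m = true) (hN : 0 < D.N) (hnf : ∀ m, D.nf m = pcWord q n m)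
    (hnf0 : D.nf 0 = []) (hsmall : ∀ m < D.N, ∀ i ∈ pcWord q n m, i < n)
    (helem : allUpTo (pcElemOK cs el srt rk q n D.N) 0 D.N = true)
    (hcop : ∀ c : ℕ, D.N * c = 150698880 → Nat.Coprime p c) : z = 1 := by
  obtain ⟨C⟩ := exists_chain (ω := ω) h2 hω
  have hgrp := C.grp_eq h2 hω
  have hcert : ∀ e, ∃ u : ↥(threeJ3 F ω), HasCode ω (u : GL F9 F) (certC e) := by
    intro e
    obtain ⟨u, hu, hu'⟩ := C.certC_mem h2 hω e
    exact ⟨⟨u, hgrp.symm ▸ hu⟩, hu'⟩
  choose E hE using hcert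
  let g : ℕ → ↥(threeJ3 F ω) := fun i => E (nth cs i)
  have hg : ∀ w, HasCode ω ((Collect.val g w : ↥(threeJ3 F ω)) : GL F9 F)
      (wordC (pcCode cs) w) := val_hasCode h2 hω g (pcCode cs) fun i => hE _
  refine Collect.eq_one_of_cert τ hs hc hz hz' hzp hker D g ?_ ?_ howner heqs hcombo hclosed hN
    hnf0 (fun m hm i hi => hn ▸ hsmall m hm i (hnf m ▸ hi)) ?_ ?_
  · intro k hk
    refine Subtype.ext (HasCode.ext (hg _) ?_)
    rw [Nat.eq_of_beq_eq_true (hrule k hk)]
    exact hg _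
  · intro j hj
    refine ⟨E (nth gs j), fun i hi => ?_⟩
    have h := List.all_eq_true.mp (hfus j hj) i (List.mem_range.mpr hi)
    have key : E (nth gs j) * Collect.val g ((D.fs.getD j ⟨[], [], 0⟩).src.getD i []) =
        Collect.val g ((D.fs.getD j ⟨[], [], 0⟩).img.getD i []) * E (nth gs j) := by
      refine Subtype.ext (HasCode.ext ((hE _).mul h2 hω (hg _)) ?_)
      rw [Nat.eq_of_beq_eq_true h]
      exact (hg _).mul h2 hω (hE _)
    rw [key, mul_inv_cancel_right]
  · intro m hm m' hm' e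
    have hc' : ∀ a < D.N, HasCode ω ((Collect.val g (D.nf a) : ↥(threeJ3 F ω)) : GL F9 F)
        (el.get 162 a) ∧ rk.get 10 a < D.N ∧ srt.get 10 (rk.get 10 a) = a := by
      intro a ha
      have h := of_allUpTo helem a (Nat.zero_le _) (by omega)
      simp only [pcElemOK, Bool.and_eq_true, Nat.blt_eq] at h
      refine ⟨?_, h.2.1.1, Nat.eq_of_beq_eq_true h.2.1.2⟩
      rw [hnf, ← Nat.eq_of_beq_eq_true h.1]
      exact hg _
    have hmono : ∀ j, j < D.N → ∀ i < j,
        Nat.land (el.get 162 (srt.get 10 i)) m162 < Nat.land (el.get 162 (srt.get 10 j)) m162 := by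
      intro j
      induction j with
      | zero => intro _ i hi; omega
      | succ j ih =>
        intro hj i hi
        have h := of_allUpTo helem j (Nat.zero_le j) (by omega)
        simp only [pcElemOK, Bool.and_eq_true, Bool.or_eq_true, Nat.blt_eq] at h
        have hstep : Nat.land (el.get 162 (srt.get 10 j)) m162 <
            Nat.land (el.get 162 (srt.get 10 (j + 1))) m162 := by
          rcases h.2.2 with h' | h'
          · have := Nat.eq_of_beq_eq_true h'; omega
          · exact h'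
        rcases Nat.lt_succ_iff_lt_or_eq.mp hi with hlt | rfl
        · exact lt_trans (ih (by omega) i hlt) hstep
        · exact hstep
    obtain ⟨h1, h1', h1''⟩ := hc' m hm
    obtain ⟨h3, h3', h3''⟩ := hc' m' hm'
    have e' : Nat.land (el.get 162 m) m162 = Nat.land (el.get 162 m') m162 :=
      (dm_eq_iff hω h2 _ _).mp (by rw [← h1, ← h3, e])
    rw [← h1'', ← h3'']
    rcases lt_trichotomy (rk.get 10 m) (rk.get 10 m') with h | h | h
    · have := hmono _ h3' _ h
      rw [h1'', h3''] at this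
      exact absurd e' this.ne
    · rw [h]
    · have := hmono _ h1' _ h
      rw [h1'', h3''] at this
      exact absurd e'.symm this.ne
  · intro c hc'
    refine hcop c (hc'.trans ?_)
    rw [hgrp]; exact C.card_grp

/-- The triple cover has no proper stem extension. -/
theorem threeJ3_ker_bot (hF : Fintype.card F = 4) (hω : ω ^ 2 + ω + 1 = 0) {Δ : Type*} [Group Δ]
    [Finite Δ] (τ : Δ →* ↥(threeJ3 F ω)) (hτ : Cfsg.IsStemExtension τ) : τ.ker = ⊥ := by
  have h2 := two_eq_zero hF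
  obtain ⟨hs, hc, hd⟩ := hτ
  obtain ⟨-, hcard, -, -, -⟩ := j3_main hF hω
  obtain ⟨C⟩ := exists_chain (ω := ω) h2 hω
  have hgrp := C.grp_eq h2 hω
  by_contra hne
  haveI : Nontrivial τ.ker := (Subgroup.nontrivial_iff_ne_bot _).mpr hne
  obtain ⟨p, hp, hdvd⟩ := Nat.exists_prime_and_dvd (Finite.one_lt_card (α := τ.ker)).ne'
  haveI := Fact.mk hp
  obtain ⟨⟨z, hz⟩, hzo⟩ := exists_prime_orderOf_dvd_card' p hdvd
  have hzo' : orderOf z = p := by rw [← hzo, ← Subgroup.orderOf_coe]
  have hzp : z ^ p = 1 := hzo' ▸ pow_orderOf_eq_one z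
  have hcyc : ∀ (q e : ℕ) (c : ℕ), q.Prime → p = q → (∀ u : ↥(threeJ3 F ω),
      HasCode ω (u : GL F9 F) c → u ^ q = 1 ∧ u ≠ 1) → (∃ u : ↥(threeJ3 F ω),
      HasCode ω (u : GL F9 F) c) → q * e = 150698880 → ¬ q ∣ e → z = 1 := by
    rintro q e c hq rfl hu ⟨u, hu'⟩ he hne'
    obtain ⟨h1, h1'⟩ := hu u hu'
    refine Compute.eq_one_of_cyclic τ hs hc hz (hd hz) hzp (x := u) ?_
    have hcardz : Nat.card (Subgroup.zpowers u) = p := by
      rw [Nat.card_zpowers, orderOf_eq_prime h1 h1']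
    have h := (Subgroup.zpowers u).card_mul_index
    rw [hcardz, hcard, ← he] at h
    rw [Nat.eq_of_mul_eq_mul_left hq.pos h]
    exact hq.coprime_iff_not_dvd.mpr hne'
  have hz1 : z = 1 := by
    by_cases h19 : p = 19
    · refine hcyc 19 7931520 xC (by norm_num) h19 (fun u hu => ⟨?_, ?_⟩)
        ⟨⟨C.g1 0, hgrp.symm ▸ C.c1.gen_mem 0⟩, C.hg1 0⟩ (by norm_num) (by norm_num)
      · exact Subtype.ext (HasCode.ext (pow_hasCode h2 hω hu 19) (xPow_all ▸ hasCode_one))
      · rintro rfl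
        exact nineteen_ne ((dm_eq_iff hω h2 _ _).mp (hu.symm.trans hasCode_one))
    by_cases h17 : p = 17
    · obtain ⟨u₀, hu₀, hu₀'⟩ := C.certC_mem h2 hω certSeventeen
      refine hcyc 17 8864640 (certC certSeventeen) (by norm_num) h17 (fun u hu => ⟨?_, ?_⟩)
        ⟨⟨u₀, hgrp.symm ▸ hu₀⟩, hu₀'⟩ (by norm_num) (by norm_num)
      · exact Subtype.ext (HasCode.ext (pow_hasCode h2 hω hu 17)
          (seventeen_pow.1 ▸ hasCode_one))
      · rintro rfl
        exact seventeen_pow.2 ((dm_eq_iff hω h2 _ _).mp (hu.symm.trans hasCode_one))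
    by_cases h5 : p = 5
    · obtain ⟨u₀, hu₀, hu₀'⟩ := C.certC_mem h2 hω certFive
      refine hcyc 5 30139776 (certC certFive) (by norm_num) h5 (fun u hu => ⟨?_, ?_⟩)
        ⟨⟨u₀, hgrp.symm ▸ hu₀⟩, hu₀'⟩ (by norm_num) (by norm_num)
      · exact Subtype.ext (HasCode.ext (pow_hasCode h2 hω hu 5) (five_pow.1 ▸ hasCode_one))
      · rintro rfl
        exact five_pow.2 ((dm_eq_iff hω h2 _ _).mp (hu.symm.trans hasCode_one))
    by_cases h3 : p = 3
    · subst h3
      refine Compute.eq_one_of_kernel_prime τ hs hc hd ?_ hz hzp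
      intro Δ' _ _ τ' hs' hc' w hw hw' hwp hker
      exact eq_one_of_kill h2 hω τ' hs' hc' hw hw' hwp hker killThree pcCertThree pcFusCertThree
        pcElemThree pcSortThree pcRankThree 6 3 rfl pcThree_rules pcThree_fus killThree_owner
        killThree_eqs killThree_combo killThree_closed (by decide) (fun m => rfl) (by decide)
        pcThree_small pcThree_elem fun c hc => by
          change 729 * c = 150698880 at hc
          rw [show c = 206720 by omega]; norm_num
    by_cases h2' : p = 2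
    · subst h2'
      refine Compute.eq_one_of_kernel_prime τ hs hc hd ?_ hz hzp
      intro Δ' _ _ τ' hs' hc' w hw hw' hwp hker
      exact eq_one_of_kill h2 hω τ' hs' hc' hw hw' hwp hker killTwo pcCertTwo pcFusCertTwo
        pcElemTwo pcSortTwo pcRankTwo 7 2 rfl pcTwo_rules pcTwo_fus killTwo_owner
        killTwo_eqs killTwo_combo killTwo_closed (by decide) (fun m => rfl) (by decide)
        pcTwo_small pcTwo_elem fun c hc => by
          change 128 * c = 150698880 at hc
          rw [show c = 1177335 by omega]; norm_num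
    refine Compute.eq_one_of_cyclic τ hs hc hz (hd hz) hzp (x := 1) ?_
    rw [Subgroup.zpowers_one_eq_bot, Subgroup.index_bot, hcard]
    rw [hp.coprime_iff_not_dvd]
    intro hdv
    have hfac : (150698880 : ℕ) = 2 ^ 7 * (3 ^ 6 * (5 * (17 * 19))) := by norm_num
    rw [hfac] at hdv
    rcases hp.dvd_mul.mp hdv with h | h
    · exact h2' ((Nat.prime_dvd_prime_iff_eq hp Nat.prime_two).mp (hp.dvd_of_dvd_pow h))
    rcases hp.dvd_mul.mp h with h | h
    · exact h3 ((Nat.prime_dvd_prime_iff_eq hp Nat.prime_three).mp (hp.dvd_of_dvd_pow h))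
    rcases hp.dvd_mul.mp h with h | h
    · exact h5 ((Nat.prime_dvd_prime_iff_eq hp Nat.prime_five).mp h)
    rcases hp.dvd_mul.mp h with h | h
    · exact h17 ((Nat.prime_dvd_prime_iff_eq hp (by norm_num)).mp h)
    · exact h19 ((Nat.prime_dvd_prime_iff_eq hp (by norm_num)).mp h)
  rw [hz1, orderOf_one] at hzo'
  exact hp.ne_one hzo'.symm

/-- The triple cover is perfect. -/
theorem threeJ3_perfect (hF : Fintype.card F = 4) (hω : ω ^ 2 + ω + 1 = 0) :
    commutator ↥(threeJ3 F ω) = ⊤ := by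
  have h2 := two_eq_zero hF
  obtain ⟨hZc, -, hJ, hsimple, -⟩ := j3_main hF hω
  obtain ⟨C⟩ := exists_chain (ω := ω) h2 hω
  have hgrp := C.grp_eq h2 hω
  obtain ⟨z₀, hz₀, hz₀m, hz₀c⟩ := C.omega_unit h2 hω
  let z : ↥(threeJ3 F ω) := ⟨z₀, hgrp.symm ▸ hz₀m⟩
  have hz3 : orderOf z = 3 := by
    rw [← Subgroup.orderOf_coe z]
    exact Chain.omega_pow_eq h2 hω hz₀
  let Z := Subgroup.center ↥(threeJ3 F ω)
  have hZz : Z = Subgroup.zpowers z := by
    refine (Subgroup.eq_of_le_of_card_ge (Subgroup.zpowers_le.mpr ?_) ?_).symm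
    · exact Subgroup.mem_center_iff.mpr fun g =>
        Subtype.ext (Chain.scalar_commute hz₀ g).symm
    · rw [Nat.card_zpowers, hz3]
      exact hZc.le
  have hcomm : z ∈ commutator ↥(threeJ3 F ω) := by
    obtain ⟨a, ha, ha'⟩ := C.certC_mem h2 hω (nth genCerts (ix (1, 0)))
    obtain ⟨d, hd, hd'⟩ := C.certC_mem h2 hω (nth genCerts (18 + ix (1, 0)))
    rw [codeA_cert] at ha'
    rw [codeD_cert] at hd'
    let a' : ↥(threeJ3 F ω) := ⟨a, hgrp.symm ▸ ha⟩
    let d' : ↥(threeJ3 F ω) := ⟨d, hgrp.symm ▸ hd⟩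
    have e : a' * d' = z * (d' * a') := by
      refine Subtype.ext (HasCode.ext (HasCode.mul h2 hω ha' hd') ?_)
      rw [monomial_comm]
      exact HasCode.mul h2 hω hz₀c (HasCode.mul h2 hω hd' ha')
    have e2 : ⁅a', d'⁆ = z := by
      rw [commutatorElement_def, e]; group
    rw [← e2]
    exact Subgroup.commutator_mem_commutator (Subgroup.mem_top _) (Subgroup.mem_top _)
  let π : ↥(threeJ3 F ω) →* J3 F ω := QuotientGroup.mk' Z
  have hπ : Function.Surjective π := QuotientGroup.mk'_surjective Z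
  haveI : IsSimpleGroup (J3 F ω) := hsimple
  rcases (inferInstance : (commutator (J3 F ω)).Normal).eq_bot_or_eq_top with hb | ht
  · exfalso
    letI : CommGroup (J3 F ω) := { (inferInstance : Group (J3 F ω)) with
      mul_comm := fun a b => by
        rw [← commutatorElement_eq_one_iff_mul_comm, ← Subgroup.mem_bot, ← hb]
        exact Subgroup.commutator_mem_commutator (Subgroup.mem_top _) (Subgroup.mem_top _) }
    have hp : (Nat.card (J3 F ω)).Prime := IsSimpleGroup.prime_card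
    rw [hJ] at hp
    norm_num at hp
  · rw [eq_top_iff]
    intro g _
    have hm : π g ∈ (commutator ↥(threeJ3 F ω)).map π := by
      rw [commutator_def, Subgroup.map_commutator, Subgroup.map_top_of_surjective π hπ,
        ← commutator_def, ht]
      exact Subgroup.mem_top _
    obtain ⟨c, hc, e⟩ := hm
    have hd : c⁻¹ * g ∈ Z := (QuotientGroup.eq_one_iff _).mp
      (show π (c⁻¹ * g) = 1 by rw [map_mul, map_inv, e, inv_mul_cancel])
    have hd' : c⁻¹ * g ∈ commutator ↥(threeJ3 F ω) :=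
      (hZz ▸ Subgroup.zpowers_le.mpr hcomm : Z ≤ commutator ↥(threeJ3 F ω)) hd
    simpa using mul_mem hc hd'

end Cfsg.Agent.Lib.J3
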