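import Cfsg.Agent.Lib.J3.Local
import Cfsg.Agent.Lib.J3.OutTables
import Cfsg.Agent.Lib.Compute.OutBound

/-!
# The outer automorphism group of J₃
-/

set_option autoImplicit false
set_option maxRecDepth 100000

namespace Cfsg.Agent.Lib.J3

open Cfsg.Spor Cfsg.Agent.Lib.CosetEnum
open scoped commutatorElement

variable {F : Type*} [Field F] [Fintype F] {ω : F}

theorem dm_omC : dm ω omC = Matrix.scalar F9 ω := by
  rw [dm_eq_of omC_bits]
  ext w v
  rw [Matrix.of_apply, Matrix.scalar_apply, Matrix.diagonal_apply]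
  split <;> simp [el]

theorem mem_list_rec {i : ℕ} : ∀ {l : List ℕ},
    List.rec (motive := fun _ => Bool) false (fun a _ ih => Nat.beq a i || ih) l = true → i ∈ l
  | [], h => absurd h (by simp)
  | a :: l, h => by
    simp only [Bool.or_eq_true] at h
    rcases h with h | h
    · exact List.mem_cons.mpr (Or.inl (Nat.eq_of_beq_eq_true h).symm)
    · exact List.mem_cons_of_mem _ (mem_list_rec h)

/-- Powers projected to J₃ through the code. -/
theorem pow_eq_one_iff_scalar (h2 : (2 : F) = 0) (hω : ω ^ 2 + ω + 1 = 0)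
    {Z : Subgroup ↥(threeJ3 F ω)} {z : ↥(threeJ3 F ω)} (hZ : Z = Subgroup.zpowers z)
    (hz : HasCode ω (z : GL F9 F) omC) (hz3 : orderOf z = 3)
    {g : ↥(threeJ3 F ω)} {c : ℕ} (hg : HasCode ω (g : GL F9 F) c) :
    (g ∈ Z → isScal (Nat.land c m162) = true) ∧ (isScal c = true → g ∈ Z) := by
  classical
  have hz2 : HasCode ω ((z * z : ↥(threeJ3 F ω)) : GL F9 F) om2C := by
    have := hz.mul h2 hω hz
    rwa [om2C_eq] at this
  constructor
  · intro hm
    have hm' : ∃ k : ℕ, k < 3 ∧ g = z ^ k := by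
      rw [hZ, mem_zpowers_iff_mem_range_orderOf] at hm
      simp only [Finset.mem_image, Finset.mem_range, hz3] at hm
      obtain ⟨k, hk, e⟩ := hm
      exact ⟨k, hk, e.symm⟩
    obtain ⟨k, hk, e⟩ := hm'
    have hmask : Nat.land oneC m162 = oneC ∧ Nat.land omC m162 = omC ∧
        Nat.land om2C m162 = om2C := by decide +kernel
    rw [isScal, forceNat_eq]
    simp only [Bool.or_eq_true]
    have key : ∀ d, HasCode ω (g : GL F9 F) d → Nat.land c m162 = Nat.land d m162 := fun d hd =>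
      (dm_eq_iff hω h2 c d).mp (hg.symm.trans hd)
    interval_cases k
    · left
      rw [key oneC (by rw [e, pow_zero]; exact hasCode_one), hmask.1]
      exact Nat.beq_refl _
    · right; left
      rw [key omC (by rw [e, pow_one]; exact hz), hmask.2.1]
      exact Nat.beq_refl _
    · right; right
      rw [key om2C (by rw [e, sq]; exact hz2), hmask.2.2]
      exact Nat.beq_refl _
  · intro h
    rw [isScal, forceNat_eq] at h
    simp only [Bool.or_eq_true] at h
    rw [hZ]
    rcases h with h | h | h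
    · have : g = 1 := Subtype.ext ((Nat.eq_of_beq_eq_true h ▸ hg).ext hasCode_one)
      rw [this]; exact one_mem _
    · have : g = z := Subtype.ext ((Nat.eq_of_beq_eq_true h ▸ hg).ext hz)
      rw [this]; exact Subgroup.mem_zpowers z
    · have : g = z * z := Subtype.ext ((Nat.eq_of_beq_eq_true h ▸ hg).ext hz2)
      rw [this]; exact mul_mem (Subgroup.mem_zpowers z) (Subgroup.mem_zpowers z)

theorem mulC_masked (M N : ℕ) : Nat.land (mulC M N) m162 = mulC M N := by
  have h1 : xor9 (termHi M N) < 2 ^ 81 := by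
    have key : ∀ t < 9, termHi M N t < 2 ^ 81 := by
      intro t _
      have hS : ∀ s, Nat.land (Nat.shiftRight N s) every9 ≤ every9 := fun s => Nat.and_le_right
      have hM : ∀ o, Nat.land (Nat.shiftRight M o) 511 ≤ 511 := fun o => Nat.and_le_right
      have hp : ∀ a b, a ≤ every9 → b < 512 → Nat.mul a b < 2 ^ 81 := fun a b ha hb => by
        rw [Nat.mul_eq]
        calc a * b ≤ every9 * 511 := Nat.mul_le_mul ha (by omega)
          _ < 2 ^ 81 := by decide
      refine Nat.xor_lt_two_pow (hp _ _ (hS _) (by have := hM (81 + 9 * t); omega))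
        (hp _ _ (hS _) ?_)
      refine Nat.xor_lt_two_pow (n := 9) ?_ ?_
      · have := hM (9 * t); omega
      · have := hM (81 + 9 * t); omega
    unfold xor9
    exact Nat.xor_lt_two_pow (key 0 (by norm_num)) (Nat.xor_lt_two_pow (key 1 (by norm_num))
      (Nat.xor_lt_two_pow (key 2 (by norm_num)) (Nat.xor_lt_two_pow (key 3 (by norm_num))
      (Nat.xor_lt_two_pow (key 4 (by norm_num)) (Nat.xor_lt_two_pow (key 5 (by norm_num))
      (Nat.xor_lt_two_pow (key 6 (by norm_num)) (Nat.xor_lt_two_pow (key 7 (by norm_num))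
        (key 8 (by norm_num)))))))))
  apply Nat.eq_of_testBit_eq
  intro i
  change Nat.testBit (mulC M N &&& m162) i = _
  rw [Nat.testBit_and, m162, Nat.testBit_two_pow_sub_one]
  by_cases hi : i < 162
  · simp [hi]
  · obtain ⟨j, rfl⟩ : ∃ j, i = 81 + j := ⟨i - 81, by omega⟩
    rw [mulC_hi, Nat.testBit_lt_two_pow (lt_of_lt_of_le h1
      (Nat.pow_le_pow_right (by norm_num) (by omega)))]
    simp

omit [Fintype F] in
theorem dm_frob (h2 : (2 : F) = 0) (hω : ω ^ 2 + ω + 1 = 0) {M U : ℕ}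
    (hU : ∀ w z, bitsAt U w z = ((bitsAt M w z).1 ^^ (bitsAt M w z).2, (bitsAt M w z).2)) :
    (dm ω M).map (fun a => a ^ 2) = dm ω U := by
  rw [dm_eq_of hU]
  ext w z
  rw [Matrix.map_apply, Matrix.of_apply, dm_apply]
  unfold bitsAt
  cases Nat.testBit M (9 * ix z + ix w) <;>
    cases Nat.testBit M (81 + (9 * ix z + ix w)) <;> simp [el] <;> grind

set_option maxHeartbeats 500000 in
theorem card_out_J3 (hF : Fintype.card F = 4) (hω : ω ^ 2 + ω + 1 = 0) :
    Nat.card (Cfsg.Out (J3 F ω)) = 2 := by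
  classical
  have h2 := two_eq_zero hF
  obtain ⟨C⟩ := exists_chain (ω := ω) h2 hω
  obtain ⟨hZc, -, hJ, hS, -⟩ := j3_main hF hω
  obtain ⟨L, tG, htG, htL, u, hu, hconj, huinj⟩ := exists_localData_lifts hF hω
  haveI := hS
  haveI : Finite (J3 F ω) := Nat.finite_of_card_ne_zero (by rw [hJ]; norm_num)
  haveI : Fact (Nat.Prime 19) := ⟨by norm_num⟩
  have hgrp := C.grp_eq h2 hω
  let Z : Subgroup ↥(threeJ3 F ω) := Subgroup.center ↥(threeJ3 F ω)
  let π : ↥(threeJ3 F ω) →* J3 F ω := QuotientGroup.mk' Z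
  have hπ : Function.Surjective π := QuotientGroup.mk'_surjective Z
  have hker : ∀ g, π g = 1 ↔ g ∈ Z := fun g => QuotientGroup.eq_one_iff g
  -- the central element
  obtain ⟨z₀, hz₀, hz₀m, hz₀c⟩ := C.omega_unit h2 hω
  let z : ↥(threeJ3 F ω) := ⟨z₀, hgrp.symm ▸ hz₀m⟩
  have hz3 : orderOf z = 3 := by
    rw [← Subgroup.orderOf_coe z]
    exact Chain.omega_pow_eq h2 hω hz₀
  have hzZ : z ∈ Z := Subgroup.mem_center_iff.mpr fun g =>
    Subtype.ext (Chain.scalar_commute hz₀ g).symm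
  have hZz : Z = Subgroup.zpowers z := by
    refine (Subgroup.eq_of_le_of_card_ge (Subgroup.zpowers_le.mpr hzZ) ?_).symm
    rw [Nat.card_zpowers, hz3, hZc]
  have hlift : ∀ c, c = xC ∨ c = yC → ∃ g : ↥(threeJ3 F ω), HasCode ω (g : GL F9 F) c := by
    rintro c (rfl | rfl)
    · exact ⟨⟨C.g1 0, hgrp.symm ▸ C.c1.gen_mem 0⟩, C.hg1 0⟩
    · exact ⟨⟨C.g1 1, hgrp.symm ▸ C.c1.gen_mem 1⟩, C.hg1 1⟩
  obtain ⟨x, hx⟩ := hlift xC (Or.inl rfl)
  obtain ⟨y, hy⟩ := hlift yC (Or.inr rfl)
  have hgenG : ∀ H : Subgroup ↥(threeJ3 F ω), x ∈ H → y ∈ H → H = ⊤ := by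
    intro H hxH hyH
    refine eq_top_iff.mpr fun g _ => ?_
    have hg : (g : GL F9 F) ∈ H.map (threeJ3 F ω).subtype := by
      have hle : C.grp ≤ H.map (threeJ3 F ω).subtype := by
        rw [Chain.grp, Subgroup.closure_le]
        refine Set.range_subset_iff.mpr (Fin.forall_fin_two.mpr ⟨?_, ?_⟩)
        · exact ⟨x, hxH, hx.ext (C.hg1 0)⟩
        · exact ⟨y, hyH, hy.ext (C.hg1 1)⟩
      exact hle (hgrp ▸ g.2)
    obtain ⟨g', hg', e⟩ := hg
    rwa [← (threeJ3 F ω).subtype_injective e]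
  have hcert : ∀ e, ∃ g : ↥(threeJ3 F ω), HasCode ω (g : GL F9 F) (certC e) := by
    intro e
    obtain ⟨g, hg, hg'⟩ := C.certC_mem h2 hω e
    exact ⟨⟨g, hgrp.symm ▸ hg⟩, hg'⟩
  have hxpow : ∀ k ≤ 18, HasCode ω ((x ^ k : ↥(threeJ3 F ω)) : GL F9 F) (powX k) := by
    intro k
    induction k with
    | zero => intro _; rw [pow_zero, powX_step.1]; exact hasCode_one
    | succ k ih =>
      intro hk
      rw [pow_succ', ← powX_step.2 k (by omega)]
      exact hx.mul h2 hω (ih (by omega))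
  have hx19 : x ^ 19 = 1 := Subtype.ext (HasCode.ext (pow_hasCode h2 hω hx 19)
    (xPow_all ▸ hasCode_one))
  have hgen : Subgroup.closure {π x, L.t} = ⊤ := by
    have hy' : π y ∈ Subgroup.closure {π x, L.t} := by
      have key : ∀ w : List ℕ, (∀ a ∈ w, a < 19) → ∃ g : ↥(threeJ3 F ω),
          HasCode ω (g : GL F9 F) (wordC (fun i => mulC (powX i) invC) w) ∧
            π g ∈ Subgroup.closure {π x, L.t} := by
        intro w
        induction w with
        | nil => exact fun _ => ⟨1, hasCode_one, by rw [map_one]; exact one_mem _⟩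
        | cons a w ih =>
          intro hw
          obtain ⟨g, hg, hg'⟩ := ih fun b hb => hw b (List.mem_cons_of_mem _ hb)
          refine ⟨x ^ a * tG * g,
            ((hxpow a (by have := hw a List.mem_cons_self; omega)).mul h2 hω htG).mul h2 hω hg, ?_⟩
          rw [map_mul, map_mul, map_pow]
          refine mul_mem (mul_mem (pow_mem (Subgroup.subset_closure (by simp)) a)
            (Subgroup.subset_closure ?_)) hg'
          simp [π, Z, ← htL]
      obtain ⟨g, hg, hg'⟩ := key wordYInT (by decide)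
      rw [y_in_t] at hg
      rwa [show y = g from Subtype.ext (hy.ext hg)]
    rw [eq_top_iff]
    intro q _
    obtain ⟨g, rfl⟩ := hπ q
    have : (Subgroup.closure {π x, L.t}).comap π = ⊤ :=
      hgenG _ (Subgroup.subset_closure (by simp)) hy'
    exact (this.symm ▸ Subgroup.mem_top g : g ∈ (Subgroup.closure {π x, L.t}).comap π)
  -- the field automorphism
  let f : F →+* F :=
    { toFun := fun a => a ^ 2
      map_one' := one_pow 2
      map_mul' := fun a b => mul_pow a b 2
      map_zero' := zero_pow two_ne_zero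
      map_add' := fun a b => by linear_combination a * b * h2 }
  obtain ⟨R, hR⟩ := unit_of_inv (F := F) h2 hω frob_cert.2.2
  have hRR : R⁻¹ = R := inv_eq_of_mul_eq_one_right
    (HasCode.ext (hR.mul h2 hω hR) (frob_cert.2.2 ▸ hasCode_one))
  let β : GL F9 F →* GL F9 F :=
    (MulAut.conj R).toMonoidHom.comp (Units.map f.mapMatrix.toMonoidHom)
  have hβ : ∀ g : GL F9 F, (β g : Matrix F9 F9 F) =
      dm ω flipC * (g : Matrix F9 F9 F).map (fun a => a ^ 2) * dm ω flipC := by
    intro g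
    change ((R * Units.map f.mapMatrix.toMonoidHom g * R⁻¹ : GL F9 F) : Matrix F9 F9 F) = _
    rw [hRR, Units.val_mul, Units.val_mul, hR]
    rfl
  obtain ⟨x', hx'⟩ := hcert frobCertX
  obtain ⟨y', hy'⟩ := hcert frobCertY
  have hβx : β (x : GL F9 F) = x' := by
    refine Units.ext ?_
    rw [hβ, hx, dm_frob h2 hω frobX_bits, ← dm_mulC ω h2 hω, ← dm_mulC ω h2 hω, frob_cert.1, hx']
  have hβy : β (y : GL F9 F) = y' := by
    refine Units.ext ?_
    rw [hβ, hy, dm_frob h2 hω frobY_bits, ← dm_mulC ω h2 hω, ← dm_mulC ω h2 hω, frob_cert.2.1, hy']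
  have hβG : ∀ g : ↥(threeJ3 F ω), β g ∈ threeJ3 F ω := by
    intro g
    have : ((threeJ3 F ω).comap β).subgroupOf (threeJ3 F ω) = ⊤ := by
      refine hgenG _ ?_ ?_
      · exact Subgroup.mem_subgroupOf.mpr (Subgroup.mem_comap.mpr (hβx ▸ x'.2))
      · exact Subgroup.mem_subgroupOf.mpr (Subgroup.mem_comap.mpr (hβy ▸ y'.2))
    exact Subgroup.mem_comap.mp (Subgroup.mem_subgroupOf.mp
      (this.symm ▸ Subgroup.mem_top g : g ∈ ((threeJ3 F ω).comap β).subgroupOf (threeJ3 F ω)))
  let βG : ↥(threeJ3 F ω) →* ↥(threeJ3 F ω) := (β.comp (threeJ3 F ω).subtype).codRestrict (threeJ3 F ω) hβG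
  have hβinj : Function.Injective βG := by
    intro g g' e
    have e' : β g = β g' := congrArg Subtype.val e
    refine Subtype.ext ?_
    have hcancel := (MulAut.conj R).injective e'
    refine Units.ext (Matrix.ext fun i j => ?_)
    have := congrArg (fun v : GL F9 F => (v : Matrix F9 F9 F) i j) hcancel
    exact f.injective this
  let B : ↥(threeJ3 F ω) ≃* ↥(threeJ3 F ω) := MulEquiv.ofBijective βG ⟨hβinj, Finite.injective_iff_surjective.mp hβinj⟩
  have hBZ : Z.map B.toMonoidHom = Z := by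
    ext g
    constructor
    · rintro ⟨c, hc, rfl⟩
      refine Subgroup.mem_center_iff.mpr fun q => ?_
      obtain ⟨q', rfl⟩ := B.surjective q
      change B q' * B c = B c * B q'
      rw [← map_mul, ← map_mul, Subgroup.mem_center_iff.mp hc q']
    · intro hg
      refine ⟨B.symm g, Subgroup.mem_center_iff.mpr fun q => B.injective ?_, B.apply_symm_apply g⟩
      rw [map_mul, map_mul, B.apply_symm_apply]
      exact Subgroup.mem_center_iff.mp hg (B q)
  let α : MulAut (J3 F ω) := QuotientGroup.congr Z Z B hBZ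
  have hαπ : ∀ g, α (π g) = π (B g) := fun g => rfl
  have hBx : B x = x' := Subtype.ext hβx
  have hBz : B z = z * z := by
    refine Subtype.ext (Units.ext ?_)
    change (β z₀ : Matrix F9 F9 F) = ((z₀ * z₀ : GL F9 F) : Matrix F9 F9 F)
    rw [hβ, hz₀, Units.val_mul, hz₀, ← map_mul]
    have hmap : (Matrix.scalar F9 ω).map (fun a => a ^ 2) = Matrix.scalar F9 (ω * ω) := by
      ext i j
      simp only [Matrix.map_apply, Matrix.scalar_apply, Matrix.diagonal_apply]
      split <;> simp [sq]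
    rw [hmap, ← (Matrix.scalar_commute (ω * ω) (fun r => Commute.all _ r) (dm ω flipC)).eq,
      mul_assoc, ← dm_mulC ω h2 hω, frob_cert.2.2, dm_one, mul_one]
  -- perfection
  have hperf : commutator ↥(threeJ3 F ω) = ⊤ := by
    have hcomm : z ∈ commutator ↥(threeJ3 F ω) := by
      have hA : ∀ M : Matrix F9 F9 F, M ∈ j3Gens F ω → ∀ g : GL F9 F,
          (g : Matrix F9 F9 F) = M → g ∈ threeJ3 F ω := fun M hM g hg =>
        Subgroup.subset_closure (show (g : Matrix F9 F9 F) ∈ j3Gens F ω from hg ▸ hM)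
      obtain ⟨a, ha, ha'⟩ := C.certC_mem h2 hω (nth genCerts (ix (1, 0)))
      obtain ⟨d, hd, hd'⟩ := C.certC_mem h2 hω (nth genCerts (18 + ix (1, 0)))
      rw [codeA_cert] at ha'
      rw [codeD_cert] at hd'
      let a' : ↥(threeJ3 F ω) := ⟨a, hgrp.symm ▸ ha⟩
      let d' : ↥(threeJ3 F ω) := ⟨d, hgrp.symm ▸ hd⟩
      have e : a' * d' = z * (d' * a') := by
        refine Subtype.ext (HasCode.ext (HasCode.mul h2 hω ha' hd') ?_)
        rw [monomial_comm]
        exact HasCode.mul h2 hω hz₀c (HasCode.mul h2 hω hd' ha')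
      have e2 : ⁅a', d'⁆ = z := by
        rw [commutatorElement_def, e]; group
      rw [← e2]
      exact Subgroup.commutator_mem_commutator (Subgroup.mem_top _) (Subgroup.mem_top _)
    rcases (inferInstance : (commutator (J3 F ω)).Normal).eq_bot_or_eq_top with hb | ht
    · exfalso
      obtain ⟨a, ha, b, hb', hne⟩ := extMul_noncomm
      have e : L.Q.el ⟨a, ha⟩ * L.Q.el ⟨b, hb'⟩ = L.Q.el ⟨b, hb'⟩ * L.Q.el ⟨a, ha⟩ := by
        rw [← commutatorElement_eq_one_iff_mul_comm, ← Subgroup.mem_bot, ← hb]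
        exact Subgroup.commutator_mem_commutator (Subgroup.mem_top _) (Subgroup.mem_top _)
      rw [L.Q.el_mul, L.Q.el_mul] at e
      exact hne (congrArg Fin.val (L.Q.el_inj e))
    · rw [eq_top_iff]
      intro g _
      have hm : π g ∈ (commutator ↥(threeJ3 F ω)).map π := by
        rw [commutator_def, Subgroup.map_commutator, Subgroup.map_top_of_surjective π hπ,
          ← commutator_def, ht]
        exact Subgroup.mem_top _
      obtain ⟨c, hc, e⟩ := hm
      have hd : c⁻¹ * g ∈ Z := (hker _).mp (by rw [map_mul, map_inv, e, inv_mul_cancel])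
      have hd' : c⁻¹ * g ∈ commutator ↥(threeJ3 F ω) :=
        (hZz ▸ Subgroup.zpowers_le.mpr hcomm : Z ≤ commutator ↥(threeJ3 F ω)) hd
      simpa using mul_mem hc hd'
  have houter : α ∉ Cfsg.Inn (J3 F ω) := by
    rintro ⟨q, hq⟩
    obtain ⟨g, rfl⟩ := hπ q
    let δ : ↥(threeJ3 F ω) → ↥(threeJ3 F ω) := fun w => (g * w * g⁻¹)⁻¹ * B w
    have hδ : ∀ w, δ w ∈ Z := by
      intro w
      refine (hker _).mp ?_
      have e : α (π w) = π g * π w * (π g)⁻¹ := by rw [← hq]; rfl
      rw [hαπ] at e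
      simp only [δ, map_mul, map_inv, e, inv_mul_cancel]
    let δh : ↥(threeJ3 F ω) →* Z := MonoidHom.mk' (fun w => ⟨δ w, hδ w⟩) fun a b => Subtype.ext (by
      have hca : (g * b * g⁻¹)⁻¹ * δ a = δ a * (g * b * g⁻¹)⁻¹ :=
        Subgroup.mem_center_iff.mp (hδ a) _
      change δ (a * b) = δ a * δ b
      calc δ (a * b) = (g * b * g⁻¹)⁻¹ * δ a * B b := by
            simp only [δ, map_mul]; group
        _ = δ a * ((g * b * g⁻¹)⁻¹ * B b) := by rw [hca, mul_assoc]
        _ = δ a * δ b := rfl)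
    have hδtriv : δh.ker = ⊤ := by
      rw [eq_top_iff, ← hperf, commutator_def, Subgroup.commutator_le]
      intro a _ b _
      rw [MonoidHom.mem_ker, map_commutatorElement, commutatorElement_eq_one_iff_mul_comm]
      exact Subtype.ext (Subgroup.mem_center_iff.mp (δh b).2 _)
    have hzδ : δ z = 1 := by
      have hm : z ∈ δh.ker := by rw [hδtriv]; exact Subgroup.mem_top z
      have hm1 : δh z = 1 := MonoidHom.mem_ker.mp hm
      exact congrArg Subtype.val hm1
    have hz1 : z * z = z := by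
      have e : (g * z * g⁻¹)⁻¹ * B z = 1 := hzδ
      rw [Subgroup.mem_center_iff.mp hzZ g, mul_inv_cancel_right, hBz, inv_mul_cancel_left] at e
      rw [e, one_mul]
    have : z = 1 := mul_left_cancel (a := z) (by rw [hz1, mul_one])
    rw [this, orderOf_one] at hz3
    norm_num at hz3
  refine Compute.card_out_eq_two ?_ α houter
  -- at most two classes
  let A : Fin 2 → J3 F ω := ![π x, α (π x)]
  let B' : Fin 2 → J3 F ω := ![L.t, α L.t]
  refine Compute.card_out_le hgen A B' fun φ => ?_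
  have hall : ∀ v : J3 F ω, orderOf v = 2 → ∃ i, π (u i) = v := by
    intro v hv
    have hsub : Set.range (fun i => π (u i)) ⊆ {w : J3 F ω | IsConj L.t w} := by
      rintro _ ⟨i, rfl⟩; exact hconj i
    have hup : {w : J3 F ω | IsConj L.t w}.ncard ≤ 26163 := by
      have horb : {w : J3 F ω | IsConj L.t w} = MulAction.orbit (ConjAct (J3 F ω)) L.t := by
        ext w
        rw [Set.mem_ofPred_eq, ConjAct.mem_orbit_conjAct, isConj_comm]
      have hmul := MulAction.index_stabilizer (G := ConjAct (J3 F ω)) L.t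
      have h1 := (MulAction.stabilizer (ConjAct (J3 F ω)) L.t).index_mul_card
      rw [hmul, ← horb, (Subgroup.nat_card_centralizer_nat_card_stabilizer L.t).symm,
        show Nat.card (ConjAct (J3 F ω)) = Nat.card (J3 F ω) from rfl, L.card_eq] at h1
      have := L.card_cent
      rw [LocalData.cent] at this
      rw [this] at h1
      omega
    have heq := Set.eq_of_subset_of_ncard_le hsub
      (by rw [Set.ncard_range_of_injective huinj, Nat.card_fin]; exact hup) (Set.toFinite _)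
    exact (heq.symm ▸ L.conj_of_involution hv : v ∈ Set.range (fun i => π (u i)))
  have hxord : orderOf (π x) = 19 := by
    refine orderOf_eq_prime (by rw [← map_pow, hx19, map_one]) fun e => ?_
    have hxz := (hker x).mp e
    have h1 : x = 1 := by
      have hd3 : orderOf x ∣ 3 := by
        have := orderOf_dvd_natCard (⟨x, hxz⟩ : Z)
        rw [Subgroup.orderOf_mk, hZc] at this
        exact this
      have hd19 : orderOf x ∣ 19 := orderOf_dvd_of_pow_eq_one hx19
      exact orderOf_eq_one_iff.mp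
        (Nat.eq_one_of_dvd_coprimes (by norm_num : Nat.Coprime 3 19) hd3 hd19)
    have hne : Nat.land xC m162 ≠ Nat.land oneC m162 := by decide +kernel
    rw [h1] at hx
    exact hne ((dm_eq_iff hω h2 _ _).mp (hx.symm.trans hasCode_one))
  -- Sylow subgroups of order nineteen
  obtain ⟨g₁, k, hk, hgk⟩ : ∃ (g₁ : J3 F ω) (k : ℕ), k < 18 ∧
      g₁ * φ (π x) * g₁⁻¹ = π x ^ (k + 1) := by
    have hfac : (Nat.card (J3 F ω)).factorization 19 = 1 := by
      rw [hJ, show (50232960 : ℕ) = 19 ^ 1 * 2643840 by norm_num,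
        Nat.factorization_mul (by norm_num) (by norm_num), Finsupp.add_apply,
        Nat.factorization_eq_zero_of_not_dvd (show ¬ 19 ∣ 2643840 by norm_num),
        Nat.Prime.factorization_pow (by norm_num), Finsupp.single_eq_same, add_zero]
    let P₁ : Sylow 19 (J3 F ω) := Sylow.ofCard (Subgroup.zpowers (π x))
      (by rw [Nat.card_zpowers, hxord, hfac, pow_one])
    let P₂ : Sylow 19 (J3 F ω) := Sylow.ofCard (Subgroup.zpowers (φ (π x)))
      (by rw [Nat.card_zpowers, MulEquiv.orderOf_eq, hxord, hfac, pow_one])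
    obtain ⟨g₁, hg₁⟩ := MulAction.exists_smul_eq (J3 F ω) P₂ P₁
    have hm : g₁ * φ (π x) * g₁⁻¹ ∈ (P₁ : Subgroup (J3 F ω)) := by
      rw [← hg₁, Sylow.coe_subgroup_smul]
      exact ⟨φ (π x), Subgroup.mem_zpowers _, rfl⟩
    have hm' : g₁ * φ (π x) * g₁⁻¹ ∈ Subgroup.zpowers (π x) := hm
    rw [mem_zpowers_iff_mem_range_orderOf, hxord] at hm'
    simp only [Finset.mem_image, Finset.mem_range] at hm'
    obtain ⟨k, hk, e⟩ := hm'
    rcases Nat.eq_zero_or_pos k with rfl | hk0
    · exfalso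
      rw [pow_zero] at e
      have : orderOf (g₁ * φ (π x) * g₁⁻¹) = 19 := by
        rw [show g₁ * φ (π x) * g₁⁻¹ = MulAut.conj g₁ (φ (π x)) from rfl, MulEquiv.orderOf_eq,
          MulEquiv.orderOf_eq, hxord]
      rw [← e, orderOf_one] at this
      norm_num at this
    · exact ⟨g₁, k - 1, by omega, by rw [Nat.sub_add_cancel hk0, e]⟩
  -- normalise the first generator
  obtain ⟨g₂, i, hg₂⟩ : ∃ (g₂ : J3 F ω) (i : Fin 2), g₂ * φ (π x) * g₂⁻¹ = A i := by
    obtain ⟨w, hw⟩ := hcert (nth powCert k)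
    have hpk := hxpow (k + 1) (by omega)
    rcases pow_conj_ok k hk with ⟨-, e⟩ | ⟨-, e⟩
    · have ew : w * x ^ (k + 1) = x * w := by
        refine Subtype.ext (HasCode.ext (hw.mul h2 hω hpk) ?_)
        rw [e]
        exact hx.mul h2 hω hw
      refine ⟨π w * g₁, 0, ?_⟩
      rw [show π w * g₁ * φ (π x) * (π w * g₁)⁻¹ =
        π w * (g₁ * φ (π x) * g₁⁻¹) * (π w)⁻¹ by group, hgk, ← map_pow, ← map_mul, ew, map_mul,
        mul_inv_cancel_right]
      rfl
    · have ew : w * x ^ (k + 1) = x' * w := by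
        refine Subtype.ext (HasCode.ext (hw.mul h2 hω hpk) ?_)
        rw [e]
        exact hx'.mul h2 hω hw
      refine ⟨π w * g₁, 1, ?_⟩
      rw [show π w * g₁ * φ (π x) * (π w * g₁)⁻¹ =
        π w * (g₁ * φ (π x) * g₁⁻¹) * (π w)⁻¹ by group, hgk, ← map_pow, ← map_mul, ew, map_mul,
        mul_inv_cancel_right]
      show π x' = α (π x)
      rw [hαπ, hBx]
  -- automorphisms fixing the first generator
  have hfix : ∀ ψ : MulAut (J3 F ω), ψ (π x) = π x →
      ∃ g, g * π x * g⁻¹ = π x ∧ g * ψ L.t * g⁻¹ = L.t := by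
    intro ψ hψ
    obtain ⟨j, hj⟩ := hall (ψ L.t) (by rw [MulEquiv.orderOf_eq]; exact L.orderOf_t)
    have tests : ∀ n a, a ≤ 18 → (π x ^ a * L.t) ^ n = 1 → ((x ^ a * u j) ^ n : ↥(threeJ3 F ω)) ∈ Z := by
      intro n a _ h
      refine (hker _).mp ?_
      rw [map_pow, map_mul, map_pow, hj]
      have := congrArg ψ h
      rwa [map_pow, map_mul, map_pow, hψ, map_one] at this
    have hbase : ∀ n a, a ≤ 18 → (x ^ a * tG) ^ n ∈ Z → (π x ^ a * L.t) ^ n = 1 := by
      intro n a _ h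
      rw [show L.t = π tG from htL.symm, ← map_pow, ← map_mul, ← map_pow]
      exact (hker _).mpr h
    have hscal : ∀ {g : ↥(threeJ3 F ω)} {c : ℕ}, HasCode ω (g : GL F9 F) c →
        (g ∈ Z → isScal (Nat.land c m162) = true) ∧ (isScal c = true → g ∈ Z) := fun hg =>
      pow_eq_one_iff_scalar h2 hω hZz hz₀c hz3 hg
    have hmcode : ∀ {g : ↥(threeJ3 F ω)} {c : ℕ}, HasCode ω (g : GL F9 F) c → ∀ a ≤ 18,
        HasCode ω ((x ^ a * g : ↥(threeJ3 F ω)) : GL F9 F) (mulC (powX a) c) := fun hg a ha =>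
      (hxpow a ha).mul h2 hω hg
    have hsq : ∀ {g : ↥(threeJ3 F ω)} {c : ℕ}, HasCode ω (g : GL F9 F) c →
        HasCode ω ((g ^ 2 : ↥(threeJ3 F ω)) : GL F9 F) (sqC c) := fun hg => by
      rw [sq, sqC, forceNat_eq]; exact hg.mul h2 hω hg
    have h8 : ∀ {g : ↥(threeJ3 F ω)} {c : ℕ}, HasCode ω (g : GL F9 F) c →
        HasCode ω ((g ^ 8 : ↥(threeJ3 F ω)) : GL F9 F) (sqC (sqC (sqC c))) := fun {g} {c} hg => by
      rw [show (8 : ℕ) = 2 * 2 * 2 from rfl, pow_mul, pow_mul]; exact hsq (hsq (hsq hg))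
    have h17 : ∀ {g : ↥(threeJ3 F ω)} {c : ℕ}, HasCode ω (g : GL F9 F) c → HasCode ω ((g ^ 17 : ↥(threeJ3 F ω)) : GL F9 F)
        (mulC (sqC (sqC (sqC (sqC c)))) c) := fun {g} {c} hg => by
      rw [show (17 : ℕ) = 2 * 2 * 2 * 2 + 1 from rfl, pow_succ, pow_mul, pow_mul, pow_mul]
      exact (hsq (hsq (hsq (hsq hg)))).mul h2 hω hg
    have h19 : ∀ {g : ↥(threeJ3 F ω)} {c : ℕ}, HasCode ω (g : GL F9 F) c → HasCode ω ((g ^ 19 : ↥(threeJ3 F ω)) : GL F9 F)
        (mulC (mulC (sqC (sqC (sqC (sqC c)))) (sqC c)) c) := fun {g} {c} hg => by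
      rw [show (19 : ℕ) = 2 * 2 * 2 * 2 + 2 + 1 from rfl, pow_succ, pow_add, pow_mul, pow_mul,
        pow_mul]
      exact ((hsq (hsq (hsq (hsq hg)))).mul h2 hω (hsq hg)).mul h2 hω hg
    have hb := sig_base
    simp only [sigOK, test8, test17, test19, forceNat_eq, Bool.and_eq_true] at hb
    obtain ⟨b1, b2, b3, b4⟩ := hb
    have sqm : ∀ c, sqC c = mulC c c := fun c => forceNat_eq c _
    have s1 := (hscal (h19 (hmcode (hu j) 1 (by norm_num)))).1
      (tests 19 1 (by norm_num) (hbase 19 1 (by norm_num)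
        ((hscal (h19 (hmcode htG 1 (by norm_num)))).2 b1)))
    have s2 := (hscal (h8 (hmcode (hu j) 2 (by norm_num)))).1
      (tests 8 2 (by norm_num) (hbase 8 2 (by norm_num)
        ((hscal (h8 (hmcode htG 2 (by norm_num)))).2 b2)))
    have s3 := (hscal (h17 (hmcode (hu j) 3 (by norm_num)))).1
      (tests 17 3 (by norm_num) (hbase 17 3 (by norm_num)
        ((hscal (h17 (hmcode htG 3 (by norm_num)))).2 b3)))
    have s4 := (hscal (h17 (hmcode (hu j) 4 (by norm_num)))).1
      (tests 17 4 (by norm_num) (hbase 17 4 (by norm_num)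
        ((hscal (h17 (hmcode htG 4 (by norm_num)))).2 b4)))
    rw [mulC_masked] at s1 s3 s4
    rw [sqm, mulC_masked, ← sqm] at s2
    have hmemb : ((j : ℕ)) ∈ fixIdx := by
      have h := out_spec j j.2
      have hsig : sigOK (classRep.get 162 j) = true := by
        simp only [sigOK, test8, test17, test19, forceNat_eq, Bool.and_eq_true]
        exact ⟨s1, s2, s3, s4⟩
      rw [outOK, hsig] at h
      exact mem_list_rec h
    obtain ⟨r, hr, hrj⟩ := List.getElem_of_mem hmemb
    rw [fixIdx_length] at hr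
    obtain ⟨hp, -, he⟩ := fix_ok r hr
    have hn : nth fixIdx r = j := by
      rw [nth_eq, List.getD_eq_getElem _ _ (by rw [fixIdx_length]; exact hr), hrj]
    rw [hn] at he
    have hp' : nth fixPow r ≤ 18 := by omega
    have e : u j * x ^ nth fixPow r = x ^ nth fixPow r * tG := by
      refine Subtype.ext (HasCode.ext ((hu j).mul h2 hω (hxpow _ hp')) ?_)
      rw [he]
      exact (hxpow _ hp').mul h2 hω htG
    refine ⟨(π x ^ nth fixPow r)⁻¹, ?_, ?_⟩
    · rw [inv_inv]; group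
    · rw [inv_inv, ← hj, mul_assoc, ← map_pow, ← map_mul, e, map_mul, htL.symm,
        inv_mul_cancel_left]
  fin_cases i
  · obtain ⟨g, hg, hgt⟩ := hfix ((MulAut.conj g₂) * φ) (by
      show g₂ * φ (π x) * g₂⁻¹ = π x
      exact hg₂)
    have hg₂' : g₂ * φ (π x) * g₂⁻¹ = π x := hg₂
    refine ⟨g * g₂, 0, ?_, ?_⟩
    · rw [show g * g₂ * φ (π x) * (g * g₂)⁻¹ = g * (g₂ * φ (π x) * g₂⁻¹) * g⁻¹ by group, hg₂']
      exact hg
    · rw [show g * g₂ * φ L.t * (g * g₂)⁻¹ = g * (g₂ * φ L.t * g₂⁻¹) * g⁻¹ by group]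
      exact hgt
  · have hg₂' : g₂ * φ (π x) * g₂⁻¹ = α (π x) := hg₂
    obtain ⟨g, hg, hgt⟩ := hfix (α⁻¹ * (MulAut.conj g₂) * φ) (by
      show α.symm (g₂ * φ (π x) * g₂⁻¹) = π x
      rw [hg₂', MulEquiv.symm_apply_apply])
    refine ⟨α g * g₂, 1, ?_, ?_⟩
    · rw [show α g * g₂ * φ (π x) * (α g * g₂)⁻¹ =
        α g * (g₂ * φ (π x) * g₂⁻¹) * (α g)⁻¹ by group, hg₂', ← map_mul, ← map_inv, ← map_mul, hg]
      rfl
    · have e : α g * α (α.symm (g₂ * φ L.t * g₂⁻¹)) * (α g)⁻¹ = α L.t := by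
        rw [← map_mul, ← map_inv, ← map_mul]
        exact congrArg α hgt
      rw [MulEquiv.apply_symm_apply] at e
      rw [show α g * g₂ * φ L.t * (α g * g₂)⁻¹ =
        α g * (g₂ * φ L.t * g₂⁻¹) * (α g)⁻¹ by group, e]
      rfl

end Cfsg.Agent.Lib.J3
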