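import Cfsg.Agent.Lib.J3.Sound
import Cfsg.Agent.Lib.J3.CheckLevels
import Cfsg.Agent.Lib.J3.CheckMisc

/-!
# The triple cover of J₃ with its chain of three coset certificates
-/

set_option autoImplicit false

namespace Cfsg.Agent.Lib.J3

open Cfsg.Spor Cfsg.Agent.Lib.CosetEnum

variable {F : Type*} [Field F] {ω : F}

theorem wordC_cons (g : ℕ → ℕ) (a : ℕ) (w : List ℕ) :
    wordC g (a :: w) = mulC (g a) (wordC g w) := rfl

theorem word_exists (h2 : (2 : F) = 0) (hω : ω ^ 2 + ω + 1 = 0) (H : Subgroup (GL F9 F))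
    (g : ℕ → ℕ) : ∀ w : List ℕ, (∀ a ∈ w, ∃ u ∈ H, HasCode ω u (g a)) →
      ∃ u ∈ H, HasCode ω u (wordC g w)
  | [], _ => ⟨1, one_mem H, hasCode_one⟩
  | a :: w, h => by
    obtain ⟨u, hu, hu'⟩ := h a List.mem_cons_self
    obtain ⟨v, hv, hv'⟩ := word_exists h2 hω H g w fun b hb => h b (List.mem_cons_of_mem a hb)
    exact ⟨u * v, H.mul_mem hu hv, wordC_cons g a w ▸ hu'.mul h2 hω hv'⟩

theorem pow_hasCode (h2 : (2 : F) = 0) (hω : ω ^ 2 + ω + 1 = 0) {u : GL F9 F} {c : ℕ}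
    (hu : HasCode ω u c) : ∀ n : ℕ, HasCode ω (u ^ n) (wordC (fun _ => c) (List.replicate n 0))
  | 0 => hasCode_one
  | n + 1 => by
    rw [List.replicate_succ, wordC_cons, pow_succ']
    exact hu.mul h2 hω (pow_hasCode h2 hω hu n)

theorem unit_of_inv (h2 : (2 : F) = 0) (hω : ω ^ 2 + ω + 1 = 0) {c d : ℕ}
    (h : mulC c d = oneC) : ∃ u : GL F9 F, HasCode ω u c := by
  have h1 : dm ω c * dm ω d = 1 := by rw [← dm_mulC ω h2 hω, h, dm_one]
  exact ⟨⟨dm ω c, dm ω d, h1, mul_eq_one_comm.mp h1⟩, rfl⟩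

theorem gen2_mem {g : Fin 2 → GL F9 F} {T : Tbl}
    (hg : ∀ s : Fin 2, HasCode ω (g s) (T.gen s)) {a : ℕ} (ha : a < 2) :
    ∃ u ∈ Subgroup.closure (Set.range g), HasCode ω u (T.gen a) :=
  ⟨g ⟨a, ha⟩, Subgroup.subset_closure ⟨_, rfl⟩, hg ⟨a, ha⟩⟩

/-- Invariance of the column space of `Q`. -/
theorem stab_closure [Finite F] {g : Fin 2 → GL F9 F} (Q : Matrix F9 F9 F)
    (h : ∀ s, ∃ X, (g s : Matrix F9 F9 F) * Q = Q * X) {u : GL F9 F}
    (hu : u ∈ Subgroup.closure (Set.range g)) : ∃ X, (u : Matrix F9 F9 F) * Q = Q * X := by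
  rw [← Subgroup.mem_toSubmonoid, Subgroup.closure_toSubmonoid_of_finite] at hu
  induction hu using Submonoid.closure_induction with
  | mem u hu => obtain ⟨s, rfl⟩ := hu; exact h s
  | one => exact ⟨1, by simp⟩
  | mul u v _ _ ihu ihv =>
    obtain ⟨X, hX⟩ := ihu
    obtain ⟨Y, hY⟩ := ihv
    exact ⟨X * Y, by rw [Units.val_mul, mul_assoc, hY, ← mul_assoc, hX, mul_assoc]⟩

theorem nzC_spec {M : ℕ} (h : nzC M = true) : Nat.land M m162 ≠ Nat.land 0 m162 := by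
  intro e
  rw [nzC, e] at h
  exact Bool.noConfusion h

theorem dm_ne_zero (h2 : (2 : F) = 0) (hω : ω ^ 2 + ω + 1 = 0) {M : ℕ} (h : nzC M = true) :
    dm ω M ≠ 0 := fun e => nzC_spec h ((dm_eq_iff hω h2 M 0).mp (by rw [e, dm_zero]))

/-- All data of the certificate chain. -/
structure Chain (F : Type*) [Field F] (ω : F) where
  g1 : Fin 2 → GL F9 F
  g2 : Fin 2 → GL F9 F
  g3 : Fin 2 → GL F9 F
  r1 : Fin 6156 → GL F9 F
  r2 : Fin 85 → GL F9 F
  r3 : Fin 288 → GL F9 F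
  hg1 : ∀ s : Fin 2, HasCode ω (g1 s) (tblOne.gen s)
  hg2 : ∀ s : Fin 2, HasCode ω (g2 s) (tblTwo.gen s)
  hg3 : ∀ s : Fin 2, HasCode ω (g3 s) (tblThree.gen s)
  hr1 : ∀ i, HasCode ω (r1 i) (tblOne.rep i)
  hr2 : ∀ i, HasCode ω (r2 i) (tblTwo.rep i)
  hr3 : ∀ i, HasCode ω (r3 i) (tblThree.rep i)
  c1 : CosetCert (Subgroup.closure (Set.range g1)) (Subgroup.closure (Set.range g2)) g1 6156 r1
    (tblOne.perm (n := 6156) rfl tblOne_spec)
  c2 : CosetCert (Subgroup.closure (Set.range g2)) (Subgroup.closure (Set.range g3)) g2 85 r2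
    (tblTwo.perm (n := 85) rfl tblTwo_spec)
  c3 : CosetCert (Subgroup.closure (Set.range g3)) ⊥ g3 288 r3
    (tblThree.perm (n := 288) rfl tblThree_spec)

theorem stab_two [Finite F] (h2 : (2 : F) = 0) (hω : ω ^ 2 + ω + 1 = 0) {g : Fin 2 → GL F9 F}
    (hg : ∀ s : Fin 2, HasCode ω (g s) (tblTwo.gen s)) {u : GL F9 F}
    (hu : u ∈ Subgroup.closure (Set.range g)) :
    ∃ X, (u : Matrix F9 F9 F) * dm ω baseC = dm ω baseC * X := by
  refine stab_closure _ (Fin.forall_fin_two.mpr ⟨?_, ?_⟩) hu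
  · refine ⟨dm ω stabK0, ?_⟩
    rw [hg 0, ← dm_mulC ω h2 hω, ← dm_mulC ω h2 hω]
    exact congrArg (dm ω) stabK_eq0
  · refine ⟨dm ω stabK1, ?_⟩
    rw [hg 1, ← dm_mulC ω h2 hω, ← dm_mulC ω h2 hω]
    exact congrArg (dm ω) stabK_eq1

theorem stab_three [Finite F] (h2 : (2 : F) = 0) (hω : ω ^ 2 + ω + 1 = 0) {g : Fin 2 → GL F9 F}
    (hg : ∀ s : Fin 2, HasCode ω (g s) (tblThree.gen s)) {u : GL F9 F}
    (hu : u ∈ Subgroup.closure (Set.range g)) :
    ∃ X, (u : Matrix F9 F9 F) * dm ω lineC = dm ω lineC * X := by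
  refine stab_closure _ (Fin.forall_fin_two.mpr ⟨?_, ?_⟩) hu
  · refine ⟨dm ω stabH0, ?_⟩
    rw [hg 0, ← dm_mulC ω h2 hω, ← dm_mulC ω h2 hω]
    exact congrArg (dm ω) stabH_eq0
  · refine ⟨dm ω stabH1, ?_⟩
    rw [hg 1, ← dm_mulC ω h2 hω, ← dm_mulC ω h2 hω]
    exact congrArg (dm ω) stabH_eq1

theorem stabC_mem (h2 : (2 : F) = 0) (hω : ω ^ 2 + ω + 1 = 0) {g2 g3 : Fin 2 → GL F9 F}
    {r2 : Fin 85 → GL F9 F} {r3 : Fin 288 → GL F9 F}
    (hr2 : ∀ i, HasCode ω (r2 i) (tblTwo.rep i)) (hr3 : ∀ i, HasCode ω (r3 i) (tblThree.rep i))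
    (h2m : ∀ i, r2 i ∈ Subgroup.closure (Set.range g2))
    (h3m : ∀ i, r3 i ∈ Subgroup.closure (Set.range g3))
    (hle : Subgroup.closure (Set.range g3) ≤ Subgroup.closure (Set.range g2)) (a c : ℕ) :
    ∃ u ∈ Subgroup.closure (Set.range g2), HasCode ω u (stabC a c) := by
  let a' : Fin 85 := ⟨a % 85, Nat.mod_lt _ (by norm_num)⟩
  let c' : Fin 288 := ⟨c % 288, Nat.mod_lt _ (by norm_num)⟩
  exact ⟨r2 a' * r3 c', mul_mem (h2m a') (hle (h3m c')), (hr2 a').mul h2 hω (hr3 c')⟩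

theorem exists_chain [Fintype F] (h2 : (2 : F) = 0) (hω : ω ^ 2 + ω + 1 = 0) :
    Nonempty (Chain F ω) := by
  obtain ⟨x, hx⟩ := unit_of_inv h2 hω xPow_inv
  obtain ⟨y, hy⟩ := unit_of_inv h2 hω yPow_inv
  let g1 : Fin 2 → GL F9 F := ![x, y]
  have hg1 : ∀ s : Fin 2, HasCode ω (g1 s) (tblOne.gen s) := by
    intro s; fin_cases s
    · exact hx
    · exact hy
  have hw1 : ∀ w : List ℕ, (∀ a ∈ w, a < 2) →
      ∃ u ∈ Subgroup.closure (Set.range g1), HasCode ω u (wordC tblOne.gen w) := fun w hw =>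
    word_exists h2 hω _ _ w fun a ha => gen2_mem hg1 (hw a ha)
  obtain ⟨k0, hk0m, hk0⟩ := hw1 wordK0 (by decide)
  obtain ⟨k1, hk1m, hk1⟩ := hw1 wordK1 (by decide)
  rw [k0_word] at hk0
  rw [k1_word] at hk1
  let g2 : Fin 2 → GL F9 F := ![k0, k1]
  have hg2 : ∀ s : Fin 2, HasCode ω (g2 s) (tblTwo.gen s) := by
    intro s; fin_cases s
    · exact hk0
    · exact hk1
  have hle21 : Subgroup.closure (Set.range g2) ≤ Subgroup.closure (Set.range g1) := by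
    rw [Subgroup.closure_le]
    rintro _ ⟨s, rfl⟩
    fin_cases s
    · exact hk0m
    · exact hk1m
  have hw2 : ∀ w : List ℕ, (∀ a ∈ w, a < 2) →
      ∃ u ∈ Subgroup.closure (Set.range g2), HasCode ω u (wordC tblTwo.gen w) := fun w hw =>
    word_exists h2 hω _ _ w fun a ha => gen2_mem hg2 (hw a ha)
  obtain ⟨n0, hn0m, hn0⟩ := hw2 wordH0 (by decide)
  obtain ⟨n1, hn1m, hn1⟩ := hw2 wordH1 (by decide)
  rw [h0_word] at hn0
  rw [h1_word] at hn1
  let g3 : Fin 2 → GL F9 F := ![n0, n1]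
  have hg3 : ∀ s : Fin 2, HasCode ω (g3 s) (tblThree.gen s) := by
    intro s; fin_cases s
    · exact hn0
    · exact hn1
  have hle32 : Subgroup.closure (Set.range g3) ≤ Subgroup.closure (Set.range g2) := by
    rw [Subgroup.closure_le]
    rintro _ ⟨s, rfl⟩
    fin_cases s
    · exact hn0m
    · exact hn1m
  obtain ⟨r3, hr3, c3⟩ := Tbl.cert h2 hω tblThree (n := 288) rfl tblThree_spec repThree_zero g3 hg3 ⊥
    bot_le (fun s i => ⟨1, one_mem _, hasCode_one⟩) (by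
      intro i hi u hu hc
      rw [Subgroup.mem_bot] at hu
      subst hu
      have e := hc.symm.trans (hasCode_one (ω := ω) (F := F))
      rw [dm_eq_iff hω h2] at e
      have h := of_allUpTo sepThree_ok i (Nat.zero_le _) (by omega)
      rw [sepThreeOK, Bool.or_eq_true] at h
      rcases h with h | h
      · exact hi (Fin.ext (by simpa using Nat.eq_of_beq_eq_true h))
      · rw [e] at h; exact Bool.noConfusion h)
  obtain ⟨r2, hr2, c2⟩ := Tbl.cert h2 hω tblTwo (n := 85) rfl tblTwo_spec repTwo_zero g2 hg2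
    (Subgroup.closure (Set.range g3)) hle32
    (fun s i => ⟨r3 ⟨_ % 288, Nat.mod_lt _ (by norm_num)⟩, c3.rep_mem _, hr3 _⟩) (by
      intro i hi u hu hc
      obtain ⟨X, hX⟩ := stab_three h2 hω hg3 hu
      have h := of_allUpTo sepTwo_ok i (Nat.zero_le _) (by omega)
      rw [sepTwoOK, Bool.or_eq_true] at h
      rcases h with h | h
      · exact hi (Fin.ext (by simpa using Nat.eq_of_beq_eq_true h))
      · apply dm_ne_zero h2 hω h
        rw [dm_mulC ω h2 hω, dm_mulC ω h2 hω, ← hc, mul_assoc, hX, ← mul_assoc,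
          ← dm_mulC ω h2 hω, annLine_line, dm_zero, zero_mul])
  obtain ⟨r1, hr1, c1⟩ := Tbl.cert h2 hω tblOne (n := 6156) rfl tblOne_spec repOne_zero g1 hg1
    (Subgroup.closure (Set.range g2)) hle21
    (fun s i => stabC_mem h2 hω hr2 hr3 c2.rep_mem c3.rep_mem hle32 _ _) (by
      intro i hi u hu hc
      obtain ⟨X, hX⟩ := stab_two h2 hω hg2 hu
      have h := of_allUpTo sepOne_ok i (Nat.zero_le _) (by omega)
      rw [sepOneOK, Bool.or_eq_true] at h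
      rcases h with h | h
      · exact hi (Fin.ext (by simpa using Nat.eq_of_beq_eq_true h))
      · apply dm_ne_zero h2 hω h
        rw [dm_mulC ω h2 hω, dm_mulC ω h2 hω, ← hc, mul_assoc, hX, ← mul_assoc,
          ← dm_mulC ω h2 hω, ann_base, dm_zero, zero_mul])
  exact ⟨⟨g1, g2, g3, r1, r2, r3, hg1, hg2, hg3, hr1, hr2, hr3, c1, c2, c3⟩⟩

namespace Chain

variable [Fintype F] (C : Chain F ω)

/-- The group of the chain. -/
abbrev grp : Subgroup (GL F9 F) := Subgroup.closure (Set.range C.g1)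

theorem card_grp : Nat.card C.grp = 150698880 := by
  rw [C.c1.card_eq, C.c2.card_eq, C.c3.card_eq, Subgroup.card_bot]

omit [Fintype F] in
theorem stabC_mem' (h2 : (2 : F) = 0) (hω : ω ^ 2 + ω + 1 = 0) (a c : ℕ) :
    ∃ u ∈ Subgroup.closure (Set.range C.g2), HasCode ω u (stabC a c) :=
  stabC_mem h2 hω C.hr2 C.hr3 C.c2.rep_mem C.c3.rep_mem C.c2.le a c

omit [Fintype F] in
theorem certC_mem (h2 : (2 : F) = 0) (hω : ω ^ 2 + ω + 1 = 0) (e : ℕ) :
    ∃ u ∈ C.grp, HasCode ω u (certC e) := by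
  obtain ⟨k, hk, hk'⟩ := C.stabC_mem' h2 hω (field e 13 7) (field e 20 9)
  let j : Fin 6156 := ⟨field e 0 13 % 6156, Nat.mod_lt _ (by norm_num)⟩
  exact ⟨C.r1 j * k, mul_mem (C.c1.rep_mem j) (C.c1.le hk), (C.hr1 j).mul h2 hω hk'⟩

theorem genCode_cases : ∀ t < 43, (∃ Z, genCode t = codeA Z) ∨ (∃ Z, genCode t = codeE Z) ∨
    (∃ Z, genCode t = codeD Z) ∨ (∃ Z, Z ≠ 0 ∧ genCode t = codeB Z) ∨
    (∃ Z, Z ≠ 0 ∧ genCode t = codeC Z) := by
  decide +kernel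

theorem grp_eq (h2 : (2 : F) = 0) (hω : ω ^ 2 + ω + 1 = 0) : threeJ3 F ω = C.grp := by
  have key : ∀ (M : Matrix F9 F9 F) (e : ℕ), M = dm ω (certC e) →
      ∃ u ∈ C.grp, (u : Matrix F9 F9 F) = M := by
    intro M e he
    obtain ⟨u, hu, hu'⟩ := C.certC_mem h2 hω e
    exact ⟨u, hu, hu'.trans he.symm⟩
  have hgen : ∀ M ∈ j3Gens F ω, ∃ u ∈ C.grp, (u : Matrix F9 F9 F) = M := by
    intro M hM
    rcases hM with (((⟨Z, rfl⟩ | ⟨Z, rfl⟩) | ⟨Z, rfl⟩) | ⟨Z, hZ, rfl⟩) | ⟨Z, hZ, rfl⟩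
    · exact key _ _ (by rw [codeA_cert Z, dm_codeA hω h2])
    · exact key _ _ (by rw [codeE_cert Z, dm_codeE hω h2])
    · exact key _ _ (by rw [codeD_cert Z, dm_codeD hω h2])
    · exact key _ _ (by rw [codeB_cert Z hZ, dm_codeB hZ])
    · exact key _ _ (by rw [codeC_cert Z hZ, dm_codeC hZ])
  apply le_antisymm
  · rw [threeJ3, Subgroup.closure_le]
    intro g hg
    obtain ⟨u, hu, hu'⟩ := hgen _ hg
    rwa [← Units.ext hu']
  · have hmem : ∀ t < 43, ∃ u ∈ threeJ3 F ω, HasCode ω u (genCode t) := by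
      intro t ht
      have hM : dm ω (genCode t) ∈ j3Gens F ω := by
        rcases genCode_cases t ht with ⟨Z, e⟩ | ⟨Z, e⟩ | ⟨Z, e⟩ | ⟨Z, hZ, e⟩ | ⟨Z, hZ, e⟩ <;> rw [e]
        · exact Or.inl (Or.inl (Or.inl (Or.inl ⟨Z, (dm_codeA hω h2 Z).symm⟩)))
        · exact Or.inl (Or.inl (Or.inl (Or.inr ⟨Z, (dm_codeE hω h2 Z).symm⟩)))
        · exact Or.inl (Or.inl (Or.inr ⟨Z, (dm_codeD hω h2 Z).symm⟩))
        · exact Or.inl (Or.inr ⟨Z, hZ, dm_codeB hZ⟩)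
        · exact Or.inr ⟨Z, hZ, dm_codeC hZ⟩
      obtain ⟨u, -, hu⟩ := hgen _ hM
      refine ⟨u, Subgroup.subset_closure ?_, hu⟩
      show (u : Matrix F9 F9 F) ∈ j3Gens F ω
      rw [hu]; exact hM
    rw [grp, Subgroup.closure_le]
    refine Set.range_subset_iff.mpr (Fin.forall_fin_two.mpr ⟨?_, ?_⟩)
    · obtain ⟨u, hu, hu'⟩ := word_exists h2 hω _ genCode [35, 6, 40, 20, 22, 6, 25]
        fun a ha => hmem a (by fin_cases ha <;> norm_num)
      rw [x_word] at hu'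
      rwa [← HasCode.ext hu' (C.hg1 0)]
    · obtain ⟨u, hu, hu'⟩ := word_exists h2 hω _ genCode [39, 40, 5, 42, 23, 9, 19]
        fun a ha => hmem a (by fin_cases ha <;> norm_num)
      rw [y_word] at hu'
      rwa [← HasCode.ext hu' (C.hg1 1)]

end Chain

end Cfsg.Agent.Lib.J3
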