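import Cfsg.Agent.Lib.J3.Basic
import Cfsg.Agent.Lib.J3.DataReps
import Cfsg.Agent.Lib.J3.DataEdges
import Cfsg.Agent.Lib.J3.DataConst

/-!
# The three coded coset tables
-/

set_option autoImplicit false

namespace Cfsg.Agent.Lib.J3

open Cfsg.Agent.Lib.CosetEnum

/-- Choose by a generator number. -/
noncomputable def sel {α : Type} (a b : α) (s : ℕ) : α := Nat.rec a (fun _ _ => b) s

/-- A coded coset table for two generators. -/
structure Tbl where
  n : ℕ
  rep : ℕ → ℕ
  gen : ℕ → ℕ
  img : ℕ → ℕ → ℕ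
  sub : ℕ → ℕ → ℕ
  pre : ℕ → ℕ → ℕ
  tree : ℕ → ℕ

/-- The check of one point and one generator. -/
noncomputable def Tbl.edgeOK (T : Tbl) (s i : ℕ) : Bool :=
  Nat.beq (mulC (T.gen s) (T.rep i)) (mulC (T.rep (T.img s i)) (T.sub s i)) &&
    (Nat.blt (T.img s i) T.n && (Nat.blt (T.pre s i) T.n && Nat.beq (T.img s (T.pre s i)) i))

/-- The check of one tree node. -/
noncomputable def Tbl.treeOK (T : Tbl) (i : ℕ) : Bool :=
  Nat.beq i 0 || (Nat.blt (field (T.tree i) 0 16) i &&
    (Nat.blt (field (T.tree i) 16 1) 2 &&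
      Nat.beq (T.img (field (T.tree i) 16 1) (field (T.tree i) 0 16)) i))

/-- Both edges and the tree node of a point. -/
noncomputable def Tbl.ok (T : Tbl) (i : ℕ) : Bool :=
  T.edgeOK 0 i && (T.edgeOK 1 i && T.treeOK i)

/-- Representative of level two. -/
noncomputable def repTwoC (a : ℕ) : ℕ := repTwo.get 162 a

/-- Representative of level three. -/
noncomputable def repThreeC (c : ℕ) : ℕ := repThree.get 162 c

/-- An element of the point stabiliser from two indices. -/
noncomputable def stabC (a c : ℕ) : ℕ := mulC (repTwoC (Nat.mod a 85)) (repThreeC (Nat.mod c 288))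

/-- Level three. -/
noncomputable def tblThree : Tbl where
  n := 288
  rep := repThreeC
  gen := sel h0C h1C
  img s := Arr.get 9 (sel edgeThree0 edgeThree1 s)
  sub _ _ := oneC
  pre s := Arr.get 9 (sel invThree0 invThree1 s)
  tree := Arr.get 17 treeThree

/-- Level two. -/
noncomputable def tblTwo : Tbl where
  n := 85
  rep := repTwoC
  gen := sel k0C k1C
  img s i := field (Arr.get 16 (sel edgeTwo0 edgeTwo1 s) i) 0 7
  sub s i := repThreeC (Nat.mod (field (Arr.get 16 (sel edgeTwo0 edgeTwo1 s) i) 7 9) 288)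
  pre s := Arr.get 7 (sel invTwo0 invTwo1 s)
  tree := Arr.get 17 treeTwo

/-- Level one. -/
noncomputable def tblOne : Tbl where
  n := 6156
  rep i := repOne.get 162 i
  gen := sel xC yC
  img s i := field (Arr.get 32 (sel edgeOne0 edgeOne1 s) i) 0 13
  sub s i := stabC (field (Arr.get 32 (sel edgeOne0 edgeOne1 s) i) 13 7)
    (field (Arr.get 32 (sel edgeOne0 edgeOne1 s) i) 20 9)
  pre s := Arr.get 13 (sel invOne0 invOne1 s)
  tree := Arr.get 17 treeOne

end Cfsg.Agent.Lib.J3
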