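import Cfsg.Agent.Lib.J3.Level
import Cfsg.Agent.Lib.J3.Tables

/-!
# From coded tables to coset certificates
-/

set_option autoImplicit false

namespace Cfsg.Agent.Lib.J3

open Cfsg.Spor Cfsg.Agent.Lib.CosetEnum

variable {F : Type*} [Field F] {ω : F}

/-- A unit has the matrix of a code. -/
def HasCode (ω : F) (u : GL F9 F) (c : ℕ) : Prop := (u : Matrix F9 F9 F) = dm ω c

theorem HasCode.mul (h2 : (2 : F) = 0) (hω : ω ^ 2 + ω + 1 = 0) {u v : GL F9 F} {a b : ℕ}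
    (hu : HasCode ω u a) (hv : HasCode ω v b) : HasCode ω (u * v) (mulC a b) := by
  unfold HasCode at *
  rw [Units.val_mul, hu, hv, dm_mulC ω h2 hω]

theorem hasCode_one : HasCode ω (1 : GL F9 F) oneC := by
  unfold HasCode
  rw [Units.val_one, dm_one]

theorem HasCode.ext {u v : GL F9 F} {a : ℕ} (hu : HasCode ω u a) (hv : HasCode ω v a) : u = v :=
  Units.ext (hu.trans hv.symm)

theorem Tbl.edge_spec {T : Tbl} {i : ℕ} (h : T.ok i = true) {s : ℕ} (hs : s < 2) :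
    mulC (T.gen s) (T.rep i) = mulC (T.rep (T.img s i)) (T.sub s i) ∧
      T.img s i < T.n ∧ T.pre s i < T.n ∧ T.img s (T.pre s i) = i := by
  simp only [Tbl.ok, Tbl.edgeOK, Bool.and_eq_true, Nat.blt_eq] at h
  obtain ⟨⟨a1, a2, a3, a4⟩, ⟨b1, b2, b3, b4⟩, -⟩ := h
  interval_cases s
  · exact ⟨Nat.eq_of_beq_eq_true a1, a2, a3, Nat.eq_of_beq_eq_true a4⟩
  · exact ⟨Nat.eq_of_beq_eq_true b1, b2, b3, Nat.eq_of_beq_eq_true b4⟩

theorem Tbl.tree_spec {T : Tbl} {i : ℕ} (h : T.ok i = true) (hi : i ≠ 0) :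
    ∃ s p, s < 2 ∧ p < i ∧ T.img s p = i := by
  simp only [Tbl.ok, Tbl.treeOK, Bool.and_eq_true, Bool.or_eq_true, Nat.blt_eq] at h
  rcases h.2.2 with h0 | ⟨h1, h3, h4⟩
  · exact absurd (Nat.eq_of_beq_eq_true h0) hi
  · exact ⟨_, _, h3, h1, Nat.eq_of_beq_eq_true h4⟩

/-- The permutation of a generator. -/
noncomputable def Tbl.perm (T : Tbl) {n : ℕ} (hn : T.n = n) (hall : ∀ i < n, T.ok i = true)
    (s : Fin 2) (i : Fin n) : Fin n :=
  ⟨T.img s i, hn ▸ (Tbl.edge_spec (hall i i.2) s.2).2.1⟩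

theorem Tbl.cert (h2 : (2 : F) = 0) (hω : ω ^ 2 + ω + 1 = 0) (T : Tbl) {n : ℕ} [NeZero n]
    (hn : T.n = n) (hall : ∀ i < n, T.ok i = true) (hzero : T.rep 0 = oneC)
    (g : Fin 2 → GL F9 F) (hg : ∀ s : Fin 2, HasCode ω (g s) (T.gen s))
    (K : Subgroup (GL F9 F)) (hK : K ≤ Subgroup.closure (Set.range g))
    (hsub : ∀ (s : Fin 2) (i : Fin n), ∃ u ∈ K, HasCode ω u (T.sub s i))
    (hsep : ∀ i : Fin n, i ≠ 0 → ∀ u ∈ K, ¬ HasCode ω u (T.rep i)) :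
    ∃ r : Fin n → GL F9 F, (∀ i, HasCode ω (r i) (T.rep i)) ∧
      CosetCert (Subgroup.closure (Set.range g)) K g n r (T.perm hn hall) := by
  have hex : ∀ i : Fin n, ∃ u, HasCode ω u (T.rep i) := by
    intro i
    induction i using WellFoundedLT.induction with
    | _ i ih =>
      rcases eq_or_ne i 0 with rfl | hi
      · exact ⟨1, by simpa [hzero] using hasCode_one (ω := ω) (F := F)⟩
      have hi' : (i : ℕ) ≠ 0 := fun e => hi (Fin.ext (by simpa using e))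
      obtain ⟨s, p, hs, hp, he⟩ := Tbl.tree_spec (hall i i.2) hi'
      have hpn : p < n := lt_trans hp i.2
      obtain ⟨u, hu⟩ := ih ⟨p, hpn⟩ hp
      obtain ⟨k, -, hk⟩ := hsub ⟨s, hs⟩ ⟨p, hpn⟩
      refine ⟨g ⟨s, hs⟩ * u * k⁻¹, ?_⟩
      have e := (Tbl.edge_spec (hall p hpn) hs).1
      rw [he] at e
      have h := congrArg (dm ω) e
      rw [dm_mulC ω h2 hω, dm_mulC ω h2 hω, ← hk, ← hg ⟨s, hs⟩, ← hu] at h
      unfold HasCode
      rw [Units.val_mul, Units.val_mul, h, Units.mul_inv_cancel_right]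
  choose r hr using hex
  refine ⟨r, hr, ⟨rfl, hK, ?_, ?_, ?_, ?_, ?_⟩⟩
  · refine HasCode.ext (hr 0) ?_
    simpa [hzero] using hasCode_one (ω := ω) (F := F)
  · intro s i
    obtain ⟨k, hk, hkc⟩ := hsub s i
    have e : g s * r i = r (T.perm hn hall s i) * k := by
      refine HasCode.ext ((hg s).mul h2 hω (hr i)) ?_
      rw [(Tbl.edge_spec (hall i i.2) s.2).1]
      exact (hr (T.perm hn hall s i)).mul h2 hω hkc
    rw [e, inv_mul_cancel_left]
    exact hk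
  · intro s i
    obtain ⟨-, -, h1, h3⟩ := Tbl.edge_spec (hall i i.2) s.2
    exact ⟨⟨T.pre s i, hn ▸ h1⟩, Fin.ext h3⟩
  · intro i hi
    have hi' : (i : ℕ) ≠ 0 := fun e => hi (Fin.ext (by simpa using e))
    obtain ⟨s, p, hs, hp, he⟩ := Tbl.tree_spec (hall i i.2) hi'
    exact ⟨⟨s, hs⟩, ⟨p, lt_trans hp i.2⟩, hp, Fin.ext he⟩
  · intro i hi
    by_contra h
    exact hsep i h (r i) hi (hr i)

end Cfsg.Agent.Lib.J3
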