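import Cfsg.Agent.Lib.J3.Main
import Cfsg.Prelude.Def_Classical

/-!
# The triple cover of J₃ inside the special unitary group of dimension nine
-/

set_option autoImplicit false

namespace Cfsg.Agent.Lib.J3

open Cfsg.Spor Matrix

theorem xC_transpose : ∀ w z, bitsAt 2192800278635270238181578591663613652641485030916 w z = bitsAt xC z w := by decide +kernel

theorem xC_conj : ∀ w z,
    bitsAt 828530533172619529848073811856365129606757356610 w z = ((bitsAt xC w z).1 ^^ (bitsAt xC w z).2, (bitsAt xC w z).2) := by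
  decide +kernel

theorem xC_unitary : mulC 2192800278635270238181578591663613652641485030916 828530533172619529848073811856365129606757356610 = oneC := by decide +kernel

theorem yC_transpose : ∀ w z, bitsAt 46174041731374587735326013891116910462651207744 w z = bitsAt yC z w := by decide +kernel

theorem yC_conj : ∀ w z,
    bitsAt 822183918920647882581396027518609288832030474250 w z = ((bitsAt yC w z).1 ^^ (bitsAt yC w z).2, (bitsAt yC w z).2) := by
  decide +kernel

theorem yC_unitary : mulC 46174041731374587735326013891116910462651207744 822183918920647882581396027518609288832030474250 = oneC := by decide +kernel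

variable {F : Type*} [Field F] {ω : F}

/-- Squaring as an additive map in characteristic two. -/
theorem sq_add_char_two (h2 : (2 : F) = 0) (a b : F) : (a + b) ^ 2 = a ^ 2 + b ^ 2 := by
  linear_combination a * b * h2

theorem code_unitary (h2 : (2 : F) = 0) (hω : ω ^ 2 + ω + 1 = 0) {M T U : ℕ}
    (hT : ∀ w z, bitsAt T w z = bitsAt M z w)
    (hU : ∀ w z, bitsAt U w z = ((bitsAt M w z).1 ^^ (bitsAt M w z).2, (bitsAt M w z).2))
    (h : mulC T U = oneC) : (dm ω M)ᵀ * (dm ω M).map (fun a => a ^ 2) = 1 := by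
  have e1 : (dm ω M)ᵀ = dm ω T := by
    rw [dm_eq_of hT]; ext w z; rfl
  have e2 : (dm ω M).map (fun a => a ^ 2) = dm ω U := by
    rw [dm_eq_of hU]
    ext w z
    rw [Matrix.map_apply, Matrix.of_apply, dm_apply]
    unfold bitsAt
    cases Nat.testBit M (9 * ix z + ix w) <;>
      cases Nat.testBit M (81 + (9 * ix z + ix w)) <;> simp [el] <;> grind
  rw [e1, e2, ← dm_mulC ω h2 hω, h, dm_one]

/-- The matrices of determinant one preserving the standard Hermitian form. -/
def unitarySub (h2 : (2 : F) = 0) [Finite F] : Subgroup (GL F9 F) :=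
  let S : Submonoid (GL F9 F) :=
    { carrier := {g | (g : Matrix F9 F9 F).det = 1 ∧
        (g : Matrix F9 F9 F)ᵀ * (g : Matrix F9 F9 F).map (fun a => a ^ 2) = 1}
      one_mem' := by
        refine ⟨by simp, ?_⟩
        rw [Units.val_one, Matrix.transpose_one, Matrix.map_one _ (by simp) (by simp), one_mul]
      mul_mem' := by
        rintro a b ⟨ha, ha'⟩ ⟨hb, hb'⟩
        refine ⟨by rw [Units.val_mul, Matrix.det_mul, ha, hb, one_mul], ?_⟩
        let f : F →+* F :=
          { toFun := fun a => a ^ 2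
            map_one' := one_pow 2
            map_mul' := fun a b => mul_pow a b 2
            map_zero' := zero_pow two_ne_zero
            map_add' := sq_add_char_two h2 }
        have hm : ((a : Matrix F9 F9 F) * (b : Matrix F9 F9 F)).map (fun a => a ^ 2) =
            (a : Matrix F9 F9 F).map (fun a => a ^ 2) * (b : Matrix F9 F9 F).map (fun a => a ^ 2) :=
          Matrix.map_mul (f := f)
        rw [Units.val_mul, Matrix.transpose_mul, hm, mul_assoc, ← mul_assoc _ _ (Matrix.map _ _),
          ha', one_mul, hb'] }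
  { S with
    inv_mem' := by
      intro g hg
      change g⁻¹ ∈ S
      obtain ⟨k, hk⟩ : ∃ k : ℕ, g⁻¹ = g ^ k :=
        ⟨orderOf g - 1, inv_eq_of_mul_eq_one_right (by
          rw [← pow_succ', Nat.sub_add_cancel (orderOf_pos g), pow_orderOf_eq_one])⟩
      rw [hk]
      exact S.pow_mem hg k }

theorem threeJ3_le_unitary [Fintype F] (hF : Fintype.card F = 4) (hω : ω ^ 2 + ω + 1 = 0) :
    threeJ3 F ω ≤ unitarySub (two_eq_zero hF) := by
  have h2 := two_eq_zero hF
  obtain ⟨C⟩ := exists_chain (ω := ω) h2 hω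
  rw [C.grp_eq h2 hω, Chain.grp, Subgroup.closure_le]
  refine Set.range_subset_iff.mpr fun s => ?_
  have h19 : C.g1 s ^ 19 = 1 := by
    refine HasCode.ext (pow_hasCode h2 hω (C.hg1 s) 19) ?_
    fin_cases s
    · rw [show tblOne.gen ((⟨0, by norm_num⟩ : Fin 2) : ℕ) = xC from rfl, xPow_all]
      exact hasCode_one
    · rw [show tblOne.gen ((⟨1, by norm_num⟩ : Fin 2) : ℕ) = yC from rfl, yPow_all]
      exact hasCode_one
  refine ⟨?_, ?_⟩
  · have hd : (C.g1 s : Matrix F9 F9 F).det ^ 19 = 1 := by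
      rw [← Matrix.det_pow, ← Units.val_pow_eq_pow_val, h19, Units.val_one, Matrix.det_one]
    have h0 : (C.g1 s : Matrix F9 F9 F).det ≠ 0 := by
      intro e; rw [e] at hd; simp at hd
    have h3 := FiniteField.pow_card_sub_one_eq_one _ h0
    rw [hF] at h3
    calc (C.g1 s : Matrix F9 F9 F).det
        = ((C.g1 s : Matrix F9 F9 F).det ^ (4 - 1)) ^ 6 * (C.g1 s : Matrix F9 F9 F).det := by
          rw [h3, one_pow, one_mul]
      _ = (C.g1 s : Matrix F9 F9 F).det ^ 19 := by ring
      _ = 1 := hd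
  · rw [C.hg1 s]
    fin_cases s
    · exact code_unitary h2 hω xC_transpose xC_conj xC_unitary
    · exact code_unitary h2 hω yC_transpose yC_conj yC_unitary

/-- Numbering of the index set. -/
noncomputable def ixEquiv : F9 ≃ Fin 9 :=
  Equiv.ofBijective (fun z => ⟨ix z, ix_lt z⟩) (by
    refine ⟨fun a b h => ix_inj a b (congrArg Fin.val h), fun t => ?_⟩
    obtain ⟨z, hz⟩ := ix_surj t t.2
    exact ⟨z, Fin.ext hz⟩)

theorem exists_embedding_SU [Fintype F] (hF : Fintype.card F = 4) (hω : ω ^ 2 + ω + 1 = 0) :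
    ∃ f : ↥(threeJ3 F ω) →* ↥(Cfsg.SU 9 F 2), Function.Injective f := by
  have hle := threeJ3_le_unitary hF hω
  let e := Matrix.reindexAlgEquiv F F ixEquiv
  have hdet : ∀ g : ↥(threeJ3 F ω), (e ((g : GL F9 F) : Matrix F9 F9 F)).det = 1 := fun g => by
    rw [Matrix.coe_reindexAlgEquiv, Matrix.det_reindex_self]
    exact (hle g.2).1
  have hmem : ∀ g : ↥(threeJ3 F ω),
      (⟨e ((g : GL F9 F) : Matrix F9 F9 F), hdet g⟩ : Matrix.SpecialLinearGroup (Fin 9) F) ∈
        Cfsg.SU 9 F 2 := by
    intro g u v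
    have hu := (hle g.2).2
    have h2 := two_eq_zero hF
    let f : F →+* F :=
      { toFun := fun a => a ^ 2
        map_one' := one_pow 2
        map_mul' := fun a b => mul_pow a b 2
        map_zero' := zero_pow two_ne_zero
        map_add' := sq_add_char_two h2 }
    change hermForm 9 F 2 (e ((g : GL F9 F) : Matrix F9 F9 F) *ᵥ u)
      (e ((g : GL F9 F) : Matrix F9 F9 F) *ᵥ v) = hermForm 9 F 2 u v
    set N := e ((g : GL F9 F) : Matrix F9 F9 F) with hN
    have hNN : Nᵀ * N.map (fun a => a ^ 2) = 1 := by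
      have h1 : N.map (fun a => a ^ 2) =
          e (((g : GL F9 F) : Matrix F9 F9 F).map (fun a => a ^ 2)) := rfl
      have h3 : Nᵀ = e ((g : GL F9 F) : Matrix F9 F9 F)ᵀ := rfl
      rw [h1, h3, ← map_mul, hu, map_one]
    have hsq : (fun i => (N *ᵥ v) i ^ 2) = N.map (fun a => a ^ 2) *ᵥ (fun i => v i ^ 2) :=
      funext fun i => RingHom.map_mulVec f N v i
    unfold hermForm
    change (N *ᵥ u) ⬝ᵥ (fun i => (N *ᵥ v) i ^ 2) = u ⬝ᵥ (fun i => v i ^ 2)
    rw [hsq, ← Matrix.vecMul_transpose, ← Matrix.dotProduct_mulVec, Matrix.mulVec_mulVec, hNN,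
      Matrix.one_mulVec]
  refine ⟨⟨⟨fun g => ⟨⟨_, hdet g⟩, hmem g⟩, ?_⟩, ?_⟩, ?_⟩
  · refine Subtype.ext (Subtype.ext ?_)
    simp [e]
  · intro a b
    refine Subtype.ext (Subtype.ext ?_)
    exact map_mul e _ _
  · intro a b h
    have h' := congrArg (fun x : ↥(Cfsg.SU 9 F 2) =>
      ((x : Matrix.SpecialLinearGroup (Fin 9) F) : Matrix (Fin 9) (Fin 9) F)) h
    exact Subtype.ext (Units.ext (e.injective h'))

end Cfsg.Agent.Lib.J3
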